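import Mathlib
import Cfsg.Prelude.Def_ConjugacyFunctors
import Cfsg.Agent.Lib.ZJ.Complement
import Cfsg.Agent.Lib.PStable.AbelianResidual

/-!
Normal `p`-complements from an isomorphism-invariant functor: a minimal counterexample reduces to a
section in which `O_p` is self-centralizing, the quotient has an abelian normal `p`-complement and
a Sylow subgroup is maximal.
-/

set_option autoImplicit false
set_option linter.style.haveILetI false
set_option linter.unusedSectionVars false

open scoped commutatorElement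

namespace CfsgLib.Conjugacy

open CfsgLib.Transfer CfsgLib.ZJ

universe u

variable {p : ℕ} [hp : Fact p.Prime] {W : ∀ (Q : Type u) [Group Q], Subgroup Q}

theorem le (_hW : Cfsg.IsCharPFunctor.{u} p W) {G : Type u} [Group G] (P : Subgroup G) :
    Cfsg.inducedFunctor W P ≤ P :=
  Subgroup.map_subtype_le _

theorem ne_bot (hW : Cfsg.IsCharPFunctor.{u} p W) {G : Type u} [Group G] [Finite G]
    {P : Subgroup G} (hP : IsPGroup p P) (hP1 : P ≠ ⊥) : Cfsg.inducedFunctor W P ≠ ⊥ := fun h =>
  hW.1 P hP ((Subgroup.nontrivial_iff_ne_bot P).mpr hP1)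
    ((Subgroup.map_eq_bot_iff_of_injective _ P.subtype_injective).mp h)

theorem map (hW : Cfsg.IsCharPFunctor.{u} p W) {G G' : Type u} [Group G] [Group G'] [Finite G]
    (f : G →* G') {P : Subgroup G} (hP : IsPGroup p P) (hf : Set.InjOn f (P : Set G)) :
    (Cfsg.inducedFunctor W P).map f = Cfsg.inducedFunctor W (P.map f) := by
  let e : P ≃* P.map f := MulEquiv.ofBijective (f.subgroupMap P)
    ⟨fun a b h => Subtype.ext (hf a.2 b.2 (congrArg Subtype.val h)), f.subgroupMap_surjective P⟩
  show ((W P).map P.subtype).map f = (W ↥(P.map f)).map (P.map f).subtype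
  rw [← hW.2 P (P.map f) hP e, Subgroup.map_map, Subgroup.map_map]
  rfl

theorem normalizer_le (hW : Cfsg.IsCharPFunctor.{u} p W) {G : Type u} [Group G] [Finite G]
    {P : Subgroup G} (hP : IsPGroup p P) :
    Subgroup.normalizer (P : Set G) ≤ Subgroup.normalizer (Cfsg.inducedFunctor W P : Set G) := by
  intro g hg
  rw [Coprime.mem_normalizer_iff_conj_smul, Subgroup.pointwise_smul_def] at *
  exact (map hW _ hP (MulEquiv.injective (MulAut.conj g)).injOn).trans (congrArg _ hg)

/-- A normal `p`-complement in `N(W(P))`. -/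
def Hyp (p : ℕ) (W : ∀ (Q : Type u) [Group Q], Subgroup Q) {G : Type u} [Group G]
    (P : Subgroup G) : Prop :=
  Cfsg.HasNormalPComplement p ↥(Subgroup.normalizer (Cfsg.inducedFunctor W P : Set G))

theorem hyp_of_map (hW : Cfsg.IsCharPFunctor.{u} p W) {G H : Type u} [Group G] [Finite G] [Group H]
    [Finite H] (f : H →* G) (hf : Function.Injective f) {T : Subgroup H} (hT : IsPGroup p T)
    (h : Hyp p W (T.map f)) : Hyp p W T := by
  rw [Hyp, ← map hW f hT hf.injOn] at h
  exact hasNormalPComplement_of_injective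
    ((Subgroup.inclusion (Subgroup.le_normalizer_map f)).comp (f.subgroupMap _))
    ((Subgroup.inclusion_injective (Subgroup.le_normalizer_map f)).comp fun a b hab => Subtype.ext
      (hf (congrArg Subtype.val hab :))) h

theorem hyp_sylow (hW : Cfsg.IsCharPFunctor.{u} p W) {G : Type u} [Group G] [Finite G]
    (S S' : Sylow p G) (h : Hyp p W (S : Subgroup G)) : Hyp p W (S' : Subgroup G) := by
  obtain ⟨g, hg⟩ := exists_map_conj_sylow_eq S' S
  exact hyp_of_map hW (MulAut.conj g).toMonoidHom (MulAut.conj g).injective S'.2 (hg ▸ h)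

/-- `X` is a section of `G₀`. -/
def Sect (G₀ X : Type u) [Group G₀] [Group X] : Prop :=
  ∃ (H : Subgroup G₀) (f : H →* X), Function.Surjective f

theorem Sect.refl (G₀ : Type u) [Group G₀] : Sect G₀ G₀ :=
  ⟨⊤, (⊤ : Subgroup G₀).subtype, fun x => ⟨⟨x, Subgroup.mem_top x⟩, rfl⟩⟩

theorem Sect.quotient {G₀ X Y : Type u} [Group G₀] [Group X] [Group Y] (h : Sect G₀ X) (g : X →* Y)
    (hg : Function.Surjective g) : Sect G₀ Y := by
  obtain ⟨H, f, hf⟩ := h
  exact ⟨H, g.comp f, hg.comp hf⟩

theorem Sect.subgroup {G₀ X : Type u} [Group G₀] [Group X] (h : Sect G₀ X) (Y : Subgroup X) :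
    Sect G₀ Y := by
  obtain ⟨H, f, hf⟩ := h
  refine ⟨(Y.comap f).map H.subtype,
    (f.subgroupComap Y).comp
      ((Y.comap f).equivMapOfInjective H.subtype H.subtype_injective).symm.toMonoidHom, ?_⟩
  rw [MonoidHom.coe_comp]
  refine Function.Surjective.comp ?_
    ((Y.comap f).equivMapOfInjective H.subtype H.subtype_injective).symm.surjective
  rintro ⟨y, hy⟩
  obtain ⟨x, rfl⟩ := hf y
  exact ⟨⟨x, hy⟩, rfl⟩

/-- The configuration at the end of the induction. -/
structure Critical (p : ℕ) (W : ∀ (Q : Type u) [Group Q], Subgroup Q) (X : Type u) [Group X]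
    (T : Sylow p X) : Prop where
  constrained : Subgroup.centralizer (Cfsg.pCore p X : Set X) ≤ Cfsg.pCore p X
  quotient : ∀ N : Subgroup X, ∀ [N.Normal], N = Cfsg.pCore p X →
    Cfsg.HasNormalPComplement p (X ⧸ N)
  coatom : IsCoatom (T : Subgroup X)
  abelian : PStable.AbelianResidual p X
  hyp : Hyp p W (T : Subgroup X)

theorem complement_aux {G₀ : Type u} [Group G₀] (hW : Cfsg.IsCharPFunctor.{u} p W)
    (hcrit : ∀ (X : Type u) [Group X] [Finite X] (T : Sylow p X), Sect G₀ X → Critical p W X T →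
      Cfsg.HasNormalPComplement p X) (n : ℕ) :
    ∀ (G : Type u) [Group G] [Finite G], Nat.card G = n → Sect G₀ G → ∀ S : Sylow p G,
      Hyp p W (S : Subgroup G) → Cfsg.HasNormalPComplement p G := by
  induction n using Nat.strong_induction_on with
  | _ n IH =>
  intro G _ _ hn hsec S hS
  classical
  by_contra hcon
  have hG := hcon
  -- proper subgroups with the hypotheses
  have hsub : ∀ H : Subgroup G, H ≠ ⊤ → ∀ T : Sylow p H,
      Hyp p W ((T : Subgroup H).map H.subtype) → Cfsg.HasNormalPComplement p H := by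
    intro H hH T hT
    have hlt : Nat.card H < n := hn ▸ lt_of_le_of_ne (Subgroup.card_le_card_group H)
      (fun h => hH (Subgroup.eq_top_of_card_eq H h))
    exact IH _ hlt H rfl (hsec.subgroup H) T (hyp_of_map hW H.subtype H.subtype_injective T.2 hT)
  have hsubS : ∀ H : Subgroup G, H ≠ ⊤ → (S : Subgroup G) ≤ H →
      Cfsg.HasNormalPComplement p H := fun H hH hSH => by
    refine hsub H hH (S.subtype hSH) ?_
    rw [Sylow.coe_subtype, Subgroup.map_subgroupOf_eq_of_le hSH]
    exact hS
  -- the maximal bad local subgroup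
  haveI := Fintype.ofFinite (Subgroup G)
  let bad : Subgroup G → Prop := fun Q => IsPGroup p Q ∧ Q ≠ ⊥ ∧
    ¬ Cfsg.HasNormalPComplement p ↥(Subgroup.normalizer (Q : Set G))
  obtain ⟨U, ⟨hU, hU1, hUN⟩, hUmax⟩ : ∃ U, bad U ∧ ∀ Q, bad Q →
      sylowCard p (Subgroup.normalizer (Q : Set G)) < sylowCard p (Subgroup.normalizer (U : Set G)) ∨
      sylowCard p (Subgroup.normalizer (Q : Set G)) = sylowCard p (Subgroup.normalizer (U : Set G))
        ∧ Nat.card Q ≤ Nat.card U := by
    obtain ⟨Q₀, hQ₀⟩ : ∃ Q, bad Q := by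
      by_contra h
      exact hG (hasNormalPComplement_of_normalizers fun Q hQ hQ1 =>
        by_contra fun hc => h ⟨Q, hQ, hQ1, hc⟩)
    obtain ⟨U₁, hU₁, h₁⟩ := Finset.exists_max_image (Finset.univ.filter bad)
      (fun Q => sylowCard p (Subgroup.normalizer (Q : Set G))) ⟨Q₀, by simp [hQ₀]⟩
    obtain ⟨U, hU, h₂⟩ := Finset.exists_max_image (Finset.univ.filter fun Q => bad Q ∧
      sylowCard p (Subgroup.normalizer (Q : Set G)) = sylowCard p (Subgroup.normalizer (U₁ : Set G)))
      (fun Q => Nat.card Q) ⟨U₁, by simpa using hU₁⟩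
    simp only [Finset.mem_filter, Finset.mem_univ, true_and] at hU h₁ h₂
    refine ⟨U, hU.1, fun Q hQ => ?_⟩
    rcases lt_or_eq_of_le (h₁ Q hQ) with h | h
    · exact Or.inl (hU.2 ▸ h)
    · exact Or.inr ⟨h.trans hU.2.symm, h₂ Q ⟨hQ, h⟩⟩
  set N := Subgroup.normalizer (U : Set G) with hN
  -- `U` is normal
  have hNtop : N = ⊤ := by
    by_contra hNtop
    let T : Sylow p N := default
    set TG := (T : Subgroup N).map N.subtype with hTG
    have hTGp : IsPGroup p TG := T.2.map _
    have hUT : U ≤ TG := by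
      haveI : (U.subgroupOf N).Normal :=
        (Subgroup.normal_subgroupOf_iff_le_normalizer Subgroup.le_normalizer).mpr le_rfl
      haveI : (U.comap N.subtype).Normal := ‹(U.subgroupOf N).Normal›
      have h := (T.3 ((hU.comap_of_injective N.subtype N.subtype_injective).to_sup_of_normal_left
        T.2) le_sup_right)
      have h' : U.subgroupOf N ≤ (T : Subgroup N) := le_sup_left.trans h.le
      rw [hTG, ← Subgroup.map_subgroupOf_eq_of_le (Subgroup.le_normalizer : U ≤ N)]
      exact Subgroup.map_mono h'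
    obtain ⟨S', hS'⟩ := hTGp.exists_le_sylow
    refine hUN (hsub N hNtop T ?_)
    rcases hS'.eq_or_lt with h | h
    · rw [show (T : Subgroup N).map N.subtype = (S' : Subgroup G) from h]
      exact hyp_sylow hW S S' hS
    · have hgrow := lt_inf_normalizer S'.2 h
      have key : ∀ X : Subgroup G, IsPGroup p X → X ≠ ⊥ →
          Subgroup.normalizer (TG : Set G) ≤ Subgroup.normalizer (X : Set G) →
          Cfsg.HasNormalPComplement p ↥(Subgroup.normalizer (X : Set G)) := by
        intro X hX hX1 hle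
        by_contra hbad
        have h1 : Nat.card TG < sylowCard p (Subgroup.normalizer (X : Set G)) :=
          (Set.ncard_lt_ncard hgrow (Set.toFinite _)).trans_le (card_le_sylowCard
            (S'.2.to_le inf_le_left) (inf_le_right.trans hle))
        have h2 : sylowCard p N = Nat.card TG := by
          rw [hTG, Subgroup.card_map_of_injective N.subtype_injective]
          rfl
        rcases hUmax X ⟨hX, hX1, hbad⟩ with h3 | ⟨h3, -⟩ <;> omega
      exact key _ (hTGp.to_le (le hW TG)) (ne_bot hW hTGp (ne_bot_of_le_ne_bot hU1 hUT))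
        (normalizer_le hW hTGp)
  haveI hUn : U.Normal := Subgroup.normalizer_eq_top_iff.mp hNtop
  have hUS : U ≤ (S : Subgroup G) := by
    have h := (S.3 (hU.to_sup_of_normal_left S.2) le_sup_right)
    exact le_sup_left.trans h.le
  -- `U = O_p(G)`; larger subgroups normal in `S` have good normalizers
  have hbigger : ∀ V : Subgroup G, IsPGroup p V → Nat.card U < Nat.card V →
      (S : Subgroup G) ≤ Subgroup.normalizer (V : Set G) →
      Cfsg.HasNormalPComplement p ↥(Subgroup.normalizer (V : Set G)) := by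
    intro V hV hlt hSV
    by_contra hbad
    have hV1 : V ≠ ⊥ := by
      rintro rfl
      rw [Subgroup.card_bot] at hlt
      exact absurd hlt (not_lt.mpr Nat.card_pos)
    have h1 : sylowCard p N ≤ sylowCard p (Subgroup.normalizer (V : Set G)) :=
      (sylowCard_le N S).trans (card_le_sylowCard S.2 hSV)
    rcases hUmax V ⟨hV, hV1, hbad⟩ with h2 | ⟨-, h2⟩ <;> omega
  have hUcore : U = Cfsg.pCore p G := by
    refine Subgroup.eq_of_le_of_card_ge (Fitting.le_pCore hUn hU) ?_
    by_contra h
    haveI := Fitting.pCore_normal (G := G) p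
    refine hG (hasNPC_top.mp ?_)
    rw [← Subgroup.normalizer_eq_top (Cfsg.pCore p G)]
    exact hbigger _ (Fitting.pCore_isPGroup p) (not_le.mp h) (by simp [Subgroup.normalizer_eq_top])
  -- `O_{p'}(G) = 1`
  have hO : Cfsg.pPrimeCore p G = ⊥ := by
    by_contra hne
    haveI := pPrimeCore_normal p G
    set f := QuotientGroup.mk' (Cfsg.pPrimeCore p G) with hf
    have hfs : Function.Surjective f := QuotientGroup.mk'_surjective _
    have hker : (Nat.card f.ker).Coprime p := by
      rw [hf, QuotientGroup.ker_mk']; exact pPrimeCore_coprime p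
    have hlt : Nat.card (G ⧸ Cfsg.pPrimeCore p G) < n := by
      rw [← hn, Subgroup.card_eq_card_quotient_mul_card_subgroup (Cfsg.pPrimeCore p G)]
      exact lt_mul_of_one_lt_right Nat.card_pos ((Subgroup.one_lt_card_iff_ne_bot _).mpr hne)
    have hinj : Set.InjOn f ((S : Subgroup G) : Set G) := fun a ha b hb h => by
      refine inv_mul_eq_one.mp (PSolvable.eq_one_of_mem_of_mem S.2 hker (mul_mem (inv_mem ha) hb) ?_)
      rw [MonoidHom.mem_ker, map_mul, map_inv, h, inv_mul_cancel]
    have hT : Hyp p W (↑(S.mapSurjective hfs) : Subgroup (G ⧸ Cfsg.pPrimeCore p G)) := by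
      rw [Sylow.coe_mapSurjective, Hyp, ← map hW f S.2 hinj,
        ← PSolvable.map_normalizer_eq hfs hker (S.2.to_le (le hW _))]
      exact hasNormalPComplement_of_surjective _ (f.subgroupMap_surjective _) hS
    exact hG (hasNPC_of_ker f hfs hker (IH _ hlt _ rfl (hsec.quotient f hfs) _ hT))
  -- the quotient by `U`
  set π := QuotientGroup.mk' U with hπ
  have hπs : Function.Surjective π := QuotientGroup.mk'_surjective U
  set Sb : Sylow p (G ⧸ U) := S.mapSurjective hπs with hSb
  have hSb1 : (Sb : Subgroup (G ⧸ U)) ≠ ⊥ := by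
    intro h
    rw [hSb, Sylow.coe_mapSurjective, Subgroup.map_eq_bot_iff, hπ, QuotientGroup.ker_mk'] at h
    refine hG (hasNPC_top.mp (hasNPC_of_le ?_ hS))
    rw [le_antisymm h hUS, ← Subgroup.normalizer_eq_top U]
    exact normalizer_le hW hU
  have hltU : Nat.card (G ⧸ U) < n := by
    rw [← hn, Subgroup.card_eq_card_quotient_mul_card_subgroup U]
    exact lt_mul_of_one_lt_right Nat.card_pos ((Subgroup.one_lt_card_iff_ne_bot U).mpr hU1)
  have hquot : ∀ Q : Subgroup (G ⧸ U), IsPGroup p Q → Q ≠ ⊥ →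
      (Sb : Subgroup (G ⧸ U)) ≤ Subgroup.normalizer (Q : Set (G ⧸ U)) →
      Cfsg.HasNormalPComplement p ↥(Subgroup.normalizer (Q : Set (G ⧸ U))) := by
    intro Q hQ hQ1 hSQ
    have hV : IsPGroup p ↥(Q.comap π) :=
      hQ.comap_of_ker_isPGroup π (by rw [hπ, QuotientGroup.ker_mk']; exact hU)
    have hcard : Nat.card U < Nat.card ↥(Q.comap π) := by
      rw [PSolvable.card_comap_of_surjective hπs, hπ, QuotientGroup.ker_mk']
      exact lt_mul_of_one_lt_right Nat.card_pos ((Subgroup.one_lt_card_iff_ne_bot Q).mpr hQ1)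
    have hN' := hbigger _ hV hcard (by
      rw [← Subgroup.comap_normalizer_eq_of_surjective Q hπs, ← Subgroup.map_le_iff_le_comap]
      rwa [hSb, Sylow.coe_mapSurjective] at hSQ)
    rw [← Subgroup.map_comap_eq_self_of_surjective hπs (Subgroup.normalizer (Q : Set (G ⧸ U))),
      Subgroup.comap_normalizer_eq_of_surjective Q hπs]
    exact hasNormalPComplement_of_surjective _ (π.subgroupMap_surjective _) hN'
  have hquotNPC : Cfsg.HasNormalPComplement p (G ⧸ U) :=
    IH _ hltU _ rfl (hsec.quotient π hπs) Sb (hquot _ (Sb.2.to_le (le hW _)) (ne_bot hW Sb.2 hSb1)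
      (Subgroup.le_normalizer.trans (normalizer_le hW Sb.2)))
  set Kb := Cfsg.pResidual p (G ⧸ U) with hKb
  haveI hKn : Kb.Normal := pResidual_normal p _
  have hKc : (Nat.card Kb).Coprime p :=
    (hp.out.coprime_iff_not_dvd.mpr (hasNormalPComplement_iff_pResidual.mp hquotNPC)).symm
  -- `C(U) ≤ U`
  have hsol : Cfsg.IsPSolvable p G := by
    refine PSolvable.isPSolvable_of_quotient U (Or.inl hU)
      (PSolvable.isPSolvable_of_quotient Kb (Or.inr hKc)
        (PSolvable.isPSolvable_of_isSolvable ?_))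
    haveI := (isPGroup_quotient_pResidual (p := p) (G := G ⧸ U)).isNilpotent
    exact inferInstance
  have hCU : Subgroup.centralizer (U : Set G) ≤ U := by
    have h := PSolvable.centralizer_pCore_le hsol hO
    rwa [← hUcore] at h
  -- `S̄` acts irreducibly on `K̄`
  have hmin : ∀ L : Subgroup (G ⧸ U), L ≤ Kb →
      (Sb : Subgroup (G ⧸ U)) ≤ Subgroup.normalizer (L : Set (G ⧸ U)) → L = ⊥ ∨ L = Kb := by
    intro L hLK hSL
    have hcop : (Nat.card L).Coprime p := hKc.coprime_dvd_left (Subgroup.card_dvd_of_le hLK)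
    have hdL : L ⊓ (Sb : Subgroup (G ⧸ U)) = ⊥ :=
      Coprime.inf_eq_bot_of_coprime_card (PSolvable.coprime_card_of_isPGroup Sb.2 hcop).symm
    by_cases htop : L ⊔ (Sb : Subgroup (G ⧸ U)) = ⊤
    · right
      refine Subgroup.eq_of_le_of_card_ge hLK ?_
      have h1 := Coprime.card_sup_mul_card_inf hSL
      rw [htop, hdL, Subgroup.card_bot, mul_one, Subgroup.card_top] at h1
      have h2 := Coprime.card_sup_mul_card_inf (K := Kb) (S := (Sb : Subgroup (G ⧸ U)))
        Subgroup.le_normalizer_of_normal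
      rw [sup_sylow_eq_top Sb, Subgroup.card_top, Coprime.inf_eq_bot_of_coprime_card
        (PSolvable.coprime_card_of_isPGroup Sb.2 hKc).symm, Subgroup.card_bot, mul_one, h1] at h2
      exact (Nat.eq_of_mul_eq_mul_right Nat.card_pos h2).ge
    · left
      set H := (L ⊔ (Sb : Subgroup (G ⧸ U))).comap π with hH
      have hHtop : H ≠ ⊤ := fun h => htop (by
        rw [← Subgroup.map_comap_eq_self_of_surjective hπs (L ⊔ _), ← hH, h,
          Subgroup.map_top_of_surjective _ hπs])
      have hSH : (S : Subgroup G) ≤ H := by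
        rw [hH, ← Subgroup.map_le_iff_le_comap]
        exact le_trans (le_of_eq (by rw [hSb, Sylow.coe_mapSurjective])) le_sup_right
      have hHp : IsPGroup p H := isPGroup_of_hasNPC hU hCU (hUS.trans hSH) (hsubS H hHtop hSH)
      have hLp : IsPGroup p L := by
        refine (hHp.map π).to_le ?_
        rw [hH, Subgroup.map_comap_eq_self_of_surjective hπs]
        exact le_sup_left
      rw [eq_bot_iff]
      intro x hx
      rw [Subgroup.mem_bot]
      exact PSolvable.eq_one_of_mem_of_mem hLp hcop hx hx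
  have hK1 : Kb ≠ ⊥ := by
    intro h
    refine hG (hasNormalPComplement_of_isPGroup ?_)
    have hq : IsPGroup p (G ⧸ U) := by
      have hq' : IsPGroup p ((G ⧸ U) ⧸ Kb) := isPGroup_quotient_pResidual
      refine hq'.of_injective (QuotientGroup.mk' Kb) ?_
      rw [← MonoidHom.ker_eq_bot_iff, QuotientGroup.ker_mk', h]
    have h2 := (hq.to_subgroup ⊤).comap_of_ker_isPGroup π (by rw [hπ, QuotientGroup.ker_mk']; exact hU)
    rw [Subgroup.comap_top] at h2
    exact h2.of_equiv Subgroup.topEquiv
  -- `K̄` is an abelian `q`-group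
  obtain ⟨q, hq, hKq⟩ : ∃ q, q.Prime ∧ IsPGroup q Kb := by
    obtain ⟨q, hq, hqd⟩ := Nat.exists_prime_and_dvd (fun h => hK1 (Subgroup.card_eq_one.mp h))
    haveI := Fact.mk hq
    haveI : Group.IsNilpotent (Sb : Subgroup (G ⧸ U)) := Sb.2.isNilpotent
    obtain ⟨Q, hQ⟩ := Coprime.exists_invariant_sylow (A := (Sb : Subgroup (G ⧸ U))) (K := Kb)
      Subgroup.le_normalizer_of_normal (PSolvable.coprime_card_of_isPGroup Sb.2 hKc)
      (Or.inl inferInstance) q
    refine ⟨q, hq, ?_⟩
    rcases hmin _ (Subgroup.map_subtype_le _) hQ with h | h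
    · exact absurd ((Subgroup.map_eq_bot_iff_of_injective _ Kb.subtype_injective).mp h)
        (Q.ne_bot_of_dvd_card hqd)
    · rw [← h]; exact Q.2.map _
  haveI := Fact.mk hq
  have hKab : ∀ x ∈ Kb, ∀ y ∈ Kb, x * y = y * x := by
    rcases hmin ⁅Kb, Kb⁆ (Subgroup.commutator_le_self Kb) (Subgroup.le_normalizer_of_normal) with h | h
    · exact fun x hx y hy => (Subgroup.commutator_eq_bot_iff_le_centralizer.mp h hy x hx)
    · haveI := hKq.isNilpotent
      exact absurd (eq_bot_of_le_commutator_self h.ge) hK1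
  have hab : PStable.AbelianResidual p G := by
    haveI := pResidual_normal p G
    refine hU.to_le ?_
    rw [← QuotientGroup.ker_mk' U, ← hπ, ← Subgroup.map_eq_bot_iff, Subgroup.map_commutator,
      map_pResidual π hπs, ← hKb, Subgroup.commutator_eq_bot_iff_le_centralizer]
    exact fun x hx y hy => hKab y hy x hx
  refine hG (hcrit G S hsec ⟨by rw [← hUcore]; exact hCU, ?_, ⟨?_, ?_⟩, hab, hS⟩)
  · intro N hN hNeq
    obtain rfl : N = U := hNeq.trans hUcore.symm
    exact hquotNPC
  · intro htop
    exact hG (hasNormalPComplement_of_isPGroup ((htop ▸ S.2 : IsPGroup p ↥(⊤ : Subgroup G)).of_equiv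
      Subgroup.topEquiv))
  · intro H hlt
    by_contra htop
    exact hlt.ne (S.3 (isPGroup_of_hasNPC hU hCU (hUS.trans hlt.le) (hsubS H htop hlt.le)) hlt.le).symm

/-- A normal `p`-complement, once the critical sections have one. -/
theorem hasNormalPComplement_of_critical {G : Type u} [Group G] [Finite G]
    (hW : Cfsg.IsCharPFunctor.{u} p W) (S : Sylow p G) (hS : Hyp p W (S : Subgroup G))
    (hcrit : ∀ (X : Type u) [Group X] [Finite X] (T : Sylow p X), Sect G X → Critical p W X T →
      Cfsg.HasNormalPComplement p X) :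
    Cfsg.HasNormalPComplement p G :=
  complement_aux hW hcrit _ G rfl (Sect.refl G) S hS

/-- A section presented as a quotient of a subgroup, with the critical configuration. -/
theorem exists_quotient_of_sect {G : Type u} [Group G] [Finite G] {X : Type u} [Group X] [Finite X]
    {T : Sylow p X} (hW : Cfsg.IsCharPFunctor.{u} p W) (hsec : Sect G X) (hc : Critical p W X T) :
    ∃ (K R : Subgroup G) (_ : (R.subgroupOf K).Normal) (T' : Sylow p (↥K ⧸ R.subgroupOf K)),
      Critical p W (↥K ⧸ R.subgroupOf K) T' ∧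
        (Cfsg.HasNormalPComplement p (↥K ⧸ R.subgroupOf K) → Cfsg.HasNormalPComplement p X) := by
  obtain ⟨H, f, hf⟩ := hsec
  have hR : (f.ker.map H.subtype).subgroupOf H = f.ker :=
    Subgroup.comap_map_eq_self_of_injective H.subtype_injective _
  haveI hn : ((f.ker.map H.subtype).subgroupOf H).Normal := by rw [hR]; infer_instance
  let e : X ≃* ↥H ⧸ (f.ker.map H.subtype).subgroupOf H :=
    (QuotientGroup.quotientKerEquivOfSurjective f hf).symm.trans
      (QuotientGroup.quotientMulEquivOfEq hR.symm)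
  refine ⟨H, f.ker.map H.subtype, hn, T.mapSurjective (f := e.toMonoidHom) e.surjective, ?_,
    fun h => (hasNormalPComplement_congr e).mpr h⟩
  have hcore : (Cfsg.pCore p X).map e.toMonoidHom = Cfsg.pCore p _ := by
    refine le_antisymm (Fitting.le_pCore (Subgroup.Normal.map (Fitting.pCore_normal p) _ e.surjective)
      ((Fitting.pCore_isPGroup p).map _)) fun y hy => ⟨e.symm y, ?_, e.apply_symm_apply y⟩
    exact Fitting.le_pCore (Subgroup.Normal.map (Fitting.pCore_normal p) e.symm.toMonoidHom
      e.symm.surjective) ((Fitting.pCore_isPGroup p).map _) ⟨y, hy, rfl⟩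
  refine ⟨fun c hcc => ?_, ?_, ?_, ?_, ?_⟩
  · rw [← hcore] at hcc ⊢
    refine ⟨e.symm c, hc.constrained fun x hx => ?_, e.apply_symm_apply c⟩
    apply e.injective
    rw [map_mul, map_mul, e.apply_symm_apply]
    exact hcc _ ⟨x, hx, rfl⟩
  · intro N hN hNeq
    haveI := Fitting.pCore_normal (G := X) p
    refine (hasNormalPComplement_congr (QuotientGroup.congr (Cfsg.pCore p X) N e ?_)).mp
      (hc.quotient _ rfl)
    rw [hNeq, ← hcore]
    rfl
  · exact (e.mapSubgroup.isCoatom_iff _).mpr hc.coatom
  · exact hc.abelian.of_surjective e.toMonoidHom e.surjective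
  · refine hyp_of_map hW e.symm.toMonoidHom e.symm.injective (Sylow.isPGroup' _) ?_
    rw [show ((T.mapSurjective (f := e.toMonoidHom) e.surjective : Sylow p _) : Subgroup _) =
      (T : Subgroup X).map e.toMonoidHom from rfl, Subgroup.map_map,
      show e.symm.toMonoidHom.comp e.toMonoidHom = MonoidHom.id X from
        MonoidHom.ext e.symm_apply_apply, Subgroup.map_id]
    exact hc.hyp

end CfsgLib.Conjugacy
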