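import Mathlib
import Cfsg.Prelude.Def_ConjugacyFunctors
import Cfsg.Agent.Lib.Transfer.Sylow
import Cfsg.Agent.Lib.Transfer.Alperin

/-!
The fusion of subgroups of `S` generated by a set of subgroups `Ns`: the maps obtained by chains of
conjugations inside members of `Ns`.
-/

set_option autoImplicit false
set_option linter.style.haveILetI false
set_option linter.unusedSectionVars false

namespace CfsgLib.Conjugacy

/-- `g P g⁻¹`. -/
abbrev cj {G : Type*} [Group G] (g : G) (P : Subgroup G) : Subgroup G :=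
  P.map (MulAut.conj g).toMonoidHom

section cj

variable {G H : Type*} [Group G] [Group H]

theorem cj_cj (g h : G) (P : Subgroup G) : cj h (cj g P) = cj (h * g) P := by
  rw [cj, cj, cj, Subgroup.map_map]
  congr 1
  ext x
  simp [mul_assoc]

theorem cj_one (P : Subgroup G) : cj 1 P = P := by
  rw [cj, show (MulAut.conj (1 : G)).toMonoidHom = MonoidHom.id G by ext x; simp, Subgroup.map_id]

theorem mem_cj {g x : G} {P : Subgroup G} : x ∈ cj g P ↔ g⁻¹ * x * g ∈ P := by
  rw [cj, Subgroup.mem_map]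
  constructor
  · rintro ⟨y, hy, rfl⟩
    simpa [mul_assoc] using hy
  · intro h
    exact ⟨g⁻¹ * x * g, h, by simp [mul_assoc]⟩

theorem conj_mem_cj {g x : G} {P : Subgroup G} (hx : x ∈ P) : g * x * g⁻¹ ∈ cj g P :=
  Subgroup.mem_map_of_mem _ hx

theorem map_cj (f : G →* H) (g : G) (P : Subgroup G) : (cj g P).map f = cj (f g) (P.map f) := by
  rw [cj, cj, Subgroup.map_map, Subgroup.map_map]
  congr 1
  ext x
  simp

theorem cj_eq_of_mem_normalizer {g : G} {P : Subgroup G} (hg : g ∈ Subgroup.normalizer (P : Set G)) :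
    cj g P = P :=
  Subgroup.mem_normalizer_iff_map_conj_eq.mp hg

theorem cj_mono (g : G) {P Q : Subgroup G} (h : P ≤ Q) : cj g P ≤ cj g Q := Subgroup.map_mono h

theorem card_cj (g : G) (P : Subgroup G) : Nat.card (cj g P) = Nat.card P :=
  Subgroup.card_map_of_injective (MulAut.conj g).injective

end cj

/-- `g` acts on `P` as a composite of conjugations by members of `Ns` inside `S`. -/
inductive Ctl {G : Type*} [Group G] (S : Subgroup G) (Ns : Set (Subgroup G)) :
    Subgroup G → G → Prop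
  | refl {P : Subgroup G} : P ≤ S → Ctl S Ns P 1
  | step {P : Subgroup G} {g : G} (N : Subgroup G) :
      N ∈ Ns → g ∈ N → P ≤ S → cj g P ≤ S → Ctl S Ns P g
  | comp {P : Subgroup G} {g h : G} : Ctl S Ns P g → Ctl S Ns (cj g P) h → Ctl S Ns P (h * g)
  | congr {P : Subgroup G} {g h : G} :
      Ctl S Ns P g → (∀ a ∈ P, g * a * g⁻¹ = h * a * h⁻¹) → Ctl S Ns P h

namespace Ctl

variable {G H : Type*} [Group G] [Group H] {S : Subgroup G} {Ns : Set (Subgroup G)}
  {P : Subgroup G} {g : G}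

theorem cj_eq_of_agree {h : G} (e : ∀ a ∈ P, g * a * g⁻¹ = h * a * h⁻¹) : cj g P = cj h P := by
  ext x
  simp only [cj, Subgroup.mem_map, MulEquiv.coe_toMonoidHom, MulAut.conj_apply]
  exact ⟨fun ⟨a, ha, hax⟩ => ⟨a, ha, (e a ha).symm.trans hax⟩, fun ⟨a, ha, hax⟩ => ⟨a, ha, (e a ha).trans hax⟩⟩

theorem le_le (h : Ctl S Ns P g) : P ≤ S ∧ cj g P ≤ S := by
  induction h with
  | refl hP => exact ⟨hP, by rw [cj_one]; exact hP⟩
  | step N _ _ h1 h2 => exact ⟨h1, h2⟩
  | comp _ _ ih1 ih2 => exact ⟨ih1.1, by rw [← cj_cj]; exact ih2.2⟩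
  | congr _ e ih => exact ⟨ih.1, cj_eq_of_agree e ▸ ih.2⟩

theorem mono (h : Ctl S Ns P g) : ∀ {Q : Subgroup G}, Q ≤ P → Ctl S Ns Q g := by
  induction h with
  | refl hP => exact fun hQ => .refl (hQ.trans hP)
  | step N hN hg h1 h2 => exact fun hQ => .step N hN hg (hQ.trans h1) ((cj_mono _ hQ).trans h2)
  | comp _ _ ih1 ih2 => exact fun hQ => .comp (ih1 hQ) (ih2 (cj_mono _ hQ))
  | congr _ e ih => exact fun hQ => .congr (ih hQ) fun a ha => e a (hQ ha)

theorem trans' {h : G} (h1 : Ctl S Ns P g) (h2 : Ctl S Ns (cj g P) (h * g⁻¹)) : Ctl S Ns P h := by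
  simpa [mul_assoc] using h1.comp h2

theorem symm (h : Ctl S Ns P g) : Ctl S Ns (cj g P) g⁻¹ := by
  induction h with
  | refl hP => rw [inv_one, cj_one]; exact .refl hP
  | @step P g N hN hg h1 h2 =>
    exact .step N hN (N.inv_mem hg) h2 (by rw [cj_cj, inv_mul_cancel, cj_one]; exact h1)
  | @comp P g h _ _ ih1 ih2 =>
    rw [← cj_cj, mul_inv_rev]
    refine ih2.comp ?_
    rw [cj_cj h h⁻¹, inv_mul_cancel, cj_one]
    exact ih1
  | @congr P g h _ e ih =>
    rw [← cj_eq_of_agree e]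
    refine ih.congr ?_
    rintro _ ⟨a, ha, rfl⟩
    simp only [MulEquiv.coe_toMonoidHom, MulAut.conj_apply]
    rw [e a ha]
    have := e a ha
    calc g⁻¹ * (h * a * h⁻¹) * g⁻¹⁻¹ = g⁻¹ * (g * a * g⁻¹) * g := by rw [this, inv_inv]
      _ = h⁻¹ * (h * a * h⁻¹) * h⁻¹⁻¹ := by group

/-- Transport along a homomorphism. -/
theorem map {S' : Subgroup H} {Ns' : Set (Subgroup H)} (f : G →* H) (hS : S.map f ≤ S')
    (hN : ∀ N ∈ Ns, ∃ N' ∈ Ns', N.map f ≤ N') (h : Ctl S Ns P g) :
    Ctl S' Ns' (P.map f) (f g) := by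
  induction h with
  | refl hP => rw [map_one]; exact .refl ((Subgroup.map_mono hP).trans hS)
  | @step P g N hNm hg h1 h2 =>
    obtain ⟨N', hN', hle⟩ := hN N hNm
    refine .step N' hN' (hle (Subgroup.mem_map_of_mem f hg)) ((Subgroup.map_mono h1).trans hS) ?_
    rw [← map_cj]
    exact (Subgroup.map_mono h2).trans hS
  | @comp P g h _ _ ih1 ih2 =>
    rw [map_mul]
    refine ih1.comp ?_
    rwa [← map_cj]
  | congr _ e ih =>
    refine ih.congr ?_
    rintro _ ⟨a, ha, rfl⟩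
    rw [← map_inv, ← map_inv, ← map_mul, ← map_mul, ← map_mul, ← map_mul, e a ha]

/-- A chain of moves. -/
theorem bind {Ns' : Set (Subgroup G)} {S' : Subgroup G}
    (hstep : ∀ N ∈ Ns, ∀ (Q : Subgroup G) (n : G), n ∈ N → Q ≤ S → cj n Q ≤ S →
      Ctl S' Ns' Q n) (h1 : S ≤ S') (h : Ctl S Ns P g) : Ctl S' Ns' P g := by
  induction h with
  | refl hP => exact .refl (hP.trans h1)
  | step N hN hg ha hb => exact hstep N hN _ _ hg ha hb
  | comp _ _ ih1 ih2 => exact ih1.comp ih2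
  | congr _ e ih => exact ih.congr e

/-- Lifting along a homomorphism, step by step. -/
theorem lift {S' : Subgroup H} {Ns' : Set (Subgroup H)} (f : G →* H)
    (hstep : ∀ N' ∈ Ns', ∀ (Q : Subgroup G) (n' : H), n' ∈ N' → Q ≤ S → cj n' (Q.map f) ≤ S' →
      ∃ n : G, (∀ a ∈ Q, f (n * a * n⁻¹) = n' * f a * n'⁻¹) ∧ Ctl S Ns Q n)
    {P' : Subgroup H} {g' : H} (h : Ctl S' Ns' P' g') :
    ∀ P : Subgroup G, P ≤ S → P.map f = P' →
      ∃ g : G, (∀ a ∈ P, f (g * a * g⁻¹) = g' * f a * g'⁻¹) ∧ Ctl S Ns P g := by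
  induction h with
  | refl _ => exact fun P hP _ => ⟨1, fun a _ => by simp, .refl hP⟩
  | @step P' g' N' hN' hg' _ h2 =>
    intro P hP e
    subst e
    exact hstep N' hN' P g' hg' hP h2
  | @comp P' g' h' _ _ ih1 ih2 =>
    intro P hP e
    obtain ⟨g, hg, hc⟩ := ih1 P hP e
    have himg : (cj g P).map f = cj g' P' := by
      rw [← e, cj, cj, Subgroup.map_map, Subgroup.map_map]
      ext x
      simp only [Subgroup.mem_map, MonoidHom.comp_apply, MulEquiv.coe_toMonoidHom, MulAut.conj_apply]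
      exact ⟨fun ⟨a, ha, hx⟩ => ⟨a, ha, (hg a ha).symm.trans hx⟩,
        fun ⟨a, ha, hx⟩ => ⟨a, ha, (hg a ha).trans hx⟩⟩
    obtain ⟨h, hh, hc2⟩ := ih2 (cj g P) hc.le_le.2 himg
    refine ⟨h * g, fun a ha => ?_, hc.comp hc2⟩
    have h1 := hh _ (conj_mem_cj ha)
    rw [hg a ha] at h1
    simp only [mul_inv_rev] at h1 ⊢
    rw [show h * g * a * (g⁻¹ * h⁻¹) = h * (g * a * g⁻¹) * h⁻¹ by group, h1]
    group
  | @congr P' g' h' _ e' ih =>
    intro P hP e
    obtain ⟨g, hg, hc⟩ := ih P hP e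
    refine ⟨g, fun a ha => (hg a ha).trans (e' _ (e ▸ Subgroup.mem_map_of_mem f ha)), hc⟩

/-- A chain realizing a `Ctl` map. -/
theorem exists_chain (h : Ctl S Ns P g) : ∃ (n : ℕ) (c : ℕ → G), c 0 = 1 ∧
    (∀ i < n, ∃ N ∈ Ns, c (i + 1) * (c i)⁻¹ ∈ N) ∧ (∀ i ≤ n, cj (c i) P ≤ S) ∧
    ∀ a ∈ P, c n * a * (c n)⁻¹ = g * a * g⁻¹ := by
  induction h with
  | refl hP => exact ⟨0, fun _ => 1, rfl, fun i hi => absurd hi (Nat.not_lt_zero i),
      fun i _ => by rw [cj_one]; exact hP, fun a _ => rfl⟩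
  | @step P g N hN hg h1 h2 =>
    refine ⟨1, fun i => if i = 0 then 1 else g, rfl, fun i hi => ⟨N, hN, ?_⟩, fun i _ => ?_, fun a _ => rfl⟩
    · obtain rfl : i = 0 := by omega
      simpa using hg
    · rcases Nat.eq_zero_or_pos i with rfl | hi
      · simpa [cj_one] using h1
      · simpa [hi.ne'] using h2
  | @comp P g h _ _ ih1 ih2 =>
    obtain ⟨n, c, c0, cs, ci, cl⟩ := ih1
    obtain ⟨m, d, d0, ds, di, dl⟩ := ih2
    have hci : cj (c n) P = cj g P := cj_eq_of_agree cl
    refine ⟨n + m, fun i => if i ≤ n then c i else d (i - n) * c n, by simp [c0], fun i hi => ?_,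
      fun i hi => ?_, fun a ha => ?_⟩
    · by_cases h1 : i + 1 ≤ n
      · obtain ⟨N, hN, hm⟩ := cs i (by omega)
        refine ⟨N, hN, ?_⟩
        simpa [h1, show i ≤ n by omega] using hm
      · obtain ⟨N, hN, hm⟩ := ds (i - n) (by omega)
        refine ⟨N, hN, ?_⟩
        dsimp only
        rw [if_neg h1, show i + 1 - n = i - n + 1 by omega]
        by_cases h2 : i ≤ n
        · obtain rfl : i = n := by omega
          rw [if_pos le_rfl]
          simpa [d0] using hm
        · rw [if_neg h2]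
          simpa [mul_assoc] using hm
    · by_cases h1 : i ≤ n
      · simpa [h1] using ci i h1
      · dsimp only
        rw [if_neg h1, ← cj_cj, hci]
        exact di (i - n) (by omega)
    · have h3 : (if n + m ≤ n then c (n + m) else d (n + m - n) * c n) = d m * c n := by
        by_cases h1 : n + m ≤ n
        · obtain rfl : m = 0 := by omega
          simp [d0]
        · rw [if_neg h1, Nat.add_sub_cancel_left]
      dsimp only
      rw [h3]
      have h4 := dl _ (conj_mem_cj (g := g) ha)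
      rw [← cl a ha] at h4
      simp only [mul_inv_rev]
      rw [show d m * c n * a * ((c n)⁻¹ * (d m)⁻¹) = d m * (c n * a * (c n)⁻¹) * (d m)⁻¹ by group,
        h4, cl a ha]
      group
  | congr _ e ih =>
    obtain ⟨n, c, c0, cs, ci, cl⟩ := ih
    exact ⟨n, c, c0, cs, ci, fun a ha => (cl a ha).trans (e a ha)⟩

theorem of_chain (n : ℕ) (c : ℕ → G) (c0 : c 0 = 1)
    (cs : ∀ i < n, ∃ N ∈ Ns, c (i + 1) * (c i)⁻¹ ∈ N) (ci : ∀ i ≤ n, cj (c i) P ≤ S) :
    Ctl S Ns P (c n) := by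
  induction n with
  | zero =>
    have := ci 0 le_rfl
    rw [c0, cj_one] at this
    rw [c0]
    exact .refl this
  | succ n ih =>
    obtain ⟨N, hN, hm⟩ := cs n (Nat.lt_succ_self n)
    have h1 := ih (fun i hi => cs i (by omega)) (fun i hi => ci i (by omega))
    refine h1.trans' (.step N hN hm h1.le_le.2 ?_)
    rw [cj_cj, inv_mul_cancel_right]
    exact ci (n + 1) le_rfl

end Ctl

open CfsgLib.Transfer in
/-- The inductive step of Alperin's argument: fusion reduces to normalizers of fully normalized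
subgroups, given all fusion of larger subgroups. -/
theorem ctl_of_larger {G : Type*} [Group G] [Finite G] {p : ℕ} [Fact p.Prime] (S : Sylow p G)
    {Ns : Set (Subgroup G)} {P : Subgroup G} {g : G} (hP : P ≤ (S : Subgroup G))
    (hPS : P ≠ (S : Subgroup G)) (hg : cj g P ≤ (S : Subgroup G))
    (hbig : ∀ (Q : Subgroup G) (h : G), Nat.card P < Nat.card Q → Q ≤ (S : Subgroup G) →
      cj h Q ≤ (S : Subgroup G) → Ctl (S : Subgroup G) Ns Q h)
    (hnorm : ∀ (R : Subgroup G) (x : G), R ≤ (S : Subgroup G) → Nat.card R = Nat.card P →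
      R < (S : Subgroup G) ⊓ Subgroup.normalizer (R : Set G) →
      (∀ X : Subgroup G, IsPGroup p X → X ≤ Subgroup.normalizer (R : Set G) →
        Nat.card X ≤ Nat.card ↥((S : Subgroup G) ⊓ Subgroup.normalizer (R : Set G))) →
      x ∈ Subgroup.normalizer (R : Set G) → Ctl (S : Subgroup G) Ns R x) :
    Ctl (S : Subgroup G) Ns P g := by
  set N := Subgroup.normalizer (P : Set G) with hN
  obtain ⟨T, hT⟩ :=
    ((S.2.to_le (inf_le_left : (S : Subgroup G) ⊓ N ≤ S)).comap_of_injective N.subtype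
      N.subtype_injective).exists_le_sylow
  set TG := (T : Subgroup N).map N.subtype with hTG
  obtain ⟨h, hh⟩ := exists_map_conj_le_sylow (T.2.map N.subtype) S
  have hNT : (S : Subgroup G) ⊓ N ≤ TG := fun x hx => ⟨⟨x, hx.2⟩, hT hx, rfl⟩
  have hmax : ∀ X : Subgroup G, IsPGroup p X → X ≤ N → Nat.card X ≤ Nat.card TG := fun X hX hXN => by
    obtain ⟨T', hT'⟩ := (hX.comap_of_injective N.subtype N.subtype_injective).exists_le_sylow
    rw [← Nat.card_congr (Subgroup.subgroupOfEquivOfLe hXN).toEquiv, hTG,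
      Subgroup.card_map_of_injective N.subtype_injective, T.card_eq_multiplicity,
      ← T'.card_eq_multiplicity]
    exact Subgroup.card_le_of_le hT'
  set R := cj h P with hR
  have hNR : cj h N = Subgroup.normalizer (R : Set G) :=
    (Subgroup.map_equiv_normalizer_eq P (MulAut.conj h))
  set TR := (S : Subgroup G) ⊓ Subgroup.normalizer (R : Set G) with hTR
  have hTle : cj h TG ≤ TR := le_inf hh (hNR ▸ cj_mono h (Subgroup.map_subtype_le _))
  have hTRmax : ∀ X : Subgroup G, IsPGroup p X → X ≤ Subgroup.normalizer (R : Set G) →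
      Nat.card X ≤ Nat.card TG := fun X hX hXN => by
    rw [← card_cj h⁻¹ X]
    refine hmax _ (hX.map _) ?_
    rw [← hNR] at hXN
    have := cj_mono h⁻¹ hXN
    rwa [cj_cj, inv_mul_cancel, cj_one] at this
  have hTeq : cj h TG = TR := Subgroup.eq_of_le_of_card_ge hTle (by
    rw [card_cj]; exact hTRmax TR (S.2.to_le inf_le_left) inf_le_right)
  have hlt : P < (S : Subgroup G) ⊓ N := lt_inf_normalizer S.2 (lt_of_le_of_ne hP hPS)
  have hcard : ∀ {A B : Subgroup G}, A < B → Nat.card A < Nat.card B := fun {A B} hAB =>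
    lt_of_le_of_ne (Subgroup.card_le_of_le hAB.le)
      fun e => hAB.ne (Subgroup.eq_of_le_of_card_ge hAB.le e.ge)
  have hPR : Ctl (S : Subgroup G) Ns P h :=
    (hbig _ h (hcard hlt) inf_le_left ((cj_mono h hNT).trans hh)).mono hlt.le
  have hRS : R ≤ (S : Subgroup G) := hPR.le_le.2
  have hRlt : R < TR :=
    lt_of_lt_of_le (lt_of_le_of_ne (cj_mono h hlt.le) fun e => (hcard hlt).ne
      (((card_cj h P).symm.trans (congrArg (fun X : Subgroup G => Nat.card X) e)).trans (card_cj h _))) ((cj_mono h hNT).trans hTle)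
  -- the image `Q` of `P` is mapped onto `R` by an element extending to `N_S(Q)`
  set Q := cj g P with hQ
  have hQne : Q ≠ (S : Subgroup G) := fun e =>
    hPS (Subgroup.eq_of_le_of_card_ge hP (by rw [← e, hQ, card_cj]))
  have hQlt : Q < (S : Subgroup G) ⊓ Subgroup.normalizer (Q : Set G) :=
    lt_inf_normalizer S.2 (lt_of_le_of_ne hg hQne)
  set k₀ := h * g⁻¹ with hk₀
  have hk₀Q : cj k₀ Q = R := by rw [hQ, hk₀, cj_cj, inv_mul_cancel_right]
  set NQ := (S : Subgroup G) ⊓ Subgroup.normalizer (Q : Set G) with hNQ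
  set M := Subgroup.normalizer (R : Set G) with hM
  have hX : cj k₀ NQ ≤ M := by
    refine (cj_mono k₀ inf_le_right).trans (le_of_eq ?_)
    rw [hM, ← hk₀Q]
    exact Subgroup.map_equiv_normalizer_eq Q (MulAut.conj k₀)
  obtain ⟨y, hyM, hy⟩ : ∃ y ∈ M, cj y (cj k₀ NQ) ≤ TR := by
    have hTRp : IsPGroup p (TR.subgroupOf M) :=
      (S.2.to_le inf_le_left).comap_of_injective _ M.subtype_injective
    obtain ⟨T', hT'⟩ := hTRp.exists_le_sylow
    have hT'eq : (T' : Subgroup M).map M.subtype = TR := by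
      refine (Subgroup.eq_of_le_of_card_ge ?_ ?_).symm
      · exact fun x hx => ⟨⟨x, hx.2⟩, hT' hx, rfl⟩
      · refine (hTRmax _ (T'.2.map _) (Subgroup.map_subtype_le _)).trans ?_
        rw [← hTeq, card_cj]
    obtain ⟨T'', hT''⟩ :=
      (((S.2.to_le (inf_le_left : NQ ≤ S)).map (MulAut.conj k₀).toMonoidHom).comap_of_injective
        M.subtype M.subtype_injective).exists_le_sylow
    obtain ⟨y, hy⟩ := MulAction.exists_smul_eq M T'' T'
    refine ⟨y, y.2, ?_⟩
    rintro _ ⟨x, hx, rfl⟩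
    rw [← hT'eq, ← hy]
    exact ⟨y * ⟨x, hX hx⟩ * y⁻¹, ⟨⟨x, hX hx⟩, hT'' hx, rfl⟩, rfl⟩
  rw [cj_cj] at hy
  set k := y * k₀ with hk
  have hQR : Ctl (S : Subgroup G) Ns Q k :=
    (hbig NQ k (by rw [← card_cj g P]; exact hcard hQlt) inf_le_left (hy.trans inf_le_left)).mono
      hQlt.le
  have hkQ : cj k Q = R := by rw [hk, ← cj_cj, hk₀Q, cj_eq_of_mem_normalizer hyM]
  have hmid : Ctl (S : Subgroup G) Ns R (k * g * h⁻¹) := by
    refine hnorm R _ hRS (card_cj h P) hRlt
      (fun X hX hXN => (hTRmax X hX hXN).trans_eq (by rw [← card_cj h TG, hTeq])) ?_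
    rw [show k * g * h⁻¹ = y by simp [hk, hk₀, mul_assoc]]
    exact hyM
  have hsym : Ctl (S : Subgroup G) Ns R k⁻¹ := hkQ ▸ hQR.symm
  refine hPR.trans' ?_
  have := hmid.comp (show Ctl (S : Subgroup G) Ns (cj (k * g * h⁻¹) R) k⁻¹ by
    rw [cj_eq_of_mem_normalizer (show k * g * h⁻¹ ∈ M by simp [hk, hk₀, mul_assoc, hyM])]
    exact hsym)
  simpa [mul_assoc] using this

end CfsgLib.Conjugacy
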