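import Mathlib
import Cfsg.Agent.Lib.Conjugacy.Complement
import Cfsg.Agent.Lib.Conjugacy.Control

/-!
If a set of isomorphism-invariant functors controls strong fusion in every constrained section, it
controls strong fusion in the whole group.
-/

set_option autoImplicit false
set_option linter.style.haveILetI false
set_option linter.unusedSectionVars false

namespace CfsgLib.Conjugacy

open CfsgLib.Transfer

universe u

variable {p : ℕ} [hp : Fact p.Prime] {𝓦 : Set (∀ (Q : Type u) [Group Q], Subgroup Q)}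

/-- The normalizers of the values at `T`. -/
def Ns (𝓦 : Set (∀ (Q : Type u) [Group Q], Subgroup Q)) {X : Type u} [Group X] (T : Subgroup X) :
    Set (Subgroup X) :=
  {N | ∃ W ∈ 𝓦, N = Subgroup.normalizer (Cfsg.inducedFunctor W T : Set X)}

/-- Fusion in every Sylow subgroup is generated by the normalizers of the values there. -/
def Controlled (p : ℕ) (𝓦 : Set (∀ (Q : Type u) [Group Q], Subgroup Q)) (X : Type u) [Group X] :
    Prop :=
  ∀ (S : Sylow p X) (P : Subgroup X) (g : X), P ≤ (S : Subgroup X) → cj g P ≤ (S : Subgroup X) →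
    Ctl (S : Subgroup X) (Ns 𝓦 (S : Subgroup X)) P g

/-- Control in all constrained sections. -/
def Local (p : ℕ) (𝓦 : Set (∀ (Q : Type u) [Group Q], Subgroup Q)) (G₀ : Type u) [Group G₀] :
    Prop :=
  ∀ (X : Type u) [Group X] [Finite X], Sect G₀ X →
    Subgroup.centralizer (Cfsg.pCore p X : Set X) ≤ Cfsg.pCore p X → Controlled p 𝓦 X

theorem ns_map (h𝓦 : ∀ W ∈ 𝓦, Cfsg.IsCharPFunctor.{u} p W) {G H : Type u} [Group G] [Group H]
    [Finite G] (f : G →* H) {T : Subgroup G} (hT : IsPGroup p T) (hf : Set.InjOn f (T : Set G)) :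
    ∀ N ∈ Ns 𝓦 T, ∃ N' ∈ Ns 𝓦 (T.map f), N.map f ≤ N' := by
  rintro _ ⟨W, hW, rfl⟩
  refine ⟨_, ⟨W, hW, rfl⟩, ?_⟩
  rw [← map (h𝓦 W hW) f hT hf]
  exact Subgroup.le_normalizer_map f

/-- Fusion inside a controlled subgroup, in terms of the ambient group. -/
theorem ctl_of_subgroup (h𝓦 : ∀ W ∈ 𝓦, Cfsg.IsCharPFunctor.{u} p W) {G : Type u} [Group G]
    [Finite G] {X : Subgroup G} (hX : Controlled p 𝓦 X) (T : Sylow p X) {TG : Subgroup G}
    (hTG : (T : Subgroup X).map X.subtype = TG) {P : Subgroup G} {g : G} (hg : g ∈ X)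
    (hP : P ≤ TG) (hgP : cj g P ≤ TG) : Ctl TG (Ns 𝓦 TG) P g := by
  have hTX : TG ≤ X := hTG ▸ Subgroup.map_subtype_le _
  have hPX : P ≤ X := hP.trans hTX
  have hback : ∀ Q : Subgroup X, Q.map X.subtype ≤ TG → Q ≤ (T : Subgroup X) := fun Q hQ => by
    rw [← hTG] at hQ
    exact (Subgroup.map_le_map_iff_of_injective X.subtype_injective).mp hQ
  have e : (P.subgroupOf X).map X.subtype = P := Subgroup.map_subgroupOf_eq_of_le hPX
  have h := hX T (P.subgroupOf X) ⟨g, hg⟩ (hback _ (by rw [e]; exact hP))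
    (hback _ (by rw [map_cj, e]; exact hgP))
  have h2 := h.map (S' := TG) (Ns' := Ns 𝓦 TG) X.subtype hTG.le
    (hTG ▸ ns_map h𝓦 X.subtype T.2 X.subtype_injective.injOn)
  rwa [e] at h2

/-- Moves in a controlled overgroup of a Sylow subgroup. -/
theorem ctl_of_overgroup (h𝓦 : ∀ W ∈ 𝓦, Cfsg.IsCharPFunctor.{u} p W) {G : Type u} [Group G]
    [Finite G] (S : Sylow p G) {X : Subgroup G} (hX : Controlled p 𝓦 X)
    (hSX : (S : Subgroup G) ≤ X) {P : Subgroup G} {g : G} (hg : g ∈ X)
    (hP : P ≤ (S : Subgroup G)) (hgP : cj g P ≤ (S : Subgroup G)) :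
    Ctl (S : Subgroup G) (Ns 𝓦 (S : Subgroup G)) P g :=
  ctl_of_subgroup h𝓦 hX (S.subtype hSX)
    (by rw [Sylow.coe_subtype, Subgroup.map_subgroupOf_eq_of_le hSX]) hg hP hgP

/-- A `p`-subgroup of `Y` moves into a Sylow subgroup contained in `Y` by an element of `Y`. -/
theorem exists_cj_le {G : Type*} [Group G] [Finite G] (S : Sylow p G) {Y Q : Subgroup G}
    (hSY : (S : Subgroup G) ≤ Y) (hQY : Q ≤ Y) (hQ : IsPGroup p Q) :
    ∃ y ∈ Y, cj y Q ≤ (S : Subgroup G) := by
  obtain ⟨T, hT⟩ := (hQ.comap_of_injective Y.subtype Y.subtype_injective).exists_le_sylow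
  obtain ⟨y, hy⟩ := MulAction.exists_smul_eq Y T (S.subtype hSY)
  refine ⟨y, y.2, ?_⟩
  rintro _ ⟨x, hx, rfl⟩
  have h : y * ⟨x, hQY hx⟩ * y⁻¹ ∈ ((S.subtype hSY : Sylow p Y) : Subgroup Y) := by
    rw [← hy]
    exact ⟨⟨x, hQY hx⟩, hT hx, rfl⟩
  exact h

/-- If `O_p` contains the Sylow subgroup of its centralizer, the quotient by the odd core is constrained. -/
theorem constrained_quotient {G : Type*} [Group G] [Finite G] (S : Sylow p G)
    (hD : (S : Subgroup G) ⊓ Subgroup.centralizer (Cfsg.pCore p G : Set G) ≤ Cfsg.pCore p G)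
    [(Cfsg.pPrimeCore p G).Normal] :
    Subgroup.centralizer (Cfsg.pCore p (G ⧸ Cfsg.pPrimeCore p G) : Set (G ⧸ Cfsg.pPrimeCore p G)) ≤
      Cfsg.pCore p (G ⧸ Cfsg.pPrimeCore p G) := by
  set D := Cfsg.pCore p G with hDdef
  haveI hDn : D.Normal := Fitting.pCore_normal p
  have hDp : IsPGroup p D := Fitting.pCore_isPGroup p
  set C := Subgroup.centralizer (D : Set G) with hC
  haveI hCn : C.Normal := by rw [hC]; infer_instance
  -- `C(D) ≤ D O_{p'}(G)`
  obtain ⟨T⟩ := (inferInstance : Nonempty (Sylow p C))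
  have hTD : (T : Subgroup C).map C.subtype ≤ D := by
    obtain ⟨x, hx⟩ := exists_map_conj_le_sylow (T.2.map C.subtype) S
    intro t ht
    have h1 : x * t * x⁻¹ ∈ (S : Subgroup G) ⊓ C :=
      ⟨hx (Subgroup.mem_map_of_mem _ ht), hCn.conj_mem _ (Subgroup.map_subtype_le _ ht) x⟩
    have h2 := hDn.conj_mem _ (hD h1) x⁻¹
    simpa [mul_assoc] using h2
  have hnpc : Cfsg.HasNormalPComplement p C :=
    hasNormalPComplement_of_normalizer_le_centralizer T fun c _ t ht =>
      Subtype.ext (c.2 _ (hTD (Subgroup.mem_map_of_mem _ ht)))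
  haveI := pResidual_normal p C
  set K := (Cfsg.pResidual p C).map C.subtype with hK
  have hKn : K.Normal := ⟨fun k hk x => by
    obtain ⟨c, hc, rfl⟩ := hk
    exact ⟨(MulAut.conjNormal x : MulAut C) c,
      map_pResidual_le (MulAut.conjNormal x : MulAut C).toMonoidHom (Subgroup.mem_map_of_mem _ hc),
      MulAut.conjNormal_apply x c⟩⟩
  have hOn := pPrimeCore_normal p G
  set O := Cfsg.pPrimeCore p G with hO
  have hKO : K ≤ O := le_pPrimeCore hKn (by
    rw [hK, Subgroup.card_map_of_injective C.subtype_injective]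
    exact (hp.out.coprime_iff_not_dvd.mpr (hasNormalPComplement_iff_pResidual.mp hnpc)).symm)
  have hCle : C ≤ D ⊔ O := by
    intro c hc
    have h1 : (⟨c, hc⟩ : C) ∈ Cfsg.pResidual p C ⊔ (T : Subgroup C) := by
      rw [sup_comm, sylow_sup_pResidual]; trivial
    obtain ⟨a, ha, b, hb, hab⟩ := Subgroup.mem_sup_of_normal_left.mp h1
    rw [show c = (a : G) * (b : G) from (congrArg Subtype.val hab).symm]
    exact Subgroup.mul_mem _ (Subgroup.mem_sup_right (hKO (Subgroup.mem_map_of_mem _ ha)))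
      (Subgroup.mem_sup_left (hTD (Subgroup.mem_map_of_mem _ hb)))
  set f := QuotientGroup.mk' O with hf
  have hfs : Function.Surjective f := QuotientGroup.mk'_surjective O
  have hker : (Nat.card f.ker).Coprime p := by
    rw [hf, QuotientGroup.ker_mk']; exact pPrimeCore_coprime p
  have hDcore : D.map f ≤ Cfsg.pCore p (G ⧸ O) := Fitting.le_pCore (hDn.map f hfs) (hDp.map f)
  refine (Subgroup.centralizer_le (SetLike.coe_subset_coe.mpr hDcore)).trans ?_
  rw [← PSolvable.map_centralizer_eq hfs hker hDp]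
  refine ((Subgroup.map_mono hCle).trans (le_of_eq ?_)).trans hDcore
  rw [Subgroup.map_sup, hf, QuotientGroup.map_mk'_self, sup_bot_eq]

/-- The case of a group whose `O_p` contains the Sylow subgroup of its centralizer. -/
theorem controlled_of_core (h𝓦 : ∀ W ∈ 𝓦, Cfsg.IsCharPFunctor.{u} p W) {G₀ : Type u} [Group G₀]
    (hloc : Local p 𝓦 G₀) {G : Type u} [Group G] [Finite G] (hsec : Sect G₀ G) (S : Sylow p G)
    (hD : (S : Subgroup G) ⊓ Subgroup.centralizer (Cfsg.pCore p G : Set G) ≤ Cfsg.pCore p G)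
    (P : Subgroup G) (g : G) (hP : P ≤ (S : Subgroup G)) (hgP : cj g P ≤ (S : Subgroup G)) :
    Ctl (S : Subgroup G) (Ns 𝓦 (S : Subgroup G)) P g := by
  haveI := pPrimeCore_normal p G
  set O := Cfsg.pPrimeCore p G with hO
  have hcons := constrained_quotient S hD
  set f := QuotientGroup.mk' O with hf
  have hfs : Function.Surjective f := QuotientGroup.mk'_surjective O
  have hker : (Nat.card f.ker).Coprime p := by
    rw [hf, QuotientGroup.ker_mk']; exact pPrimeCore_coprime p
  have hinj : ∀ a ∈ (S : Subgroup G), ∀ b ∈ (S : Subgroup G), f a = f b → a = b := fun a ha b hb h =>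
    inv_mul_eq_one.mp (PSolvable.eq_one_of_mem_of_mem S.2 hker (mul_mem (inv_mem ha) hb)
      (by rw [MonoidHom.mem_ker, map_mul, map_inv, h, inv_mul_cancel]))
  set Sb : Sylow p (G ⧸ O) := S.mapSurjective hfs with hSb
  have hbar := hloc (G ⧸ O) (hsec.quotient f hfs) hcons Sb (P.map f) (f g)
    (by rw [hSb, Sylow.coe_mapSurjective]; exact Subgroup.map_mono hP)
    (by rw [← map_cj, hSb, Sylow.coe_mapSurjective]; exact Subgroup.map_mono hgP)
  obtain ⟨g', hg', hc⟩ := hbar.lift (S := (S : Subgroup G)) (Ns := Ns 𝓦 (S : Subgroup G)) f (by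
    rintro _ ⟨W, hW, rfl⟩ Q n' hn' hQ hnQ
    rw [hSb, Sylow.coe_mapSurjective] at hn' hnQ
    rw [← map (h𝓦 W hW) f S.2 (fun a ha b hb h => hinj a ha b hb h),
      ← PSolvable.map_normalizer_eq hfs hker (S.2.to_le (le (h𝓦 W hW) _))] at hn'
    obtain ⟨n₀, hn₀, rfl⟩ := hn'
    set N := Subgroup.normalizer (Cfsg.inducedFunctor W (S : Subgroup G) : Set G) with hN
    have hSN : (S : Subgroup G) ≤ N :=
      Subgroup.le_normalizer.trans (normalizer_le (h𝓦 W hW) S.2)
    set Y := N ⊓ ((S : Subgroup G).map f).comap f with hY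
    obtain ⟨y, hy, hyQ⟩ := exists_cj_le S (Y := Y)
      (le_inf hSN (Subgroup.le_comap_map f _)) (Q := cj n₀ Q) (by
        refine le_inf ?_ ?_
        · rintro _ ⟨a, ha, rfl⟩
          exact N.mul_mem (N.mul_mem hn₀ (hSN (hQ ha))) (N.inv_mem hn₀)
        · rw [← Subgroup.map_le_iff_le_comap, map_cj]
          exact hnQ)
      ((S.2.to_le hQ).map _)
    obtain ⟨s, hs, hsy⟩ := hy.2
    have hle : cj (s⁻¹ * y * n₀) Q ≤ (S : Subgroup G) := by
      rw [mul_assoc, ← cj_cj, ← cj_cj]
      refine (cj_mono _ hyQ).trans (le_of_eq (cj_eq_of_mem_normalizer ?_))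
      exact Subgroup.le_normalizer ((S : Subgroup G).inv_mem hs)
    refine ⟨s⁻¹ * y * n₀, fun a _ => ?_,
      .step N ⟨W, hW, rfl⟩ (N.mul_mem (N.mul_mem (N.inv_mem (hSN hs)) hy.1) hn₀) hQ hle⟩
    rw [map_mul, map_mul, map_inv, map_mul, map_mul, map_inv, hsy, inv_mul_cancel, one_mul])
    P hP rfl
  refine hc.congr fun a ha => hinj _ (hc.le_le.2 (conj_mem_cj ha)) _ (hgP (conj_mem_cj ha)) ?_
  rw [hg' a ha, map_mul, map_mul, map_inv]

/-- The Sylow normalizer. -/
theorem ctl_of_mem_normalizer (h𝓦 : ∀ W ∈ 𝓦, Cfsg.IsCharPFunctor.{u} p W) {G₀ : Type u}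
    [Group G₀] (hloc : Local p 𝓦 G₀) {G : Type u} [Group G] [Finite G] (hsec : Sect G₀ G)
    (S : Sylow p G) {P : Subgroup G} {g : G}
    (hg : g ∈ Subgroup.normalizer ((S : Subgroup G) : Set G)) (hP : P ≤ (S : Subgroup G)) :
    Ctl (S : Subgroup G) (Ns 𝓦 (S : Subgroup G)) P g := by
  refine ctl_of_overgroup h𝓦 S (X := Subgroup.normalizer ((S : Subgroup G) : Set G)) ?_
    Subgroup.le_normalizer hg hP ((cj_mono g hP).trans (cj_eq_of_mem_normalizer hg).le)
  intro T Q x hQ hxQ
  refine controlled_of_core h𝓦 hloc (hsec.subgroup _) T ?_ Q x hQ hxQ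
  haveI : ((S.subtype Subgroup.le_normalizer : Sylow p _) :
      Subgroup (Subgroup.normalizer ((S : Subgroup G) : Set G))).Normal := by
    rw [Sylow.coe_subtype]
    exact Subgroup.normal_in_normalizer
  obtain ⟨y, hy⟩ := MulAction.exists_smul_eq (Subgroup.normalizer ((S : Subgroup G) : Set G))
    (S.subtype Subgroup.le_normalizer : Sylow p _) T
  rw [Sylow.smul_eq_of_normal] at hy
  subst hy
  exact inf_le_left.trans (Fitting.le_pCore this (Sylow.isPGroup' _))

theorem card_lt_card {G : Type*} [Group G] [Finite G] {A B : Subgroup G} (h : A < B) :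
    Nat.card A < Nat.card B :=
  lt_of_le_of_ne (Subgroup.card_le_of_le h.le)
    fun e => h.ne (Subgroup.eq_of_le_of_card_ge h.le e.ge)

/-- The case `O_p(G) = 1`. -/
theorem controlled_of_core_eq_bot (h𝓦 : ∀ W ∈ 𝓦, Cfsg.IsCharPFunctor.{u} p W) {G₀ : Type u}
    [Group G₀] (hloc : Local p 𝓦 G₀) {G : Type u} [Group G] [Finite G] (hsec : Sect G₀ G)
    (IH : ∀ X : Subgroup G, X ≠ ⊤ → Controlled p 𝓦 X) (hD : Cfsg.pCore p G = ⊥)
    (S : Sylow p G) (m : ℕ) :
    (∀ P : Subgroup G, Nat.card (S : Subgroup G) < Nat.card P + m → ∀ g : G,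
      P ≤ (S : Subgroup G) → cj g P ≤ (S : Subgroup G) →
      Ctl (S : Subgroup G) (Ns 𝓦 (S : Subgroup G)) P g) ∧
    (∀ X : Subgroup G, X ≠ ⊤ →
      Nat.card (S : Subgroup G) < Nat.card ↥((S : Subgroup G) ⊓ X) + m →
      (∀ Y : Subgroup G, IsPGroup p Y → Y ≤ X → Nat.card Y ≤ Nat.card ↥((S : Subgroup G) ⊓ X)) →
      ∀ (A : Subgroup G) (x : G), x ∈ X → A ≤ (S : Subgroup G) ⊓ X →
        cj x A ≤ (S : Subgroup G) ⊓ X → Ctl (S : Subgroup G) (Ns 𝓦 (S : Subgroup G)) A x) := by
  have htriv : ∀ (P : Subgroup G) (g : G), P = ⊥ →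
      Ctl (S : Subgroup G) (Ns 𝓦 (S : Subgroup G)) P g := fun P g h =>
    (Ctl.refl (h ▸ bot_le)).congr fun a ha => by rw [h, Subgroup.mem_bot] at ha; simp [ha]
  induction m with
  | zero =>
    refine ⟨fun P hlt g hP _ => absurd hlt ?_, fun X _ hlt _ _ _ _ _ _ => absurd hlt ?_⟩
    · simpa using Subgroup.card_le_of_le hP
    · simpa using Subgroup.card_le_of_le (inf_le_left : (S : Subgroup G) ⊓ X ≤ S)
  | succ m ih =>
    obtain ⟨ihP, ihX⟩ := ih
    refine ⟨fun P hlt g hP hgP => ?_, fun X hX hlt hmax A x hx hA hxA => ?_⟩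
    · -- fusion of subgroups
      by_cases hPS : P = (S : Subgroup G)
      · subst hPS
        refine ctl_of_mem_normalizer h𝓦 hloc hsec S
          (Subgroup.mem_normalizer_iff_map_conj_eq.mpr ?_) le_rfl
        exact Subgroup.eq_of_le_of_card_ge hgP (card_cj g _).ge
      by_cases hP1 : P = ⊥
      · exact htriv P g hP1
      refine ctl_of_larger S hP hPS hgP (fun Q h hQ hQS hh => ihP Q (by omega) h hQS hh)
        fun R x hRS hcard hRlt hmax hx => ?_
      set N := Subgroup.normalizer (R : Set G) with hN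
      have hNtop : N ≠ ⊤ := fun e => hP1 (by
        have := Fitting.le_pCore (Subgroup.normalizer_eq_top_iff.mp e) (S.2.to_le hRS)
        rw [hD, le_bot_iff] at this
        rw [this, Subgroup.card_bot] at hcard
        exact Subgroup.eq_bot_of_card_eq _ hcard.symm)
      have h2 := card_lt_card hRlt
      exact ihX N hNtop (by omega) hmax R x hx hRlt.le ((cj_eq_of_mem_normalizer hx).le.trans hRlt.le)
    · -- fusion inside a proper subgroup
      set T := (S : Subgroup G) ⊓ X with hT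
      have hTp : IsPGroup p T := S.2.to_le inf_le_left
      obtain ⟨TX, hTX⟩ := (hTp.comap_of_injective X.subtype X.subtype_injective).exists_le_sylow
      have hTXeq : (TX : Subgroup X).map X.subtype = T :=
        (Subgroup.eq_of_le_of_card_ge (show T ≤ (TX : Subgroup X).map X.subtype from fun y hy => ⟨⟨y, hy.2⟩, hTX hy, rfl⟩)
          (hmax _ (TX.2.map _) (Subgroup.map_subtype_le _))).symm
      refine (ctl_of_subgroup h𝓦 (IH X hX) TX hTXeq hx hA hxA).bind ?_ inf_le_left
      rintro _ ⟨W, hW, rfl⟩ Q n hn hQ hnQ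
      by_cases hTS : T = (S : Subgroup G)
      · exact .step _ ⟨W, hW, rfl⟩ (hTS ▸ hn) (hTS ▸ hQ) (hTS ▸ hnQ)
      by_cases hT1 : T = ⊥
      · exact htriv Q n (le_bot_iff.mp (hT1 ▸ hQ))
      set U := Cfsg.inducedFunctor W T with hU
      set M := Subgroup.normalizer (U : Set G) with hM
      have hU1 : U ≠ ⊥ := ne_bot (h𝓦 W hW) hTp hT1
      have hMtop : M ≠ ⊤ := fun e => hU1 (by
        have := Fitting.le_pCore (Subgroup.normalizer_eq_top_iff.mp e)
          (hTp.to_le (le (h𝓦 W hW) T))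
        rwa [hD, le_bot_iff] at this)
      set T₃ := (S : Subgroup G) ⊓ M with hT₃
      have hTT₃ : T < T₃ :=
        lt_of_lt_of_le (lt_inf_normalizer S.2 (lt_of_le_of_ne inf_le_left hTS))
          (inf_le_inf_left _ (normalizer_le (h𝓦 W hW) hTp))
      obtain ⟨T₄, hT₄⟩ := ((S.2.to_le (inf_le_left : T₃ ≤ S)).comap_of_injective M.subtype
        M.subtype_injective).exists_le_sylow
      obtain ⟨h, hh⟩ := exists_map_conj_le_sylow (T₄.2.map M.subtype) S
      have hT₃₄ : T₃ ≤ (T₄ : Subgroup M).map M.subtype := fun y hy => ⟨⟨y, hy.2⟩, hT₄ hy, rfl⟩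
      have hcard3 := card_lt_card hTT₃
      have h1 : Ctl (S : Subgroup G) (Ns 𝓦 (S : Subgroup G)) T₃ h :=
        ihP T₃ (by omega) h inf_le_left ((cj_mono h hT₃₄).trans hh)
      set X' := cj h M with hX'
      have hX'top : X' ≠ ⊤ := fun e => hMtop (Subgroup.eq_top_of_card_eq M (by
        rw [← card_cj h M, ← hX', e, Subgroup.card_top]))
      have hsub : cj h ((T₄ : Subgroup M).map M.subtype) ≤ (S : Subgroup G) ⊓ X' :=
        le_inf hh (cj_mono h (Subgroup.map_subtype_le _))
      have hmax' : ∀ Y : Subgroup G, IsPGroup p Y → Y ≤ X' →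
          Nat.card Y ≤ Nat.card ↥((S : Subgroup G) ⊓ X') := by
        intro Y hY hYX
        refine le_trans ?_ (Subgroup.card_le_of_le hsub)
        rw [card_cj, ← card_cj h⁻¹ Y]
        have hYM : cj h⁻¹ Y ≤ M := by
          refine (cj_mono _ hYX).trans (le_of_eq ?_)
          rw [hX', cj_cj, inv_mul_cancel, cj_one]
        obtain ⟨T₅, hT₅⟩ :=
          ((hY.map (MulAut.conj h⁻¹).toMonoidHom).comap_of_injective M.subtype
            M.subtype_injective).exists_le_sylow
        rw [← Nat.card_congr (Subgroup.subgroupOfEquivOfLe hYM).toEquiv,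
          Subgroup.card_map_of_injective M.subtype_injective, T₄.card_eq_multiplicity,
          ← T₅.card_eq_multiplicity]
        exact Subgroup.card_le_of_le hT₅
      have hX'card : Nat.card (S : Subgroup G) < Nat.card ↥((S : Subgroup G) ⊓ X') + m := by
        have h4 : Nat.card T₃ ≤ Nat.card ↥((S : Subgroup G) ⊓ X') := by
          rw [← card_cj h T₃]
          exact Subgroup.card_le_of_le ((cj_mono h hT₃₄).trans hsub)
        omega
      have hQ3 : Q ≤ T₃ := hQ.trans hTT₃.le
      have hnQ3 : cj n Q ≤ T₃ := hnQ.trans hTT₃.le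
      have hcomp : h * n * h⁻¹ * h = h * n := by group
      have h2 : Ctl (S : Subgroup G) (Ns 𝓦 (S : Subgroup G)) (cj h Q) (h * n * h⁻¹) :=
        ihX X' hX'top hX'card hmax' (cj h Q) (h * n * h⁻¹) (conj_mem_cj hn)
          ((cj_mono h (hQ3.trans hT₃₄)).trans hsub)
          (by rw [cj_cj, hcomp, ← cj_cj]; exact (cj_mono h (hnQ3.trans hT₃₄)).trans hsub)
      have h3 := h1.symm.mono (cj_mono h hnQ3)
      have h4 : Ctl (S : Subgroup G) (Ns 𝓦 (S : Subgroup G)) Q (h * n * h⁻¹ * h) :=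
        (h1.mono hQ3).comp h2
      rw [hcomp] at h4
      refine h4.trans' ?_
      rw [show n * (h * n)⁻¹ = h⁻¹ by group, ← cj_cj]
      exact h3

/-- The case `O^p(G) ≤ C(O_p(G))`. -/
theorem controlled_of_residual_le (h𝓦 : ∀ W ∈ 𝓦, Cfsg.IsCharPFunctor.{u} p W) {G₀ : Type u}
    [Group G₀] (hloc : Local p 𝓦 G₀) {G : Type u} [Group G] [Finite G] (hsec : Sect G₀ G)
    (IH : ∀ X : Subgroup G, X ≠ ⊤ → Controlled p 𝓦 X) (D : Subgroup G) [D.Normal]
    (hDp : IsPGroup p D) (hres : Cfsg.pResidual p G ≤ Subgroup.centralizer (D : Set G))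
    (hquot : Controlled p 𝓦 (G ⧸ D)) (hcore : Cfsg.pCore p (G ⧸ D) = ⊥) (S : Sylow p G)
    (hDS : D < (S : Subgroup G)) (m : ℕ) :
    ∀ P : Subgroup G, Nat.card (S : Subgroup G) < Nat.card P + m → ∀ g : G,
      P ≤ (S : Subgroup G) → cj g P ≤ (S : Subgroup G) →
      Ctl (S : Subgroup G) (Ns 𝓦 (S : Subgroup G)) P g := by
  induction m with
  | zero => exact fun P hlt g hP _ => absurd hlt (by simpa using Subgroup.card_le_of_le hP)
  | succ m ih =>
    intro P hlt g hP hgP
    by_cases hPS : P = (S : Subgroup G)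
    · subst hPS
      refine ctl_of_mem_normalizer h𝓦 hloc hsec S
        (Subgroup.mem_normalizer_iff_map_conj_eq.mpr ?_) le_rfl
      exact Subgroup.eq_of_le_of_card_ge hgP (card_cj g _).ge
    refine ctl_of_larger S hP hPS hgP (fun Q h hQ hQS hh => ih Q (by omega) h hQS hh)
      fun R x hRS hcard hRlt hmax hx => ?_
    by_cases hDR : D ≤ R
    swap
    · have hlt' : R < R ⊔ D := lt_of_le_of_ne le_sup_left fun e => hDR (e ▸ le_sup_right)
      have := card_lt_card hlt'
      have hxD : cj x (R ⊔ D) = R ⊔ D := by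
        rw [cj, Subgroup.map_sup, ← cj, ← cj, cj_eq_of_mem_normalizer hx,
          cj_eq_of_mem_normalizer ((Subgroup.normalizer_eq_top D).symm ▸ Subgroup.mem_top x)]
      exact (ih (R ⊔ D) (by omega) x (sup_le hRS hDS.le) (by rw [hxD]; exact sup_le hRS hDS.le)).mono
        le_sup_left
    set f := QuotientGroup.mk' D with hf
    have hfs : Function.Surjective f := QuotientGroup.mk'_surjective D
    have hfker : ∀ Q : Subgroup G, D ≤ Q → (Q.map f).comap f = Q := fun Q hQ => by
      rw [Subgroup.comap_map_eq, hf, QuotientGroup.ker_mk', sup_eq_left.mpr hQ]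
    set Sb : Sylow p (G ⧸ D) := S.mapSurjective hfs with hSb
    have hxR : cj (f x) (R.map f) ≤ (Sb : Subgroup (G ⧸ D)) := by
      rw [← map_cj, cj_eq_of_mem_normalizer hx, hSb, Sylow.coe_mapSurjective]
      exact Subgroup.map_mono hRS
    obtain ⟨g', hg', hc⟩ := (hquot Sb (R.map f) (f x)
      (by rw [hSb, Sylow.coe_mapSurjective]; exact Subgroup.map_mono hRS) hxR).lift
      (S := (S : Subgroup G)) (Ns := Ns 𝓦 (S : Subgroup G)) f (by
        rintro _ ⟨W, hW, rfl⟩ Q n' hn' hQ hnQ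
        obtain ⟨n, rfl⟩ := hfs n'
        set H := (Subgroup.normalizer
          (Cfsg.inducedFunctor W (Sb : Subgroup (G ⧸ D)) : Set (G ⧸ D))).comap f with hH
        have hSb1 : (Sb : Subgroup (G ⧸ D)) ≠ ⊥ := fun e => hDS.not_ge (by
          rw [hSb, Sylow.coe_mapSurjective, Subgroup.map_eq_bot_iff, hf, QuotientGroup.ker_mk'] at e
          exact e)
        have hHtop : H ≠ ⊤ := fun e => ne_bot (h𝓦 W hW) Sb.2 hSb1 (by
          have hn : Subgroup.normalizer
              (Cfsg.inducedFunctor W (Sb : Subgroup (G ⧸ D)) : Set (G ⧸ D)) = ⊤ := by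
            rw [← Subgroup.map_comap_eq_self_of_surjective hfs (Subgroup.normalizer _), ← hH, e,
              Subgroup.map_top_of_surjective _ hfs]
          have := Fitting.le_pCore (Subgroup.normalizer_eq_top_iff.mp hn)
            (Sb.2.to_le (le (h𝓦 W hW) _))
          rwa [hcore, le_bot_iff] at this)
        have hSH : (S : Subgroup G) ≤ H := by
          rw [hH, ← Subgroup.map_le_iff_le_comap]
          exact Subgroup.le_normalizer.trans (normalizer_le (h𝓦 W hW) Sb.2)
        have hnS : cj n Q ≤ (S : Subgroup G) := by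
          rw [← hfker S hDS.le, ← Subgroup.map_le_iff_le_comap, map_cj]
          exact hnQ
        exact ⟨n, fun a _ => by rw [map_mul, map_mul, map_inv],
          ctl_of_overgroup h𝓦 S (IH H hHtop) hSH hn' hQ hnS⟩) R hRS rfl
    -- `g'` normalizes `R`, and `g'⁻¹ x` centralizes `R / D`
    have hg'N : g' ∈ Subgroup.normalizer (R : Set G) := by
      refine Subgroup.mem_normalizer_iff_map_conj_eq.mpr ?_
      have himg : (cj g' R).map f = R.map f := by
        refine le_antisymm ?_ ?_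
        · rintro _ ⟨_, ⟨a, ha, rfl⟩, rfl⟩
          refine ⟨x * a * x⁻¹, (Subgroup.mem_normalizer_iff.mp hx a).mp ha, ?_⟩
          rw [map_mul, map_mul, map_inv]
          exact (hg' a ha).symm
        · rintro _ ⟨b, hb, rfl⟩
          refine ⟨g' * (x⁻¹ * b * x) * g'⁻¹, conj_mem_cj ?_, ?_⟩
          · exact (Subgroup.mem_normalizer_iff''.mp hx b).mp hb
          · rw [hg' _ ((Subgroup.mem_normalizer_iff''.mp hx b).mp hb), map_mul, map_mul, map_inv]
            group
      have hDg : D ≤ cj g' R := by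
        rw [← cj_eq_of_mem_normalizer (P := D) (g := g') ((Subgroup.normalizer_eq_top D).symm ▸ Subgroup.mem_top g')]
        exact cj_mono g' hDR
      change cj g' R = R
      rw [← hfker _ hDg, himg, hfker R hDR]
    set y := g'⁻¹ * x with hy
    set M := Subgroup.normalizer (R : Set G) ⊓
      (Subgroup.centralizer ((R.map f : Subgroup (G ⧸ D)) : Set (G ⧸ D))).comap f with hM
    have hyM : y ∈ M := by
      refine ⟨Subgroup.mul_mem _ (Subgroup.inv_mem _ hg'N) hx, ?_⟩
      rintro _ ⟨a, ha, rfl⟩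
      have h1 := hg' a ha
      rw [map_mul, map_mul, map_inv] at h1
      rw [hy, map_mul, map_inv]
      calc f a * ((f g')⁻¹ * f x) = (f g')⁻¹ * (f g' * f a * (f g')⁻¹) * f x := by group
        _ = (f g')⁻¹ * f x * f a := by rw [h1]; group
    have hMn : Subgroup.normalizer (R : Set G) ≤ Subgroup.normalizer (M : Set G) := by
      rw [hM]
      refine Coprime.le_normalizer_inf_of_le Subgroup.le_normalizer ?_
      intro n hn
      rw [← Subgroup.comap_normalizer_eq_of_surjective _ hfs]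
      exact Coprime.le_normalizer_centralizer (H := R.map f)
        (Subgroup.le_normalizer_map f) (Subgroup.mem_map_of_mem f hn)
    obtain ⟨QM⟩ := (inferInstance : Nonempty (Sylow p M))
    have hSN : IsPGroup p ↥((S : Subgroup G) ⊓ Subgroup.normalizer (R : Set G)) := S.2.to_le inf_le_left
    obtain ⟨T, hT⟩ := (hSN.comap_of_injective (Subgroup.normalizer (R : Set G)).subtype
      (Subgroup.normalizer (R : Set G)).subtype_injective).exists_le_sylow
    have hTeq : (T : Subgroup _).map (Subgroup.normalizer (R : Set G)).subtype =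
        (S : Subgroup G) ⊓ Subgroup.normalizer (R : Set G) :=
      (Subgroup.eq_of_le_of_card_ge (show (S : Subgroup G) ⊓ Subgroup.normalizer (R : Set G) ≤ (T : Subgroup _).map (Subgroup.normalizer (R : Set G)).subtype from fun z hz => ⟨⟨z, hz.2⟩, hT hz, rfl⟩)
        (hmax _ (T.2.map _) (Subgroup.map_subtype_le _))).symm
    obtain ⟨n, hn, hnQ⟩ : ∃ n ∈ Subgroup.normalizer (R : Set G),
        cj n ((QM : Subgroup M).map M.subtype) ≤ (S : Subgroup G) ⊓ M := by
      have hQN : (QM : Subgroup M).map M.subtype ≤ Subgroup.normalizer (R : Set G) :=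
        (Subgroup.map_subtype_le _).trans inf_le_left
      obtain ⟨T', hT'⟩ := ((QM.2.map M.subtype).comap_of_injective
        (Subgroup.normalizer (R : Set G)).subtype
        (Subgroup.normalizer (R : Set G)).subtype_injective).exists_le_sylow
      obtain ⟨n, hn⟩ := MulAction.exists_smul_eq (Subgroup.normalizer (R : Set G)) T' T
      refine ⟨n, n.2, ?_⟩
      rintro _ ⟨z, hz, rfl⟩
      refine ⟨?_, (Subgroup.mem_normalizer_iff.mp (hMn n.2) z).mp (Subgroup.map_subtype_le _ hz)⟩
      have h1 : n * ⟨z, hQN hz⟩ * n⁻¹ ∈ (T : Subgroup _) := by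
        rw [← hn]
        exact ⟨⟨z, hQN hz⟩, hT' hz, rfl⟩
      exact (hTeq.le (Subgroup.mem_map_of_mem _ h1)).1
    obtain ⟨QS, hQS⟩ := ((S.2.to_le (inf_le_left : (S : Subgroup G) ⊓ M ≤ S)).comap_of_injective
      M.subtype M.subtype_injective).exists_le_sylow
    have hQSeq : (QS : Subgroup M).map M.subtype = (S : Subgroup G) ⊓ M := by
      refine (Subgroup.eq_of_le_of_card_ge (show (S : Subgroup G) ⊓ M ≤ (QS : Subgroup M).map M.subtype from fun z hz => ⟨⟨z, hz.2⟩, hQS hz, rfl⟩) ?_).symm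
      rw [Subgroup.card_map_of_injective M.subtype_injective, QS.card_eq_multiplicity,
        ← QM.card_eq_multiplicity]
      refine le_of_eq_of_le ?_ (Subgroup.card_le_of_le hnQ)
      rw [card_cj, Subgroup.card_map_of_injective M.subtype_injective]
    haveI hCn : ((Subgroup.centralizer (R : Set G)).subgroupOf M).Normal :=
      Subgroup.normal_subgroupOf_of_le_normalizer
        ((inf_le_left : M ≤ _).trans (Coprime.le_normalizer_centralizer le_rfl))
    have hsup : (QS : Subgroup M) ⊔ (Subgroup.centralizer (R : Set G)).subgroupOf M = ⊤ := by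
      refine sylow_sup_eq_top_of_isPGroup_quotient QS _ fun z => ?_
      obtain ⟨w, rfl⟩ := QuotientGroup.mk'_surjective _ z
      obtain ⟨i, r, -, -, hco, -⟩ := exists_pow_coprime_part (p := p) (w : G)
      refine ⟨i, ?_⟩
      rw [← map_pow, QuotientGroup.mk'_apply, QuotientGroup.eq_one_iff, Subgroup.mem_subgroupOf,
        Subgroup.coe_pow]
      -- a `p'`-element stabilizing `D ≤ R` centralizes `R`
      set k := (w : G) ^ p ^ i with hk
      have hkM : k ∈ M := M.pow_mem w.2 _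
      intro a ha
      have hd : k * a * k⁻¹ * a⁻¹ ∈ D := by
        rw [← QuotientGroup.eq_one_iff, ← QuotientGroup.mk'_apply, ← hf]
        have h1 : f a * f k = f k * f a := hkM.2 _ (Subgroup.mem_map_of_mem f ha)
        rw [map_mul, map_mul, map_mul, map_inv, map_inv, ← h1, mul_inv_cancel_right, mul_inv_cancel]
      set d := k * a * k⁻¹ * a⁻¹ with hdd
      have hkd : k * d = d * k :=
        ((Subgroup.mem_centralizer_iff.mp (hres (mem_pResidual_of_coprime hco))) d hd).symm
      have hiter : ∀ j : ℕ, k ^ j * a * (k ^ j)⁻¹ = d ^ j * a := by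
        intro j
        induction j with
        | zero => simp
        | succ j ihj =>
          calc k ^ (j + 1) * a * (k ^ (j + 1))⁻¹ = k * (k ^ j * a * (k ^ j)⁻¹) * k⁻¹ := by
                rw [pow_succ' k j, mul_inv_rev]; group
            _ = (k * d ^ j) * a * k⁻¹ := by rw [ihj]; group
            _ = d ^ j * (k * a * k⁻¹) := by rw [(Commute.pow_right hkd j).eq]; group
            _ = d ^ (j + 1) * a := by rw [pow_succ, hdd]; group
      have h1 := hiter (orderOf k)
      rw [pow_orderOf_eq_one, one_mul, inv_one, mul_one] at h1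
      have h2 : d ^ orderOf k = 1 := mul_eq_right.mp h1.symm
      obtain ⟨l, hl⟩ := hDp ⟨d, hd⟩
      have h3 : d = 1 := orderOf_eq_one_iff.mp (Nat.eq_one_of_dvd_coprimes (hco.pow_right l)
        (orderOf_dvd_of_pow_eq_one h2)
        (orderOf_dvd_of_pow_eq_one (show d ^ p ^ l = 1 by simpa using congrArg Subtype.val hl)))
      rw [hdd, mul_inv_eq_one, mul_inv_eq_iff_eq_mul] at h3
      exact h3.symm
    have hy' : (⟨y, hyM⟩ : M) ∈ (QS : Subgroup M) ⊔ (Subgroup.centralizer (R : Set G)).subgroupOf M :=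
      hsup ▸ Subgroup.mem_top _
    obtain ⟨s, hs, c, hc', hsc⟩ := Subgroup.mem_sup_of_normal_right.mp hy'
    have hsS : (s : G) ∈ (S : Subgroup G) := (hQSeq.le (Subgroup.mem_map_of_mem _ hs)).1
    have hyeq : y = (s : G) * (c : G) := (congrArg Subtype.val hsc).symm
    have hsR : cj (s : G) R = R := cj_eq_of_mem_normalizer s.2.1
    have h1 : Ctl (S : Subgroup G) (Ns 𝓦 (S : Subgroup G)) R (s : G) :=
      ctl_of_mem_normalizer h𝓦 hloc hsec S (Subgroup.le_normalizer hsS) hRS
    refine (h1.comp (show Ctl (S : Subgroup G) (Ns 𝓦 (S : Subgroup G)) (cj (s : G) R) g' by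
      rw [hsR]; exact hc)).congr fun a ha => ?_
    have hca : (c : G) * a = a * (c : G) := ((Subgroup.mem_centralizer_iff.mp hc') a ha).symm
    have hx' : x = g' * ((s : G) * (c : G)) := by rw [← hyeq, hy, mul_inv_cancel_left]
    rw [hx']
    calc g' * (s : G) * a * (g' * (s : G))⁻¹ = g' * (s : G) * (a * (c : G)) * (c : G)⁻¹ * (g' * (s : G))⁻¹ := by group
      _ = g' * ((s : G) * (c : G)) * a * (g' * ((s : G) * (c : G)))⁻¹ := by rw [← hca]; group

/-- **Strong fusion control from constrained sections.** -/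
theorem controlled_of_local_aux (h𝓦 : ∀ W ∈ 𝓦, Cfsg.IsCharPFunctor.{u} p W) {G₀ : Type u}
    [Group G₀] (hloc : Local p 𝓦 G₀) (n : ℕ) :
    ∀ (G : Type u) [Group G] [Finite G], Nat.card G = n → Sect G₀ G → Controlled p 𝓦 G := by
  induction n using Nat.strong_induction_on with
  | _ n IHn =>
  intro G _ _ hn hsec S P g hP hgP
  have IH : ∀ X : Subgroup G, X ≠ ⊤ → Controlled p 𝓦 X := fun X hX =>
    IHn _ (hn ▸ lt_of_le_of_ne (Subgroup.card_le_card_group X)
      (fun h => hX (Subgroup.eq_top_of_card_eq X h))) X rfl (hsec.subgroup X)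
  have hlast : Nat.card (S : Subgroup G) < Nat.card P + (Nat.card (S : Subgroup G) + 1) := by omega
  set D := Cfsg.pCore p G with hD
  by_cases hD1 : D = ⊥
  · exact (controlled_of_core_eq_bot h𝓦 hloc hsec IH hD1 S _).1 P hlast g hP hgP
  haveI hDn : D.Normal := Fitting.pCore_normal p
  have hDp : IsPGroup p D := Fitting.pCore_isPGroup p
  have hDS : D ≤ (S : Subgroup G) := IsPGroup.le_sylow_of_normal hDp S
  set C := Subgroup.centralizer (D : Set G) with hC
  by_cases hcore : (S : Subgroup G) ⊓ C ≤ D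
  · exact controlled_of_core h𝓦 hloc hsec S hcore P g hP hgP
  haveI hCn : C.Normal := by rw [hC]; infer_instance
  set L := C ⊔ D with hL
  haveI hLn : L.Normal := by rw [hL]; infer_instance
  set D' := (S : Subgroup G) ⊓ L with hD'
  set N := Subgroup.normalizer (D' : Set G) with hN
  have hNtop : N ≠ ⊤ := fun e => hcore
    ((le_inf inf_le_left (inf_le_right.trans le_sup_left) : (S : Subgroup G) ⊓ C ≤ D').trans
      (Fitting.le_pCore (Subgroup.normalizer_eq_top_iff.mp e) (S.2.to_le inf_le_left)))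
  by_cases hLS : L ⊔ (S : Subgroup G) = ⊤
  · -- `O^p(G)` centralizes `D`
    haveI := pResidual_normal p G
    have hres : Cfsg.pResidual p G ≤ C := by
      refine pResidual_le_of_isPGroup_quotient C ?_
      have htop : (S : Subgroup G).map (QuotientGroup.mk' C) = ⊤ := by
        rw [eq_top_iff, ← Subgroup.map_top_of_surjective _ (QuotientGroup.mk'_surjective C), ← hLS,
          hL, Subgroup.map_sup, Subgroup.map_sup, QuotientGroup.map_mk'_self, bot_sup_eq]
        exact sup_le (Subgroup.map_mono hDS) le_rfl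
      have := S.2.map (QuotientGroup.mk' C)
      rw [htop] at this
      exact this.of_equiv Subgroup.topEquiv
    have hlt : D < (S : Subgroup G) :=
      lt_of_le_of_ne hDS fun e => hcore (inf_le_left.trans e.ge)
    have hquot : Controlled p 𝓦 (G ⧸ D) := by
      refine IHn _ ?_ (G ⧸ D) rfl (hsec.quotient _ (QuotientGroup.mk'_surjective D))
      rw [← hn, Subgroup.card_eq_card_quotient_mul_card_subgroup D]
      exact lt_mul_of_one_lt_right Nat.card_pos ((Subgroup.one_lt_card_iff_ne_bot D).mpr hD1)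
    have hcore' : Cfsg.pCore p (G ⧸ D) = ⊥ := by
      haveI := Fitting.pCore_normal (G := G ⧸ D) p
      set Q := Cfsg.pCore p (G ⧸ D)
      have h1 : Q.comap (QuotientGroup.mk' D) ≤ D :=
        Fitting.le_pCore (Subgroup.Normal.comap inferInstance _)
          ((Fitting.pCore_isPGroup p).comap_of_ker_isPGroup _ (by
            rw [QuotientGroup.ker_mk']; exact hDp))
      rw [← Subgroup.map_comap_eq_self_of_surjective (QuotientGroup.mk'_surjective D) Q,
        eq_bot_iff]
      exact (Subgroup.map_mono h1).trans (QuotientGroup.map_mk'_self D).le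
    exact controlled_of_residual_le h𝓦 hloc hsec IH D hDp hres hquot hcore' S hlt _ P hlast g hP hgP
  · -- `g` is a product of moves in `L S` and in `N(D')`
    have hS' : IsPGroup p ((S : Subgroup G).subgroupOf L) :=
      S.2.comap_of_injective L.subtype L.subtype_injective
    let PL : Sylow p L := IsPGroup.toSylow hS'
      fun h => S.not_dvd_index (h.trans (relIndex_dvd_index_of_normal (S : Subgroup G) L))
    have hfr := Sylow.normalizer_sup_eq_top PL
    rw [show (PL : Subgroup L).map L.subtype = D' from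
      Subgroup.subgroupOf_map_subtype (S : Subgroup G) L] at hfr
    obtain ⟨n', hn', l, hl, rfl⟩ := Subgroup.mem_sup_of_normal_right.mp
      (show g ∈ N ⊔ L from hfr.ge (Subgroup.mem_top g))
    set K := L ⊔ (S : Subgroup G) with hK
    have hSN : (S : Subgroup G) ≤ N :=
      Subgroup.le_normalizer.trans (fun s hs => Coprime.le_normalizer_inf_of_le le_rfl
        (Subgroup.le_normalizer_of_normal) hs)
    have hPK : cj l P ≤ K ⊓ N := by
      refine le_inf ?_ ?_
      · rintro _ ⟨a, ha, rfl⟩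
        exact K.mul_mem (K.mul_mem (Subgroup.mem_sup_left hl) (Subgroup.mem_sup_right (hP ha)))
          (K.inv_mem (Subgroup.mem_sup_left hl))
      · intro z hz
        have h1 : n' * z * n'⁻¹ ∈ N := by
          refine hSN (hgP ?_)
          rw [← cj_cj]
          exact conj_mem_cj hz
        simpa [mul_assoc] using N.mul_mem (N.mul_mem (N.inv_mem hn') h1) hn'
    obtain ⟨y, hy, hyP⟩ := exists_cj_le S (Y := K ⊓ N) (le_inf le_sup_right hSN) hPK
      ((S.2.to_le hP).map _)
    rw [cj_cj] at hyP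
    have h1 : Ctl (S : Subgroup G) (Ns 𝓦 (S : Subgroup G)) P (y * l) :=
      ctl_of_overgroup h𝓦 S (IH K hLS) le_sup_right
        (K.mul_mem hy.1 (Subgroup.mem_sup_left hl)) hP hyP
    refine h1.trans' ?_
    rw [show n' * l * (y * l)⁻¹ = n' * y⁻¹ by group]
    exact ctl_of_overgroup h𝓦 S (IH N hNtop) hSN (N.mul_mem hn' (N.inv_mem hy.2)) hyP
      (by rw [cj_cj, show n' * y⁻¹ * (y * l) = n' * l by group]; exact hgP)

theorem controlled_of_local (h𝓦 : ∀ W ∈ 𝓦, Cfsg.IsCharPFunctor.{u} p W) {G₀ : Type u} [Group G₀]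
    (hloc : Local p 𝓦 G₀) {G : Type u} [Group G] [Finite G] (hsec : Sect G₀ G) :
    Controlled p 𝓦 G :=
  controlled_of_local_aux h𝓦 hloc _ G rfl hsec

/-- Control is invariant under isomorphism. -/
theorem Controlled.congr (h𝓦 : ∀ W ∈ 𝓦, Cfsg.IsCharPFunctor.{u} p W) {X Y : Type u} [Group X]
    [Group Y] [Finite X] [Finite Y] (e : X ≃* Y) (hY : Controlled p 𝓦 Y) : Controlled p 𝓦 X := by
  intro S P g hP hgP
  let S' : Sylow p Y := S.mapSurjective (f := e.toMonoidHom) e.surjective
  have hS' : (S' : Subgroup Y) = (S : Subgroup X).map e.toMonoidHom := rfl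
  have hid : e.symm.toMonoidHom.comp e.toMonoidHom = MonoidHom.id X :=
    MonoidHom.ext e.symm_apply_apply
  have h := hY S' (P.map e.toMonoidHom) (e g) (hS' ▸ Subgroup.map_mono hP)
    (by rw [show e g = e.toMonoidHom g from rfl, ← map_cj]; exact hS' ▸ Subgroup.map_mono hgP)
  have h2 := h.map (S' := (S : Subgroup X)) (Ns' := Ns 𝓦 (S : Subgroup X)) e.symm.toMonoidHom
    (by rw [hS', Subgroup.map_map, hid, Subgroup.map_id]) (by
      have := ns_map h𝓦 e.symm.toMonoidHom S'.2 e.symm.injective.injOn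
      rwa [show (S' : Subgroup Y).map e.symm.toMonoidHom = (S : Subgroup X) by
        rw [hS', Subgroup.map_map, hid, Subgroup.map_id]] at this)
  rw [Subgroup.map_map, hid, Subgroup.map_id] at h2
  simpa using h2

/-- Control in one Sylow subgroup is control in all of them. -/
theorem controlled_of_one (h𝓦 : ∀ W ∈ 𝓦, Cfsg.IsCharPFunctor.{u} p W) {X : Type u} [Group X]
    [Finite X] (T : Sylow p X)
    (h : ∀ (P : Subgroup X) (g : X), P ≤ (T : Subgroup X) → cj g P ≤ (T : Subgroup X) →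
      Ctl (T : Subgroup X) (Ns 𝓦 (T : Subgroup X)) P g) : Controlled p 𝓦 X := by
  intro S P g hP hgP
  obtain ⟨x, hx⟩ := exists_map_conj_sylow_eq T S
  have hback : ∀ Q : Subgroup X, Q ≤ (S : Subgroup X) → cj x⁻¹ Q ≤ (T : Subgroup X) := fun Q hQ => by
    have := cj_mono x⁻¹ (hQ.trans hx.ge)
    rwa [cj_cj, inv_mul_cancel, cj_one] at this
  have h1 := (h (cj x⁻¹ P) (x⁻¹ * g * x) (hback P hP) (by
    rw [cj_cj, show x⁻¹ * g * x * x⁻¹ = x⁻¹ * g by group, ← cj_cj]; exact hback _ hgP)).map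
    (S' := (S : Subgroup X)) (Ns' := Ns 𝓦 (S : Subgroup X)) (MulAut.conj x).toMonoidHom hx.le
    (hx ▸ ns_map h𝓦 (MulAut.conj x).toMonoidHom T.2 (MulAut.conj x).injective.injOn)
  simp only [MulEquiv.coe_toMonoidHom, MulAut.conj_apply] at h1
  rw [← cj, cj_cj, mul_inv_cancel, cj_one] at h1
  simpa [mul_assoc] using h1

/-- From the statement form of control. -/
theorem controlled_of_family (h𝓦 : ∀ W ∈ 𝓦, Cfsg.IsCharPFunctor.{u} p W) {X : Type u} [Group X]
    [Finite X]
    (h : Cfsg.FamilyControlsStrongFusionIn p ((fun W => Cfsg.inducedFunctor (G := X) W) '' 𝓦) ⊤) :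
    Controlled p 𝓦 X := by
  obtain ⟨T, -, hTp, hidx, hch⟩ := h
  rw [Subgroup.relIndex_top_right] at hidx
  refine controlled_of_one h𝓦 (hTp.toSylow hidx) fun P g hP hgP => ?_
  change P ≤ T at hP
  change cj g P ≤ T at hgP
  change Ctl T (Ns 𝓦 T) P g
  obtain ⟨n, c, c0, cs, ci, cl⟩ := hch (P : Set X) g (Subgroup.mem_top g) hP
    (fun z ⟨a, ha, hz⟩ => hgP (hz ▸ conj_mem_cj ha))
  let c' : ℕ → X := fun i => if hi : i < n + 1 then c ⟨i, hi⟩ else 1
  have hc' : ∀ i (hi : i < n + 1), c' i = c ⟨i, hi⟩ := fun i hi => dif_pos hi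
  refine (Ctl.of_chain (P := P) n c' ((hc' 0 n.succ_pos).trans c0) (fun i hi => ?_) (fun i hi => ?_)).congr
    fun a ha => ?_
  · obtain ⟨_, ⟨W, hW, rfl⟩, hmem⟩ := cs ⟨i, hi⟩
    refine ⟨_, ⟨W, hW, rfl⟩, ?_⟩
    rw [hc' i (by omega), hc' (i + 1) (by omega)]
    exact hmem.2
  · rw [hc' i (by omega)]
    rintro _ ⟨a, ha, rfl⟩
    exact ci _ ⟨a, ha, rfl⟩
  · rw [hc' n n.lt_succ_self]
    exact cl a ha

/-- To the statement form of control. -/
theorem family_of_controlled {X : Type u} [Group X] [Finite X] (hX : Controlled p 𝓦 X) :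
    Cfsg.FamilyControlsStrongFusionIn p ((fun W => Cfsg.inducedFunctor (G := X) W) '' 𝓦) ⊤ := by
  obtain ⟨S⟩ := (inferInstance : Nonempty (Sylow p X))
  refine ⟨(S : Subgroup X), le_top, S.2, by rw [Subgroup.relIndex_top_right]; exact S.not_dvd_index,
    fun A g _ hA hgA => ?_⟩
  have hle : Subgroup.closure A ≤ (S : Subgroup X) := (Subgroup.closure_le _).mpr hA
  have hgle : cj g (Subgroup.closure A) ≤ (S : Subgroup X) := by
    rw [cj, MonoidHom.map_closure, Subgroup.closure_le]
    rintro _ ⟨a, ha, rfl⟩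
    exact hgA ⟨a, ha, rfl⟩
  obtain ⟨n, c, c0, cs, ci, cl⟩ := (hX S _ g hle hgle).exists_chain
  refine ⟨n, fun i => c i, c0, fun i => ?_, fun i => ?_, fun a ha => cl a (Subgroup.subset_closure ha)⟩
  · obtain ⟨_, ⟨W, hW, rfl⟩, hmem⟩ := cs i i.isLt
    exact ⟨_, ⟨W, hW, rfl⟩, Subgroup.mem_top _, hmem⟩
  · rintro _ ⟨a, ha, rfl⟩
    exact ci i (Nat.lt_succ_iff.mp i.isLt) (conj_mem_cj (Subgroup.subset_closure ha))

/-- A section presented as a quotient of a subgroup. -/
theorem exists_equiv_of_sect {G X : Type u} [Group G] [Group X] (h : Sect G X) :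
    ∃ (K R : Subgroup G) (_ : (R.subgroupOf K).Normal),
      Nonempty (X ≃* ↥K ⧸ R.subgroupOf K) := by
  obtain ⟨H, f, hf⟩ := h
  have hR : (f.ker.map H.subtype).subgroupOf H = f.ker :=
    Subgroup.comap_map_eq_self_of_injective H.subtype_injective _
  haveI hn : ((f.ker.map H.subtype).subgroupOf H).Normal := by rw [hR]; infer_instance
  exact ⟨H, f.ker.map H.subtype, hn, ⟨(QuotientGroup.quotientKerEquivOfSurjective f hf).symm.trans
    (QuotientGroup.quotientMulEquivOfEq hR.symm)⟩⟩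

theorem constrained_congr {X Y : Type*} [Group X] [Group Y] (e : X ≃* Y)
    (h : Subgroup.centralizer (Cfsg.pCore p X : Set X) ≤ Cfsg.pCore p X) :
    Subgroup.centralizer (Cfsg.pCore p Y : Set Y) ≤ Cfsg.pCore p Y := by
  intro c hc
  have h1 : (Cfsg.pCore p X).map e.toMonoidHom ≤ Cfsg.pCore p Y :=
    Fitting.le_pCore (Subgroup.Normal.map (Fitting.pCore_normal p) _ e.surjective)
      ((Fitting.pCore_isPGroup p).map _)
  have h2 : e.symm c ∈ Cfsg.pCore p X := h fun x hx => by
    apply e.injective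
    rw [map_mul, map_mul, e.apply_symm_apply]
    exact hc _ (h1 ⟨x, hx, rfl⟩)
  simpa using h1 ⟨_, h2, rfl⟩

/-- Control in every constrained `K / R` gives `Local`. -/
theorem local_of_quotients (h𝓦 : ∀ W ∈ 𝓦, Cfsg.IsCharPFunctor.{u} p W) {G : Type u} [Group G]
    [Finite G]
    (h : ∀ (K R : Subgroup G) [(R.subgroupOf K).Normal],
      Subgroup.centralizer (Cfsg.pCore p (↥K ⧸ R.subgroupOf K) : Set (↥K ⧸ R.subgroupOf K)) ≤
        Cfsg.pCore p (↥K ⧸ R.subgroupOf K) → Controlled p 𝓦 (↥K ⧸ R.subgroupOf K)) :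
    Local p 𝓦 G := by
  intro X _ _ hsec hc
  obtain ⟨K, R, hn, ⟨e⟩⟩ := exists_equiv_of_sect hsec
  haveI := hn
  exact (h K R (constrained_congr e hc)).congr h𝓦 e

/-- With all moves inside one subgroup, the map is induced by one of its elements. -/
theorem exists_mem_of_ctl {G : Type*} [Group G] {S : Subgroup G} {Ns : Set (Subgroup G)}
    {N : Subgroup G} (hN : ∀ M ∈ Ns, M ≤ N) {P : Subgroup G} {g : G} (h : Ctl S Ns P g) :
    ∃ x ∈ N, ∀ a ∈ P, g * a * g⁻¹ = x * a * x⁻¹ := by
  induction h with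
  | refl _ => exact ⟨1, N.one_mem, fun a _ => rfl⟩
  | @step P g M hM hg _ _ => exact ⟨g, hN M hM hg, fun a _ => rfl⟩
  | @comp P g h _ _ ih1 ih2 =>
    obtain ⟨x, hx, hxa⟩ := ih1
    obtain ⟨y, hy, hya⟩ := ih2
    refine ⟨y * x, N.mul_mem hy hx, fun a ha => ?_⟩
    rw [show h * g * a * (h * g)⁻¹ = h * (g * a * g⁻¹) * h⁻¹ by group, hya _ (conj_mem_cj ha),
      hxa a ha]
    group
  | congr _ e ih =>
    obtain ⟨x, hx, hxa⟩ := ih
    exact ⟨x, hx, fun a ha => (e a ha).symm.trans (hxa a ha)⟩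

/-- All moves inside the normalizer of `U`: `U` controls strong fusion. -/
theorem controlsStrongFusion_of_controlled {X : Type u} [Group X] [Finite X]
    (hX : Controlled p 𝓦 X) (S : Sylow p X) {U : Subgroup X} (hU : U ≤ (S : Subgroup X))
    (hN : ∀ M ∈ Ns 𝓦 (S : Subgroup X), M ≤ Subgroup.normalizer (U : Set X)) :
    Cfsg.ControlsStrongFusion p U := by
  refine ⟨S, hU, fun A hA => ⟨hA, fun g hgA => ?_⟩⟩
  have hle : Subgroup.closure A ≤ (S : Subgroup X) := (Subgroup.closure_le _).mpr hA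
  have hgle : cj g (Subgroup.closure A) ≤ (S : Subgroup X) := by
    rw [cj, MonoidHom.map_closure, Subgroup.closure_le]
    rintro _ ⟨a, ha, rfl⟩
    exact hgA ⟨a, ha, rfl⟩
  obtain ⟨x, hx, hxa⟩ := exists_mem_of_ctl hN (hX S _ g hle hgle)
  exact ⟨x, hx, fun a ha => hxa a (Subgroup.subset_closure ha)⟩

theorem sect_quotient {G : Type u} [Group G] (K R : Subgroup G) [(R.subgroupOf K).Normal] :
    Sect G (↥K ⧸ R.subgroupOf K) :=
  ⟨K, QuotientGroup.mk' _, QuotientGroup.mk'_surjective _⟩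

end CfsgLib.Conjugacy
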