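import Mathlib
import Cfsg.Prelude.Def_ConjugacyFunctors
import Cfsg.Agent.Lib.Transfer.Sylow
import Cfsg.Agent.Lib.Transfer.Alperin
import Cfsg.Agent.Lib.Conjugacy.Control

/-!
Conjugation families from one fully normalized member in each class, and well placed subgroups.
-/

set_option autoImplicit false
set_option linter.style.haveILetI false
set_option linter.unusedSectionVars false

namespace CfsgLib.Conjugacy

open CfsgLib.Transfer

variable {G : Type*} [Group G] {p : ℕ} [hp : Fact p.Prime]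

/-- A chain of conjugations inside normalizers of members of `𝓕`, each starting inside the member. -/
def FamChain (𝓕 : Set (Subgroup G)) : Subgroup G → List (Subgroup G × G) → Prop
  | _, [] => True
  | P, (U, x) :: l => U ∈ 𝓕 ∧ x ∈ Subgroup.normalizer (U : Set G) ∧ P ≤ U ∧
      FamChain 𝓕 (cj x⁻¹ P) l

/-- `g` is a composite along such a chain starting at `P` (conjugation on the right). -/
def Fam (𝓕 : Set (Subgroup G)) (P : Subgroup G) (g : G) : Prop :=
  ∃ l, FamChain 𝓕 P l ∧ (l.map Prod.snd).prod = g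

variable {𝓕 : Set (Subgroup G)}

theorem famChain_append {P : Subgroup G} {l l' : List (Subgroup G × G)} (h : FamChain 𝓕 P l)
    (h' : FamChain 𝓕 (cj ((l.map Prod.snd).prod)⁻¹ P) l') : FamChain 𝓕 P (l ++ l') := by
  induction l generalizing P with
  | nil => simpa [cj_one] using h'
  | cons a l ih =>
    obtain ⟨U, x⟩ := a
    refine ⟨h.1, h.2.1, h.2.2.1, ih h.2.2.2 ?_⟩
    rw [cj_cj, ← mul_inv_rev]
    simpa using h'

theorem Fam.mk_step {P U : Subgroup G} {x : G} (hU : U ∈ 𝓕)
    (hx : x ∈ Subgroup.normalizer (U : Set G)) (hP : P ≤ U) : Fam 𝓕 P x :=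
  ⟨[(U, x)], ⟨hU, hx, hP, trivial⟩, by simp⟩

theorem Fam.comp {P : Subgroup G} {g h : G} (h₁ : Fam 𝓕 P g) (h₂ : Fam 𝓕 (cj g⁻¹ P) h) :
    Fam 𝓕 P (g * h) := by
  obtain ⟨l, hl, rfl⟩ := h₁
  obtain ⟨l', hl', rfl⟩ := h₂
  exact ⟨l ++ l', famChain_append hl hl', by simp⟩

theorem Fam.mono {P Q : Subgroup G} {g : G} (h : Fam 𝓕 P g) (hQ : Q ≤ P) : Fam 𝓕 Q g := by
  obtain ⟨l, hl, rfl⟩ := h
  refine ⟨l, ?_, rfl⟩
  induction l generalizing P Q with
  | nil => trivial
  | cons a l ih =>
    obtain ⟨U, x⟩ := a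
    exact ⟨hl.1, hl.2.1, hQ.trans hl.2.2.1, ih (cj_mono _ hQ) hl.2.2.2⟩

theorem Fam.symm {P : Subgroup G} {g : G} (h : Fam 𝓕 P g) : Fam 𝓕 (cj g⁻¹ P) g⁻¹ := by
  obtain ⟨l, hl, rfl⟩ := h
  induction l generalizing P with
  | nil => exact ⟨[], trivial, by simp⟩
  | cons a l ih =>
    obtain ⟨U, x⟩ := a
    have h1 := ih hl.2.2.2
    rw [cj_cj, ← mul_inv_rev] at h1
    have h2 : Fam 𝓕 (cj ((l.map Prod.snd).prod⁻¹)⁻¹ (cj (x * (l.map Prod.snd).prod)⁻¹ P)) x⁻¹ := by
      refine Fam.mk_step hl.1 (Subgroup.inv_mem _ hl.2.1) ?_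
      rw [cj_cj, inv_inv, mul_inv_rev, mul_inv_cancel_left]
      exact (cj_mono _ hl.2.2.1).trans (cj_eq_of_mem_normalizer (Subgroup.inv_mem _ hl.2.1)).le
    simpa using h1.comp h2

theorem famChain_get {P : Subgroup G} {l : List (Subgroup G × G)} (h : FamChain 𝓕 P l) :
    ∀ i, (hi : i < l.length) → (l[i]).1 ∈ 𝓕 ∧ (l[i]).2 ∈ Subgroup.normalizer ((l[i]).1 : Set G) ∧
      cj (((l.map Prod.snd).take i).prod)⁻¹ P ≤ (l[i]).1 := by
  induction l generalizing P with
  | nil => intro i hi; exact absurd hi (Nat.not_lt_zero i)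
  | cons a l ih =>
    obtain ⟨U, x⟩ := a
    intro i hi
    cases i with
    | zero => exact ⟨h.1, h.2.1, by simpa [cj_one] using h.2.2.1⟩
    | succ i =>
      obtain ⟨h1, h2, h3⟩ := ih h.2.2.2 i (by simpa using hi)
      refine ⟨by simpa using h1, by simpa using h2, ?_⟩
      rw [cj_cj, ← mul_inv_rev] at h3
      simpa using h3

/-- A subgroup `U` of `S` with `N_S(U)` Sylow in `N(U)`. -/
def FullyNorm (p : ℕ) (S U : Subgroup G) : Prop :=
  ¬ p ∣ (S ⊓ Subgroup.normalizer (U : Set G)).relIndex (Subgroup.normalizer (U : Set G))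

variable [Finite G]

theorem exists_cj_le_of_relIndex {T Y Q : Subgroup G} (hTY : T ≤ Y) (hT : IsPGroup p T)
    (hidx : ¬ p ∣ T.relIndex Y) (hQY : Q ≤ Y) (hQ : IsPGroup p Q) : ∃ y ∈ Y, cj y Q ≤ T := by
  set Ts : Sylow p Y := (hT.comap_of_injective Y.subtype Y.subtype_injective).toSylow hidx with hTs
  obtain ⟨y, hy⟩ := exists_map_conj_le_sylow (hQ.comap_of_injective Y.subtype Y.subtype_injective) Ts
  refine ⟨y, y.2, ?_⟩
  rintro _ ⟨q, hq, rfl⟩
  exact hy ⟨⟨q, hQY hq⟩, hq, rfl⟩

theorem fam_of_fullyNorm (S : Sylow p G)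
    (h : ∀ T : Subgroup G, T ≤ (S : Subgroup G) → ∃ U ∈ 𝓕, (∃ g : G, cj g T = U) ∧
      FullyNorm p (S : Subgroup G) U)
    (h𝓕 : ∀ U ∈ 𝓕, U ≤ (S : Subgroup G)) (m : ℕ) :
    ∀ P : Subgroup G, Nat.card (S : Subgroup G) < Nat.card P + m → ∀ g : G,
      P ≤ (S : Subgroup G) → cj g⁻¹ P ≤ (S : Subgroup G) → Fam 𝓕 P g := by
  induction m with
  | zero => exact fun P hlt g hP _ => absurd hlt (by simpa using Subgroup.card_le_of_le hP)
  | succ m ih =>
    intro P hlt g hP hgP
    obtain ⟨U, hU, ⟨h₀, hh₀⟩, hfull⟩ := h P hP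
    by_cases hPS : P = (S : Subgroup G)
    · have hUS : U = (S : Subgroup G) := Subgroup.eq_of_le_of_card_ge (h𝓕 U hU)
        (by rw [← hh₀, card_cj, hPS])
      refine Fam.mk_step hU ?_ (hUS ▸ hP)
      rw [hUS]
      have : cj g⁻¹ P = P := Subgroup.eq_of_le_of_card_ge (hgP.trans hPS.ge) (card_cj _ _).ge
      rw [hPS] at this
      simpa using Subgroup.inv_mem _ (Subgroup.mem_normalizer_iff_map_conj_eq.mpr this)
    set NU := Subgroup.normalizer (U : Set G) with hNU
    set TU := (S : Subgroup G) ⊓ NU with hTU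
    have hTUp : IsPGroup p TU := S.2.to_le inf_le_left
    -- conjugates inside `S` move onto `U` together with their normalizers
    have hmove : ∀ R : Subgroup G, R ≤ (S : Subgroup G) → Nat.card R = Nat.card P →
        ∀ k : G, cj k R = U → ∃ y ∈ NU, Fam 𝓕 R (y * k)⁻¹ := by
      intro R hR hcard k hk
      have hRne : R ≠ (S : Subgroup G) := fun e =>
        hPS (Subgroup.eq_of_le_of_card_ge hP (by rw [← hcard, e]))
      have hlt' := lt_inf_normalizer S.2 (lt_of_le_of_ne hR hRne)
      set NR := (S : Subgroup G) ⊓ Subgroup.normalizer (R : Set G) with hNR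
      have hsub : cj k NR ≤ NU := by
        refine (cj_mono k inf_le_right).trans (le_of_eq ?_)
        rw [hNU, ← hk]
        exact Subgroup.map_equiv_normalizer_eq R (MulAut.conj k)
      obtain ⟨y, hy, hyle⟩ := exists_cj_le_of_relIndex (inf_le_right : TU ≤ NU) hTUp hfull hsub
        ((S.2.to_le inf_le_left).map _)
      rw [cj_cj] at hyle
      refine ⟨y, hy, (ih NR ?_ _ inf_le_left (by rw [inv_inv]; exact hyle.trans inf_le_left)).mono hlt'.le⟩
      have : Nat.card R < Nat.card NR := lt_of_le_of_ne (Subgroup.card_le_of_le hlt'.le)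
        fun e => hlt'.ne (Subgroup.eq_of_le_of_card_ge hlt'.le e.ge)
      omega
    obtain ⟨y, hy, hfP⟩ := hmove P hP rfl h₀ hh₀
    set Q := cj g⁻¹ P with hQdef
    have hQU : cj (h₀ * g) Q = U := by
      rw [hQdef, cj_cj, mul_assoc, mul_inv_cancel, mul_one, hh₀]
    obtain ⟨y', hy', hfQ⟩ := hmove Q hgP (card_cj _ _) _ hQU
    have hPU : cj (y * h₀) P = U := by
      rw [← cj_cj, hh₀, cj_eq_of_mem_normalizer hy]
    have hQU' : cj (y' * (h₀ * g)) Q = U := by
      rw [← cj_cj, hQU, cj_eq_of_mem_normalizer hy']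
    have hmid : Fam 𝓕 U (y * y'⁻¹) :=
      Fam.mk_step hU (NU.mul_mem hy (NU.inv_mem hy')) le_rfl
    have hback := hfQ.symm
    rw [inv_inv, hQU'] at hback
    have h1 : Fam 𝓕 P ((y * h₀)⁻¹ * (y * y'⁻¹)) := hfP.comp (by rw [inv_inv, hPU]; exact hmid)
    have hend : cj ((y * h₀)⁻¹ * (y * y'⁻¹))⁻¹ P = U := by
      rw [mul_inv_rev, inv_inv, ← cj_cj, hPU]
      exact cj_eq_of_mem_normalizer (NU.inv_mem (NU.mul_mem hy (NU.inv_mem hy')))
    have h2 := h1.comp (hend.symm ▸ hback)
    rwa [show (y * h₀)⁻¹ * (y * y'⁻¹) * (y' * (h₀ * g)) = g by group] at h2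

/-- One fully normalized member in each class gives a conjugation family. -/
theorem isConjugationFamily_of_fullyNorm (S : Sylow p G) (h𝓕 : ∀ U ∈ 𝓕, U ≤ (S : Subgroup G))
    (h : ∀ T : Subgroup G, T ≤ (S : Subgroup G) → ∃ U ∈ 𝓕, (∃ g : G, cj g T = U) ∧
      FullyNorm p (S : Subgroup G) U) :
    Cfsg.IsConjugationFamily 𝓕 (S : Subgroup G) := by
  refine ⟨h𝓕, fun A g _ hA hgA => ?_⟩
  set P := Subgroup.closure A with hPdef
  have hP : P ≤ (S : Subgroup G) := (Subgroup.closure_le _).mpr hA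
  have hgP : cj g⁻¹ P ≤ (S : Subgroup G) := by
    rw [hPdef, cj, MonoidHom.map_closure, Subgroup.closure_le]
    rintro _ ⟨a, ha, rfl⟩
    simpa using hgA ⟨a, ha, rfl⟩
  obtain ⟨l, hl, hprod⟩ := fam_of_fullyNorm S h h𝓕 (Nat.card (S : Subgroup G) + 1) P (by omega) g hP hgP
  have hget := famChain_get hl
  have hlist : List.ofFn (fun i : Fin l.length => (l[i.1]).2) = l.map Prod.snd :=
    List.ext_getElem (by simp) fun i h1 h2 => by simp
  refine ⟨l.length, fun i => (l[i.1]).1, fun i => (l[i.1]).2, by rw [hlist, hprod],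
    fun i => (hget i i.2).1, fun i => (hget i i.2).2.1, fun h0 a ha => ?_, fun i hi => ?_⟩
  · have := (hget 0 h0).2.2
    rw [List.take_zero, List.prod_nil, inv_one, cj_one] at this
    exact this (Subgroup.subset_closure ha)
  · rw [hlist]
    rintro _ ⟨a, ha, rfl⟩
    refine (hget (i.1 + 1) hi).2.2 ?_
    have := conj_mem_cj (g := (((l.map Prod.snd).take (i.1 + 1)).prod)⁻¹)
      (Subgroup.subset_closure ha : a ∈ P)
    simpa using this

section Tower

variable {W : Subgroup G → Subgroup G}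

/-- `N_S(U_i)` for the tower of `T`. -/
abbrev towerNorm (W : Subgroup G → Subgroup G) (S T : Subgroup G) (i : ℕ) : Subgroup G :=
  S ⊓ Subgroup.normalizer ((Cfsg.functorTower W S T i : Subgroup G) : Set G)

theorem towerNorm_le_succ (hW : Cfsg.IsConjugacyFunctor p W) (S : Sylow p G) (T : Subgroup G)
    (i : ℕ) : towerNorm W (S : Subgroup G) T i ≤ towerNorm W (S : Subgroup G) T (i + 1) := by
  set M := towerNorm W (S : Subgroup G) T i with hM
  refine le_inf inf_le_left fun x hx => Subgroup.mem_normalizer_iff_map_conj_eq.mpr ?_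
  have h1 := (hW M (S.2.to_le inf_le_left)).2.2 x
  rw [show M.map (MulAut.conj x).toMonoidHom = M from
    cj_eq_of_mem_normalizer (Subgroup.le_normalizer hx)] at h1
  exact h1.symm

theorem towerNorm_mono (hW : Cfsg.IsConjugacyFunctor p W) (S : Sylow p G) (T : Subgroup G) :
    Monotone (towerNorm W (S : Subgroup G) T) :=
  monotone_nat_of_le_succ (towerNorm_le_succ hW S T)

theorem exists_placed_upTo (hW : Cfsg.IsConjugacyFunctor p W) (S : Sylow p G) {T : Subgroup G}
    (hT : T ≤ (S : Subgroup G)) (k : ℕ) :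
    ∃ g : G, cj g T ≤ (S : Subgroup G) ∧ ∀ i < k, FullyNorm p (S : Subgroup G)
      (Cfsg.functorTower W (S : Subgroup G) (cj g T) i) := by
  induction k with
  | zero => exact ⟨1, by rwa [cj_one], fun i hi => absurd hi (Nat.not_lt_zero i)⟩
  | succ k ih =>
    obtain ⟨g, hg, hfull⟩ := ih
    set T₁ := cj g T with hT₁
    set U := Cfsg.functorTower W (S : Subgroup G) T₁ with hU
    set NU := Subgroup.normalizer (U k : Set G) with hNU
    obtain ⟨R, hR⟩ := ((S.2.to_le (inf_le_left : towerNorm W (S : Subgroup G) T₁ k ≤ S)).comap_of_injective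
      NU.subtype NU.subtype_injective).exists_le_sylow
    obtain ⟨x, hx⟩ := exists_map_conj_le_sylow (R.2.map NU.subtype) S
    have hxN : cj x (towerNorm W (S : Subgroup G) T₁ k) ≤ (S : Subgroup G) := by
      refine le_trans (cj_mono x ?_) hx
      exact fun z hz => ⟨⟨z, hz.2⟩, hR hz, rfl⟩
    have hnorm : ∀ i, cj x (Subgroup.normalizer (U i : Set G)) =
        Subgroup.normalizer ((cj x (U i) : Subgroup G) : Set G) := fun i =>
      Subgroup.map_equiv_normalizer_eq _ (MulAut.conj x)
    have hmono := towerNorm_mono hW S T₁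
    have heq : ∀ i ≤ k, Cfsg.functorTower W (S : Subgroup G) (cj x T₁) i = cj x (U i) := by
      intro i
      induction i with
      | zero => exact fun _ => rfl
      | succ i ihi =>
        intro hi
        have e := ihi (by omega)
        show W (towerNorm W (S : Subgroup G) (cj x T₁) i) = cj x (U (i + 1))
        have hle : cj x (towerNorm W (S : Subgroup G) T₁ i) ≤
            towerNorm W (S : Subgroup G) (cj x T₁) i :=
          le_inf ((cj_mono x (hmono (by omega))).trans hxN)
            ((cj_mono x inf_le_right).trans (le_of_eq (by rw [e, hnorm])))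
        have e2 : cj x (towerNorm W (S : Subgroup G) T₁ i) =
            towerNorm W (S : Subgroup G) (cj x T₁) i := by
          refine Subgroup.eq_of_le_of_card_ge hle ?_
          obtain ⟨y, hy, hyle⟩ := exists_cj_le_of_relIndex
            (inf_le_right : towerNorm W (S : Subgroup G) T₁ i ≤ Subgroup.normalizer (U i : Set G))
            (S.2.to_le inf_le_left) (hfull i (by omega))
            (Q := cj x⁻¹ (towerNorm W (S : Subgroup G) (cj x T₁) i)) (by
              refine (cj_mono _ inf_le_right).trans (le_of_eq ?_)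
              rw [e, ← hnorm, cj_cj, inv_mul_cancel, cj_one])
            ((S.2.to_le inf_le_left).map _)
          have := Subgroup.card_le_of_le hyle
          rwa [cj_cj, card_cj, ← card_cj x (towerNorm W (S : Subgroup G) T₁ i)] at this
        rw [← e2]
        exact (hW _ (S.2.to_le inf_le_left)).2.2 x
    have hT₁N : T₁ ≤ towerNorm W (S : Subgroup G) T₁ k :=
      le_trans (le_inf hg Subgroup.le_normalizer) (hmono (Nat.zero_le k))
    refine ⟨x * g, by rw [← cj_cj]; exact (cj_mono x hT₁N).trans hxN, fun i hi => ?_⟩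
    rw [← cj_cj, ← hT₁, FullyNorm, heq i (by omega)]
    set NX := Subgroup.normalizer ((cj x (U i) : Subgroup G) : Set G) with hNX
    -- a Sylow subgroup of `N(U i)` is carried into `S`
    obtain ⟨Z, hZN, hZp, hZi, hxZ⟩ : ∃ Z : Subgroup G, Z ≤ Subgroup.normalizer (U i : Set G) ∧
        IsPGroup p Z ∧ ¬ p ∣ Z.relIndex (Subgroup.normalizer (U i : Set G)) ∧
        cj x Z ≤ (S : Subgroup G) := by
      rcases Nat.lt_or_ge i k with hik | hik
      · exact ⟨_, inf_le_right, S.2.to_le inf_le_left, hfull i hik,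
          (cj_mono x (hmono hik.le)).trans hxN⟩
      · obtain rfl : i = k := by omega
        refine ⟨(R : Subgroup NU).map NU.subtype, Subgroup.map_subtype_le _, R.2.map _, ?_, hx⟩
        rw [Subgroup.relIndex, Subgroup.subgroupOf,
          Subgroup.comap_map_eq_self_of_injective NU.subtype_injective]
        exact R.not_dvd_index
    have hle : cj x Z ≤ (S : Subgroup G) ⊓ NX :=
      le_inf hxZ ((cj_mono x hZN).trans (hnorm i).le)
    refine fun hd => hZi ?_
    have h2 := hd.trans (Subgroup.relIndex_dvd_of_le_left NX hle)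
    rwa [hNX, ← hnorm, cj, cj, Subgroup.relIndex_map_map_of_injective _ _ (MulAut.conj x).injective] at h2

theorem exists_wellPlaced (hW : Cfsg.IsConjugacyFunctor p W) (S : Sylow p G) {T : Subgroup G}
    (hT : T ≤ (S : Subgroup G)) : ∃ g : G, Cfsg.IsWellPlaced p W (S : Subgroup G) (cj g T) := by
  set b := Nat.card (S : Subgroup G) with hb
  obtain ⟨g, hg, hfull⟩ := exists_placed_upTo hW S hT (b + 2)
  refine ⟨g, hg, fun i => ?_⟩
  set N := towerNorm W (S : Subgroup G) (cj g T) with hN
  have hmono : Monotone N := towerNorm_mono hW S _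
  obtain ⟨j, hj, hjeq⟩ : ∃ j ≤ b, N j = N (j + 1) := by
    by_contra hne
    push_neg at hne
    have hgrow : ∀ j, j ≤ b + 1 → j < Nat.card (N j) + 0 := by
      intro j
      induction j with
      | zero => exact fun _ => by simpa using Nat.card_pos
      | succ j ihj =>
        intro hj
        have h1 := ihj (by omega)
        have h2 : N j < N (j + 1) := lt_of_le_of_ne (hmono (Nat.le_succ j)) (hne j (by omega))
        have h3 : Nat.card (N j) < Nat.card (N (j + 1)) :=
          lt_of_le_of_ne (Subgroup.card_le_of_le h2.le)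
            fun e => h2.ne (Subgroup.eq_of_le_of_card_ge h2.le e.ge)
        omega
    have h4 := hgrow (b + 1) le_rfl
    have h5 : Nat.card (N (b + 1)) ≤ b := Subgroup.card_le_of_le inf_le_left
    omega
  have hconst : ∀ d, Cfsg.functorTower W (S : Subgroup G) (cj g T) (j + 1 + d) =
      Cfsg.functorTower W (S : Subgroup G) (cj g T) (j + 1) := by
    intro d
    induction d with
    | zero => rfl
    | succ d ihd =>
      show W ((S : Subgroup G) ⊓ Subgroup.normalizer
        ((Cfsg.functorTower W (S : Subgroup G) (cj g T) (j + 1 + d) : Subgroup G) : Set G)) = W (N j)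
      rw [ihd, hjeq]
  rcases Nat.lt_or_ge i (b + 2) with hi | hi
  · exact hfull i hi
  · obtain ⟨d, rfl⟩ : ∃ d, i = j + 1 + d := ⟨i - (j + 1), by omega⟩
    rw [hconst d]
    exact hfull (j + 1) (by omega)

end Tower

end CfsgLib.Conjugacy
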