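import Mathlib
import Cfsg.Agent.Lib.Conjugacy.FusionSections
import Cfsg.Agent.Lib.Conjugacy.WellPlaced

/-!
Control of transfer by functors, reduced to `[O_p(X), X]` in sections `X` with self-centralizing
`O_p(X)`.
-/

set_option autoImplicit false
set_option linter.style.haveILetI false
set_option linter.unusedSectionVars false

open scoped commutatorElement

namespace CfsgLib.Conjugacy

open CfsgLib.Transfer

universe u

variable {p : ℕ} [hp : Fact p.Prime] {𝓦 : Set (∀ (Q : Type u) [Group Q], Subgroup Q)}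

/-- `T ∩ N(W(T))'`, joined over the functors. -/
def focalJoin (𝓦 : Set (∀ (Q : Type u) [Group Q], Subgroup Q)) {G : Type u} [Group G]
    (T : Subgroup G) : Subgroup G :=
  ⨆ W ∈ 𝓦, T ⊓ ⁅Subgroup.normalizer (Cfsg.inducedFunctor W T : Set G),
    Subgroup.normalizer (Cfsg.inducedFunctor W T : Set G)⁆

/-- Transfer is controlled at `S`. -/
def OkAt (𝓦 : Set (∀ (Q : Type u) [Group Q], Subgroup Q)) {G : Type u} [Group G] (S : Subgroup G) :
    Prop :=
  S ⊓ commutator G ≤ focalJoin 𝓦 S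

/-- Transfer is controlled at every Sylow subgroup. -/
def Ok (p : ℕ) (𝓦 : Set (∀ (Q : Type u) [Group Q], Subgroup Q)) (G : Type u) [Group G] : Prop :=
  ∀ S : Sylow p G, OkAt 𝓦 (S : Subgroup G)

section basic

variable {G : Type u} [Group G]

theorem focalJoin_le (T : Subgroup G) : focalJoin 𝓦 T ≤ T :=
  iSup₂_le fun _ _ => inf_le_left

theorem focalJoin_le_commutator (T : Subgroup G) : focalJoin 𝓦 T ≤ commutator G :=
  iSup₂_le fun _ _ => inf_le_right.trans (Subgroup.commutator_mono le_top le_top)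

theorem le_focalJoin {W : ∀ (Q : Type u) [Group Q], Subgroup Q} (hW : W ∈ 𝓦) (T : Subgroup G) :
    T ⊓ ⁅Subgroup.normalizer (Cfsg.inducedFunctor W T : Set G),
      Subgroup.normalizer (Cfsg.inducedFunctor W T : Set G)⁆ ≤ focalJoin 𝓦 T :=
  le_iSup₂ (f := fun W (_ : W ∈ 𝓦) => T ⊓ ⁅Subgroup.normalizer (Cfsg.inducedFunctor W T : Set G),
    Subgroup.normalizer (Cfsg.inducedFunctor W T : Set G)⁆) W hW

theorem map_focalJoin_le (h𝓦 : ∀ W ∈ 𝓦, Cfsg.IsCharPFunctor.{u} p W) [Finite G] {H : Type u}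
    [Group H] (f : G →* H) {T : Subgroup G} (hT : IsPGroup p T) (hf : Set.InjOn f (T : Set G)) :
    (focalJoin 𝓦 T).map f ≤ focalJoin 𝓦 (T.map f) := by
  rw [focalJoin, Subgroup.map_iSup]
  refine iSup_le fun W => ?_
  rw [Subgroup.map_iSup]
  refine iSup_le fun hW => le_trans ?_ (le_focalJoin hW _)
  refine (Subgroup.map_inf_le _ _ _).trans (inf_le_inf_left _ ?_)
  rw [Subgroup.map_commutator, ← map (h𝓦 W hW) f hT hf]
  exact Subgroup.commutator_mono (Subgroup.le_normalizer_map f) (Subgroup.le_normalizer_map f)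

theorem normalizer_le_focalJoin (h𝓦 : ∀ W ∈ 𝓦, Cfsg.IsCharPFunctor.{u} p W) [Finite G]
    {T : Subgroup G} (hT : IsPGroup p T) :
    Subgroup.normalizer (T : Set G) ≤ Subgroup.normalizer (focalJoin 𝓦 T : Set G) := by
  intro g hg
  have h : ∀ x ∈ Subgroup.normalizer (T : Set G), ∀ t ∈ focalJoin 𝓦 T,
      x * t * x⁻¹ ∈ focalJoin 𝓦 T := by
    intro x hx t ht
    have h1 := map_focalJoin_le h𝓦 (MulAut.conj x).toMonoidHom hT (MulAut.conj x).injective.injOn
      (Subgroup.mem_map_of_mem _ ht)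
    rw [show T.map (MulAut.conj x).toMonoidHom = T from cj_eq_of_mem_normalizer hx] at h1
    exact h1
  refine Subgroup.mem_normalizer_iff.mpr fun t => ⟨h g hg t, fun ht => ?_⟩
  simpa [mul_assoc] using h g⁻¹ (Subgroup.inv_mem _ hg) _ ht

theorem okAt_conj (h𝓦 : ∀ W ∈ 𝓦, Cfsg.IsCharPFunctor.{u} p W) [Finite G] {T : Subgroup G}
    (hT : IsPGroup p T) (g : G) (h : OkAt 𝓦 T) : OkAt 𝓦 (cj g T) := by
  intro x hx
  obtain ⟨⟨t, ht, rfl⟩, hxc⟩ := hx
  have htc : t ∈ commutator G := by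
    have := (inferInstance : (commutator G).Normal).conj_mem _ hxc g⁻¹
    simpa [mul_assoc] using this
  exact map_focalJoin_le h𝓦 (MulAut.conj g).toMonoidHom hT (MulAut.conj g).injective.injOn
    (Subgroup.mem_map_of_mem _ (h ⟨ht, htc⟩))

theorem ok_of_okAt (h𝓦 : ∀ W ∈ 𝓦, Cfsg.IsCharPFunctor.{u} p W) [Finite G] (S : Sylow p G)
    (h : OkAt 𝓦 (S : Subgroup G)) : Ok p 𝓦 G := fun S' => by
  obtain ⟨g, hg⟩ := exists_map_conj_sylow_eq S S'
  exact hg ▸ okAt_conj h𝓦 S.2 g h

theorem ok_congr (h𝓦 : ∀ W ∈ 𝓦, Cfsg.IsCharPFunctor.{u} p W) [Finite G] {H : Type u} [Group H]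
    [Finite H] (e : G ≃* H) (h : Ok p 𝓦 G) : Ok p 𝓦 H := by
  obtain ⟨S⟩ := (inferInstance : Nonempty (Sylow p G))
  refine ok_of_okAt h𝓦 (S.mapSurjective (f := e.toMonoidHom) e.surjective) ?_
  show (S : Subgroup G).map e.toMonoidHom ⊓ commutator H ≤ focalJoin 𝓦 ((S : Subgroup G).map e.toMonoidHom)
  have h1 : (commutator G).map e.toMonoidHom = commutator H := by
    rw [commutator_def, commutator_def, Subgroup.map_commutator,
      Subgroup.map_top_of_surjective _ e.surjective]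
  rw [← h1, ← Subgroup.map_inf _ _ _ e.injective]
  exact (Subgroup.map_mono (h S)).trans
    (map_focalJoin_le h𝓦 _ S.2 e.injective.injOn)

/-- The conclusion for a subgroup, at one of its Sylow subgroups. -/
theorem inf_commutator_le (h𝓦 : ∀ W ∈ 𝓦, Cfsg.IsCharPFunctor.{u} p W) [Finite G] {H T : Subgroup G}
    (hTH : T ≤ H) (hT : IsPGroup p T) (hidx : ¬ p ∣ T.relIndex H) (hok : Ok p 𝓦 H) :
    T ⊓ ⁅H, H⁆ ≤ focalJoin 𝓦 T := by
  set T' : Sylow p H := (hT.comap_of_injective H.subtype H.subtype_injective).toSylow hidx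
  have hT' : (T' : Subgroup H).map H.subtype = T := Subgroup.map_subgroupOf_eq_of_le hTH
  intro x hx
  obtain ⟨y, hy, rfl⟩ := hTH.trans_eq rfl hx.1 |> fun h => (⟨⟨x, h⟩, hx.1, rfl⟩ :
    ∃ y : H, (y : G) ∈ T ∧ (y : G) = x)
  have hyc : y ∈ commutator H := by
    have h1 : (commutator H).map H.subtype = ⁅H, H⁆ := Subgroup.map_subtype_commutator H
    exact (Subgroup.mem_map_iff_mem H.subtype_injective).mp (h1 ▸ hx.2)
  have := map_focalJoin_le h𝓦 H.subtype T'.2 H.subtype_injective.injOn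
    (Subgroup.mem_map_of_mem _ (hok T' ⟨hy, hyc⟩))
  rwa [hT'] at this

theorem inf_commutator_le_sylow (h𝓦 : ∀ W ∈ 𝓦, Cfsg.IsCharPFunctor.{u} p W) [Finite G]
    (S : Sylow p G) {H : Subgroup G} (hSH : (S : Subgroup G) ≤ H) (hok : Ok p 𝓦 H) :
    (S : Subgroup G) ⊓ ⁅H, H⁆ ≤ focalJoin 𝓦 (S : Subgroup G) :=
  inf_commutator_le h𝓦 hSH S.2 (S.subtype hSH).not_dvd_index hok

end basic

/-- The hypothesis available at `G`: every smaller section is fine. -/
def SmallerOk (p : ℕ) (𝓦 : Set (∀ (Q : Type u) [Group Q], Subgroup Q)) (G : Type u) [Group G] :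
    Prop :=
  (∀ H : Subgroup G, H ≠ ⊤ → Ok p 𝓦 H) ∧
    ∀ (N : Subgroup G) [N.Normal], N ≠ ⊥ → Ok p 𝓦 (G ⧸ N)

section step

variable {G : Type u} [Group G] [Finite G] (h𝓦 : ∀ W ∈ 𝓦, Cfsg.IsCharPFunctor.{u} p W)
  (hIH : SmallerOk p 𝓦 G) (S : Sylow p G)

theorem telescope {𝓕 : Set (Subgroup G)} {T : Subgroup G} {n : ℕ}
    (h : ∀ Q ∈ 𝓕, n ≤ Nat.card Q → ⁅Q, Subgroup.normalizer (Q : Set G)⁆ ≤ T) {P : Subgroup G}
    {l : List (Subgroup G × G)} (hl : FamChain 𝓕 P l) (hn : n ≤ Nat.card P) :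
    ∀ x ∈ P, x⁻¹ * ((l.map Prod.snd).prod⁻¹ * x * (l.map Prod.snd).prod) ∈ T := by
  induction l generalizing P with
  | nil => intro x _; simp
  | cons a l ih =>
    obtain ⟨U, k⟩ := a
    intro x hx
    have h1 := ih hl.2.2.2 (by rwa [card_cj]) _ (mem_cj.mpr (show k⁻¹⁻¹ * (k⁻¹ * x * k) * k⁻¹ ∈ P by
      simpa [mul_assoc] using hx))
    have h2 : x⁻¹ * (k⁻¹ * x * k) ∈ T := by
      have := h U hl.1 (hn.trans (Subgroup.card_le_of_le hl.2.2.1)) (Subgroup.commutator_mem_commutator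
        (U.inv_mem (hl.2.2.1 hx)) (Subgroup.inv_mem _ hl.2.1))
      simpa [commutatorElement_def, mul_assoc] using this
    simp only [List.map_cons, List.prod_cons, mul_inv_rev]
    simpa [mul_assoc] using T.mul_mem h2 h1

/-- The fully normalized subgroups of `S`. -/
def fullyNormalized (p : ℕ) {G : Type u} [Group G] (S : Subgroup G) : Set (Subgroup G) :=
  {U | U ≤ S ∧ FullyNorm p S U}

theorem exists_fullyNormalized (S : Sylow p G) {T : Subgroup G} (hT : T ≤ (S : Subgroup G))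
    {R : Subgroup G} (hRp : IsPGroup p R) (hRN : R ≤ Subgroup.normalizer (T : Set G)) :
    ∃ g : G, cj g T ∈ fullyNormalized p (S : Subgroup G) ∧
      cj g R ≤ (S : Subgroup G) ⊓ Subgroup.normalizer ((cj g T : Subgroup G) : Set G) := by
  set N := Subgroup.normalizer (T : Set G) with hN
  -- a Sylow subgroup of `N` containing `R` and `T`
  haveI : (T.subgroupOf N).Normal := Subgroup.normal_in_normalizer
  obtain ⟨R', hR'⟩ := (hRp.comap_of_injective N.subtype N.subtype_injective).exists_le_sylow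
  have hTR' : T.subgroupOf N ≤ (R' : Subgroup N) :=
    IsPGroup.le_sylow_of_normal (show IsPGroup p (T.subgroupOf N) from (S.2.to_le hT).comap_of_injective N.subtype N.subtype_injective) R'
  obtain ⟨g, hg⟩ := exists_map_conj_le_sylow (R'.2.map N.subtype) S
  have hnorm : cj g N = Subgroup.normalizer ((cj g T : Subgroup G) : Set G) :=
    Subgroup.map_equiv_normalizer_eq _ (MulAut.conj g)
  have hle : cj g ((R' : Subgroup N).map N.subtype) ≤
      (S : Subgroup G) ⊓ Subgroup.normalizer ((cj g T : Subgroup G) : Set G) :=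
    le_inf hg ((cj_mono g (Subgroup.map_subtype_le _)).trans hnorm.le)
  refine ⟨g, ⟨?_, fun hd => ?_⟩, le_trans (cj_mono g ?_) hle⟩
  · refine le_trans (cj_mono g ?_) (hle.trans inf_le_left)
    exact fun t ht => ⟨⟨t, Subgroup.le_normalizer ht⟩, hTR' ht, rfl⟩
  · have h2 := hd.trans (Subgroup.relIndex_dvd_of_le_left _ hle)
    rw [← hnorm, cj, cj, Subgroup.relIndex_map_map_of_injective _ _ (MulAut.conj g).injective,
      Subgroup.relIndex, Subgroup.subgroupOf,
      Subgroup.comap_map_eq_self_of_injective N.subtype_injective] at h2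
    exact R'.not_dvd_index h2
  · exact fun t ht => ⟨⟨t, hRN ht⟩, hR' ht, rfl⟩

theorem exists_fam (S : Sylow p G) {P : Subgroup G} {g : G} (hP : P ≤ (S : Subgroup G))
    (hgP : cj g⁻¹ P ≤ (S : Subgroup G)) : Fam (fullyNormalized p (S : Subgroup G)) P g := by
  refine fam_of_fullyNorm S (fun T hT => ?_) (fun U hU => hU.1) (Nat.card (S : Subgroup G) + 1) P
    (by omega) g hP hgP
  obtain ⟨h, hh, -⟩ := exists_fullyNormalized S hT (IsPGroup.of_bot) bot_le
  exact ⟨_, hh, ⟨h, rfl⟩, hh.2⟩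

/-- The focal subgroup theorem along a family. -/
theorem okAt_of_family (S : Sylow p G)
    (h : ∀ Q ∈ fullyNormalized p (S : Subgroup G),
      ⁅Q, Subgroup.normalizer (Q : Set G)⁆ ≤ focalJoin 𝓦 (S : Subgroup G)) :
    OkAt 𝓦 (S : Subgroup G) := by
  rw [OkAt, inf_comm, Subgroup.commutator_inf_eq_focalSubgroup S, Subgroup.focalSubgroup_def,
    Subgroup.closure_le]
  rintro z ⟨hz, x, hx, u, rfl⟩
  have h1 : u * x⁻¹ * u⁻¹ ∈ (S : Subgroup G) := by
    rw [show u * x⁻¹ * u⁻¹ = x⁻¹ * ⁅x, u⁆ by simp [commutatorElement_def, mul_assoc]]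
    exact Subgroup.mul_mem _ (Subgroup.inv_mem _ hx) hz
  obtain ⟨l, hl, hprod⟩ := exists_fam S (P := Subgroup.zpowers x⁻¹) (g := u⁻¹)
    (Subgroup.zpowers_le.mpr (Subgroup.inv_mem _ hx))
    (by
      rw [inv_inv, cj, MonoidHom.map_zpowers]
      exact Subgroup.zpowers_le.mpr h1)
  have h2 := telescope (n := 0) (fun Q hQ _ => h Q hQ) hl (Nat.zero_le _) x⁻¹ (Subgroup.mem_zpowers _)
  rw [hprod, inv_inv, inv_inv] at h2
  show ⁅x, u⁆ ∈ focalJoin 𝓦 (S : Subgroup G)
  simpa [commutatorElement_def, mul_assoc] using h2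

include h𝓦 hIH in
/-- The case `O_p(G) = 1`. -/
theorem okAt_of_core_eq_bot (hD : Cfsg.pCore p G = ⊥) : OkAt 𝓦 (S : Subgroup G) := by
  set F := fullyNormalized p (S : Subgroup G) with hF
  have hproper : ∀ Q : Subgroup G, Q ≠ ⊥ → IsPGroup p Q → Subgroup.normalizer (Q : Set G) ≠ ⊤ :=
    fun Q hQ1 hQp e => hQ1 (le_bot_iff.mp ((Fitting.le_pCore
      (Subgroup.normalizer_eq_top_iff.mp e) hQp).trans hD.le))
  -- the Sylow subgroup of each normalizer
  have hkey : ∀ m : ℕ, ∀ Q ∈ F, Q ≠ ⊥ → Nat.card (S : Subgroup G) <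
      Nat.card ↥((S : Subgroup G) ⊓ Subgroup.normalizer (Q : Set G)) + m →
      (S : Subgroup G) ⊓ Subgroup.normalizer (Q : Set G) ⊓
        ⁅Subgroup.normalizer (Q : Set G), Subgroup.normalizer (Q : Set G)⁆ ≤
          focalJoin 𝓦 (S : Subgroup G) := by
    intro m
    induction m with
    | zero =>
      intro Q _ _ h
      have := Subgroup.card_le_of_le
        (inf_le_left : (S : Subgroup G) ⊓ Subgroup.normalizer (Q : Set G) ≤ S)
      omega
    | succ m ih =>
      intro Q hQ hQ1 hlt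
      set N := Subgroup.normalizer (Q : Set G) with hN
      set T := (S : Subgroup G) ⊓ N with hT
      have hQT : Q ≤ T := le_inf hQ.1 Subgroup.le_normalizer
      have hTp : IsPGroup p T := S.2.to_le inf_le_left
      refine (inf_commutator_le h𝓦 (inf_le_right : T ≤ N) hTp hQ.2
        (hIH.1 N (hproper Q hQ1 (S.2.to_le hQ.1)))).trans ?_
      by_cases hTS : T = (S : Subgroup G)
      · exact le_of_eq (congrArg (focalJoin 𝓦) hTS)
      have hT1 : T ≠ ⊥ := fun e => hQ1 (le_bot_iff.mp (hQT.trans e.le))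
      refine iSup₂_le fun W hW => ?_
      set U := Cfsg.inducedFunctor W T with hU
      have hUT : U ≤ T := le (h𝓦 W hW) T
      have hU1 : U ≠ ⊥ := ne_bot (h𝓦 W hW) hTp hT1
      set T₁ := (S : Subgroup G) ⊓ Subgroup.normalizer (T : Set G) with hT₁
      have hTT₁ : T < T₁ := lt_inf_normalizer S.2 (lt_of_le_of_ne inf_le_left hTS)
      obtain ⟨g, hgU, hgT₁⟩ := exists_fullyNormalized S (hUT.trans inf_le_left)
        (S.2.to_le (inf_le_left : T₁ ≤ S)) (inf_le_right.trans (normalizer_le (h𝓦 W hW) hTp))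
      intro z hz
      obtain ⟨hzT, hzM⟩ := hz
      have hbig : ∀ Q' ∈ F, Nat.card T ≤ Nat.card Q' →
          ⁅Q', Subgroup.normalizer (Q' : Set G)⁆ ≤ focalJoin 𝓦 (S : Subgroup G) := by
        intro Q' hQ' hcard
        have hQ'1 : Q' ≠ ⊥ := fun e => hT1 (Subgroup.eq_bot_of_card_le T (by
          rw [e, Subgroup.card_bot] at hcard; exact hcard))
        have hlt' : Nat.card T < Nat.card ↥((S : Subgroup G) ⊓ Subgroup.normalizer (Q' : Set G)) := by
          by_cases hQS : Q' = (S : Subgroup G)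
          · have : (S : Subgroup G) ⊓ Subgroup.normalizer (Q' : Set G) = (S : Subgroup G) :=
              inf_eq_left.mpr (hQS.symm.le.trans Subgroup.le_normalizer)
            rw [this]
            exact card_lt_card (lt_of_le_of_ne inf_le_left hTS)
          · exact lt_of_le_of_lt hcard (card_lt_card
              (lt_inf_normalizer S.2 (lt_of_le_of_ne hQ'.1 hQS)))
        refine le_trans ?_ (ih Q' hQ' hQ'1 (by omega))
        refine le_inf ?_ (Subgroup.commutator_mono Subgroup.le_normalizer le_rfl)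
        refine le_trans ?_ (le_inf hQ'.1 Subgroup.le_normalizer : Q' ≤ (S : Subgroup G) ⊓ Subgroup.normalizer (Q' : Set G))
        rw [Subgroup.commutator_le]
        intro a ha b hb
        rw [show ⁅a, b⁆ = a * (b * a⁻¹ * b⁻¹) by simp [commutatorElement_def, mul_assoc]]
        exact Q'.mul_mem ha ((Subgroup.mem_normalizer_iff.mp hb _).mp (Q'.inv_mem ha))
      have hgT : cj g T ≤ (S : Subgroup G) :=
        ((cj_mono g hTT₁.le).trans hgT₁).trans inf_le_left
      have hgz : g * z * g⁻¹ ∈ focalJoin 𝓦 (S : Subgroup G) := by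
        have hnorm : cj g (Subgroup.normalizer (U : Set G)) =
            Subgroup.normalizer ((cj g U : Subgroup G) : Set G) :=
          Subgroup.map_equiv_normalizer_eq _ (MulAut.conj g)
        have hlt' : Nat.card T <
            Nat.card ↥((S : Subgroup G) ⊓ Subgroup.normalizer ((cj g U : Subgroup G) : Set G)) := by
          refine lt_of_lt_of_le (card_lt_card hTT₁) ?_
          rw [← card_cj g T₁]
          exact Subgroup.card_le_of_le hgT₁
        refine ih (cj g U) hgU (fun e => hU1 ?_) (by omega) ⟨?_, ?_⟩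
        · exact (Subgroup.map_eq_bot_iff_of_injective _ (MulAut.conj g).injective).mp e
        · exact hgT₁ (conj_mem_cj (hTT₁.le hzT))
        · rw [← hnorm, cj, ← Subgroup.map_commutator]
          exact Subgroup.mem_map_of_mem _ hzM
      obtain ⟨l, hl, hprod⟩ := exists_fam S (P := T) (g := g⁻¹) inf_le_left (by rw [inv_inv]; exact hgT)
      have h1 := telescope hbig hl le_rfl z hzT
      rw [hprod, inv_inv] at h1
      simpa [mul_assoc] using Subgroup.mul_mem _ hgz (Subgroup.inv_mem _ h1)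
  refine okAt_of_family S fun Q hQ => ?_
  rcases eq_or_ne Q ⊥ with rfl | hQ1
  · rw [Subgroup.commutator_bot_left]; exact bot_le
  refine le_trans ?_ (hkey (Nat.card (S : Subgroup G) + 1) Q hQ hQ1 (by omega))
  refine le_inf ?_ (Subgroup.commutator_mono Subgroup.le_normalizer le_rfl)
  refine le_trans ?_ (le_inf hQ.1 Subgroup.le_normalizer :
    Q ≤ (S : Subgroup G) ⊓ Subgroup.normalizer (Q : Set G))
  rw [Subgroup.commutator_le]
  intro a ha b hb
  rw [show ⁅a, b⁆ = a * (b * a⁻¹ * b⁻¹) by simp [commutatorElement_def, mul_assoc]]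
  exact Q.mul_mem ha ((Subgroup.mem_normalizer_iff.mp hb _).mp (Q.inv_mem ha))

omit hp in
theorem transfer_of_fixed {C : Type*} [CommGroup C] {H : Subgroup G} (ψ : H →* C) (g : G)
    [Fintype (G ⧸ H)] (hfix : ∀ q : G ⧸ H, g⁻¹ • q = q) (hmem : ∀ x : G, x⁻¹ * g * x ∈ H) :
    MonoidHom.transfer ψ g = ∏ q : G ⧸ H, ψ ⟨q.out⁻¹ * g * q.out, hmem _⟩ := by
  classical
  let T : H.LeftTransversal := ⟨Set.range (Quotient.out : G ⧸ H → G),
    Subgroup.isComplement_range_left fun q => QuotientGroup.out_eq' q⟩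
  have hT : ∀ q : G ⧸ H, (T.2.leftQuotientEquiv q : G) = q.out := fun q =>
    Subgroup.IsComplement.leftQuotientEquiv_apply (fun q => QuotientGroup.out_eq' q) q
  rw [MonoidHom.transfer_def ψ T]
  unfold Subgroup.leftTransversals.diff
  refine Finset.prod_congr (Finset.ext fun q => by simp) fun q _ => congrArg ψ (Subtype.ext ?_)
  show (T.2.leftQuotientEquiv q : G)⁻¹ * ((g • T).2.leftQuotientEquiv q : G) = q.out⁻¹ * g * q.out
  rw [Subgroup.smul_apply_eq_smul_apply_inv_smul, hT, hfix, hT, smul_eq_mul, mul_assoc]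

include h𝓦 hIH in
/-- The case `[O_p(G), G] ≤ T₀` with `O_p(G) ≠ 1`. -/
theorem okAt_of_commutator_core_le (hD : Cfsg.pCore p G ≠ ⊥)
    (hS : ⁅(S : Subgroup G), (S : Subgroup G)⁆ ≤ focalJoin 𝓦 (S : Subgroup G))
    (hcomm : ⁅Cfsg.pCore p G, (⊤ : Subgroup G)⁆ ≤ focalJoin 𝓦 (S : Subgroup G)) :
    OkAt 𝓦 (S : Subgroup G) := by
  set D := Cfsg.pCore p G with hDdef
  haveI hDn : D.Normal := Fitting.pCore_normal p
  have hDS : D ≤ (S : Subgroup G) := IsPGroup.le_sylow_of_normal (Fitting.pCore_isPGroup p) S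
  set F := focalJoin 𝓦 (S : Subgroup G) with hF
  set f := QuotientGroup.mk' D with hf
  have hfs : Function.Surjective f := QuotientGroup.mk'_surjective D
  have hquot := hIH.2 D hD (S.mapSurjective hfs)
  rw [OkAt, Sylow.coe_mapSurjective] at hquot
  -- `S ∩ G' ≤ T₀ D`
  have hTD : (S : Subgroup G) ⊓ commutator G ≤ F ⊔ D := by
    by_cases hSD : (S : Subgroup G) = D
    · exact inf_le_left.trans (hSD.le.trans le_sup_right)
    intro x hx
    have h1 : focalJoin 𝓦 ((S : Subgroup G).map f) ≤ F.map f := by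
      refine iSup₂_le fun W hW => ?_
      set H := (Subgroup.normalizer
        (Cfsg.inducedFunctor W ((S : Subgroup G).map f) : Set (G ⧸ D))).comap f with hH
      have hSb1 : (S : Subgroup G).map f ≠ ⊥ := fun e => hSD (le_antisymm (by
        rw [Subgroup.map_eq_bot_iff, hf, QuotientGroup.ker_mk'] at e
        exact e) hDS)
      have hSbp : IsPGroup p ((S : Subgroup G).map f) := S.2.map f
      have hHtop : H ≠ ⊤ := fun e => ne_bot (h𝓦 W hW) hSbp hSb1 (by
        have hn : Subgroup.normalizer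
            (Cfsg.inducedFunctor W ((S : Subgroup G).map f) : Set (G ⧸ D)) = ⊤ := by
          rw [← Subgroup.map_comap_eq_self_of_surjective hfs (Subgroup.normalizer _), ← hH, e,
            Subgroup.map_top_of_surjective _ hfs]
        have h2 := Fitting.le_pCore (Subgroup.normalizer_eq_top_iff.mp hn)
          (hSbp.to_le (le (h𝓦 W hW) _))
        have hcore : Cfsg.pCore p (G ⧸ D) = ⊥ := by
          haveI := Fitting.pCore_normal (G := G ⧸ D) p
          set Q := Cfsg.pCore p (G ⧸ D)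
          have h1 : Q.comap f ≤ D :=
            Fitting.le_pCore (Subgroup.Normal.comap inferInstance _)
              ((Fitting.pCore_isPGroup p).comap_of_ker_isPGroup _ (by
                rw [hf, QuotientGroup.ker_mk']; exact Fitting.pCore_isPGroup p))
          rw [← Subgroup.map_comap_eq_self_of_surjective hfs Q, eq_bot_iff]
          exact (Subgroup.map_mono h1).trans (QuotientGroup.map_mk'_self D).le
        rwa [hcore, le_bot_iff] at h2)
      have hSH : (S : Subgroup G) ≤ H := by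
        rw [hH, ← Subgroup.map_le_iff_le_comap]
        exact Subgroup.le_normalizer.trans (normalizer_le (h𝓦 W hW) hSbp)
      rintro z ⟨⟨s, hs, rfl⟩, hz⟩
      have hz' : f s ∈ ⁅H, H⁆.map f := by
        rw [Subgroup.map_commutator, hH, Subgroup.map_comap_eq_self_of_surjective hfs]
        exact hz
      obtain ⟨h, hh, he⟩ := hz'
      have hd : h⁻¹ * s ∈ D := QuotientGroup.eq.mp he
      have hhS : h ∈ (S : Subgroup G) := by
        rw [show h = s * (h⁻¹ * s)⁻¹ by group]
        exact Subgroup.mul_mem _ hs (Subgroup.inv_mem _ (hDS hd))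
      exact ⟨h, inf_commutator_le_sylow h𝓦 S hSH (hIH.1 H hHtop) ⟨hhS, hh⟩, he⟩
    have h2 : f x ∈ F.map f := h1 (hquot ⟨Subgroup.mem_map_of_mem f hx.1, by
      have := Subgroup.mem_map_of_mem f hx.2
      rw [commutator_def, Subgroup.map_commutator, Subgroup.map_top_of_surjective _ hfs] at this
      exact this⟩)
    obtain ⟨t, ht, he⟩ := h2
    have hd : t⁻¹ * x ∈ D := QuotientGroup.eq.mp he
    rw [show x = t * (t⁻¹ * x) by group]
    exact Subgroup.mul_mem _ (Subgroup.mem_sup_left ht) (Subgroup.mem_sup_right hd)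
  intro x hx
  obtain ⟨t, ht, d, hd, rfl⟩ := Subgroup.mem_sup_of_normal_right.mp (hTD hx)
  refine Subgroup.mul_mem _ ht ?_
  have hdc : d ∈ commutator G := by
    simpa using Subgroup.mul_mem _ (Subgroup.inv_mem _ (focalJoin_le_commutator _ ht)) hx.2
  -- transfer into `S / T₀`
  haveI hFn : (F.subgroupOf (S : Subgroup G)).Normal :=
    Subgroup.normal_subgroupOf_of_le_normalizer
      (Subgroup.le_normalizer.trans (normalizer_le_focalJoin h𝓦 S.2))
  set π := QuotientGroup.mk' (F.subgroupOf (S : Subgroup G)) with hπ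
  letI : CommGroup ((S : Subgroup G) ⧸ F.subgroupOf (S : Subgroup G)) :=
    { (inferInstance : Group ((S : Subgroup G) ⧸ F.subgroupOf (S : Subgroup G))) with
      mul_comm := fun a b => by
        obtain ⟨a, rfl⟩ := QuotientGroup.mk_surjective a
        obtain ⟨b, rfl⟩ := QuotientGroup.mk_surjective b
        refine QuotientGroup.eq.mpr (hS ?_)
        show (((a * b)⁻¹ * (b * a) : (S : Subgroup G)) : G) ∈ _
        have := Subgroup.commutator_mem_commutator (b⁻¹).2 (a⁻¹).2
        simpa [commutatorElement_def, mul_assoc] using this }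
  haveI := Fintype.ofFinite (G ⧸ (S : Subgroup G))
  have hfix : ∀ q : G ⧸ (S : Subgroup G), d⁻¹ • q = q := fun q => by
    induction q using QuotientGroup.induction_on with
    | H y =>
      rw [MulAction.Quotient.smul_coe, smul_eq_mul, QuotientGroup.eq]
      refine hDS ?_
      simpa [mul_assoc] using hDn.conj_mem d hd y⁻¹
  have hmem : ∀ y : G, y⁻¹ * d * y ∈ (S : Subgroup G) := fun y => hDS (by
    simpa using hDn.conj_mem d hd y⁻¹)
  have hval : ∀ y : G, π ⟨y⁻¹ * d * y, hmem y⟩ = π ⟨d, hDS hd⟩ := fun y => by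
    symm
    refine QuotientGroup.eq.mpr (hcomm ?_)
    show d⁻¹ * (y⁻¹ * d * y) ∈ _
    have := Subgroup.commutator_mem_commutator (D.inv_mem hd) (Subgroup.mem_top y⁻¹)
    simpa [commutatorElement_def, mul_assoc] using this
  have h1 : MonoidHom.transfer π d = π ⟨d, hDS hd⟩ ^ (S : Subgroup G).index := by
    rw [transfer_of_fixed π d hfix hmem, Finset.prod_congr rfl fun q _ => hval q.out,
      Finset.prod_const, Finset.card_univ, Subgroup.index_eq_card, Nat.card_eq_fintype_card]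
  have h0 : MonoidHom.transfer π d = 1 :=
    (MonoidHom.mem_ker).mp (Abelianization.commutator_subset_ker (MonoidHom.transfer π) hdc)
  rw [h0] at h1
  obtain ⟨k, hk⟩ := S.2 ⟨d, hDS hd⟩
  have h2 : π ⟨d, hDS hd⟩ ^ p ^ k = 1 := by rw [← map_pow, hk, map_one]
  have h3 : π ⟨d, hDS hd⟩ = 1 := orderOf_eq_one_iff.mp (Nat.eq_one_of_dvd_coprimes
    ((hp.out.coprime_iff_not_dvd.mpr S.not_dvd_index).pow_left k)
    (orderOf_dvd_of_pow_eq_one h2) (orderOf_dvd_of_pow_eq_one h1.symm))
  exact (QuotientGroup.eq_one_iff (N := F.subgroupOf (S : Subgroup G)) ⟨d, hDS hd⟩).mp h3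

include h𝓦 hIH in
theorem okAt_of_pPrimeCore (hO : Cfsg.pPrimeCore p G ≠ ⊥) : OkAt 𝓦 (S : Subgroup G) := by
  haveI := pPrimeCore_normal p G
  set O := Cfsg.pPrimeCore p G with hOdef
  set f := QuotientGroup.mk' O with hf
  have hfs : Function.Surjective f := QuotientGroup.mk'_surjective O
  have hker : (Nat.card f.ker).Coprime p := by
    rw [hf, QuotientGroup.ker_mk']; exact pPrimeCore_coprime p
  have hinj : Set.InjOn f ((S : Subgroup G) : Set G) := fun a ha b hb h =>
    inv_mul_eq_one.mp (PSolvable.eq_one_of_mem_of_mem S.2 hker (mul_mem (inv_mem ha) hb)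
      (by rw [MonoidHom.mem_ker, map_mul, map_inv, h, inv_mul_cancel]))
  have hquot := hIH.2 O hO (S.mapSurjective hfs)
  rw [OkAt, Sylow.coe_mapSurjective] at hquot
  intro x hx
  have h1 : f x ∈ (focalJoin 𝓦 (S : Subgroup G)).map f := by
    refine (iSup₂_le fun W hW => ?_ : focalJoin 𝓦 ((S : Subgroup G).map f) ≤ _)
      (hquot ⟨Subgroup.mem_map_of_mem f hx.1, by
        have := Subgroup.mem_map_of_mem f hx.2
        rw [commutator_def, Subgroup.map_commutator, Subgroup.map_top_of_surjective _ hfs] at this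
        exact this⟩)
    rw [← map (h𝓦 W hW) f S.2 hinj,
      ← PSolvable.map_normalizer_eq hfs hker (S.2.to_le (le (h𝓦 W hW) _)), ← Subgroup.map_commutator]
    set N := Subgroup.normalizer (Cfsg.inducedFunctor W (S : Subgroup G) : Set G) with hN
    rintro z ⟨⟨s, hs, rfl⟩, n, hn, he⟩
    refine ⟨s, le_focalJoin hW _ ⟨hs, ?_⟩, rfl⟩
    have hsN : (S : Subgroup G) ≤ N := Subgroup.le_normalizer.trans (normalizer_le (h𝓦 W hW) S.2)
    have hnN : n ∈ N := (Subgroup.commutator_le_self N) hn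
    set o := n⁻¹ * s with ho
    have hoO : o ∈ O := QuotientGroup.eq.mp he
    have hoN : o ∈ N := N.mul_mem (N.inv_mem hnN) (hsN hs)
    haveI : (⁅N, N⁆.subgroupOf N).Normal := Subgroup.normal_subgroupOf_of_le_normalizer (fun z hz =>
      Subgroup.mem_normalizer_iff_map_conj_eq.mpr (by
        rw [Subgroup.map_commutator, Subgroup.mem_normalizer_iff_map_conj_eq.mp (Subgroup.le_normalizer hz)]))
    have e : QuotientGroup.mk' (⁅N, N⁆.subgroupOf N) ⟨s, hsN hs⟩ =
        QuotientGroup.mk' (⁅N, N⁆.subgroupOf N) ⟨o, hoN⟩ := by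
      refine (QuotientGroup.eq.mpr ?_).symm
      show (o⁻¹ * s) ∈ ⁅N, N⁆
      rw [ho, mul_inv_rev, inv_inv, mul_assoc]
      rw [show s⁻¹ * (n * s) = s⁻¹ * n * s by group]
      simpa using (Subgroup.mem_normalizer_iff''.mp (show s ∈ Subgroup.normalizer ((⁅N, N⁆ : Subgroup G) : Set G) from
        Subgroup.mem_normalizer_iff_map_conj_eq.mpr (by
          rw [Subgroup.map_commutator,
            Subgroup.mem_normalizer_iff_map_conj_eq.mp (Subgroup.le_normalizer (hsN hs))])) n).mp hn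
    obtain ⟨k, hk⟩ := S.2 ⟨s, hs⟩
    have hk' : (⟨s, hsN hs⟩ : N) ^ p ^ k = 1 := Subtype.ext (by
      simpa using congrArg Subtype.val hk)
    have hd1 := orderOf_dvd_of_pow_eq_one
      (show (QuotientGroup.mk' (⁅N, N⁆.subgroupOf N) ⟨s, hsN hs⟩) ^ p ^ k = 1 by
        rw [← map_pow, hk', map_one])
    have hd2 : orderOf (QuotientGroup.mk' (⁅N, N⁆.subgroupOf N) ⟨s, hsN hs⟩) ∣ orderOf o := by
      rw [e, show orderOf o = orderOf (⟨o, hoN⟩ : N) from Subgroup.orderOf_coe (⟨o, hoN⟩ : N)]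
      simpa using orderOf_map_dvd (QuotientGroup.mk' (⁅N, N⁆.subgroupOf N)) (⟨o, hoN⟩ : N)
    have h1 := orderOf_eq_one_iff.mp (Nat.eq_one_of_dvd_coprimes
      ((coprime_orderOf_of_mem (pPrimeCore_coprime p) hoO).pow_right k).symm hd1 hd2)
    exact (QuotientGroup.eq_one_iff (N := ⁅N, N⁆.subgroupOf N) ⟨s, hsN hs⟩).mp h1
  obtain ⟨t, ht, he⟩ := h1
  rwa [← hinj (focalJoin_le _ ht) hx.1 he]

include h𝓦 hIH in
/-- The case of a group in which `C(O_p)` is not covered by `O_p`. -/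
theorem commutator_core_le_of_not_covered
    (hS : ⁅(S : Subgroup G), (S : Subgroup G)⁆ ≤ focalJoin 𝓦 (S : Subgroup G))
    (hcore : ¬ (S : Subgroup G) ⊓ Subgroup.centralizer (Cfsg.pCore p G : Set G) ≤ Cfsg.pCore p G) :
    ⁅Cfsg.pCore p G, (⊤ : Subgroup G)⁆ ≤ focalJoin 𝓦 (S : Subgroup G) := by
  set D := Cfsg.pCore p G with hDdef
  haveI hDn : D.Normal := Fitting.pCore_normal p
  have hDS : D ≤ (S : Subgroup G) := IsPGroup.le_sylow_of_normal (Fitting.pCore_isPGroup p) S
  set C := Subgroup.centralizer (D : Set G) with hC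
  haveI hCn : C.Normal := by rw [hC]; infer_instance
  set L := C ⊔ D with hL
  haveI hLn : L.Normal := by rw [hL]; infer_instance
  set D' := (S : Subgroup G) ⊓ L with hD'
  set N := Subgroup.normalizer (D' : Set G) with hN
  have hNtop : N ≠ ⊤ := fun e => hcore
    ((le_inf inf_le_left (inf_le_right.trans le_sup_left) : (S : Subgroup G) ⊓ C ≤ D').trans
      (Fitting.le_pCore (Subgroup.normalizer_eq_top_iff.mp e) (S.2.to_le inf_le_left)))
  have hS' : IsPGroup p ((S : Subgroup G).subgroupOf L) :=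
    S.2.comap_of_injective L.subtype L.subtype_injective
  let PL : Sylow p L := IsPGroup.toSylow hS'
    fun h => S.not_dvd_index (h.trans (relIndex_dvd_index_of_normal (S : Subgroup G) L))
  have hfr := Sylow.normalizer_sup_eq_top PL
  rw [show (PL : Subgroup L).map L.subtype = D' from
    Subgroup.subgroupOf_map_subtype (S : Subgroup G) L] at hfr
  have hSN : (S : Subgroup G) ≤ N :=
    Subgroup.le_normalizer.trans (fun s hs => Coprime.le_normalizer_inf_of_le le_rfl
      (Subgroup.le_normalizer_of_normal) hs)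
  rw [Subgroup.commutator_le]
  intro d hd g _
  obtain ⟨n, hn, l, hl, rfl⟩ := Subgroup.mem_sup_of_normal_right.mp
    (show g ∈ N ⊔ L from hfr.ge (Subgroup.mem_top g))
  obtain ⟨c, hc, e, he, rfl⟩ := Subgroup.mem_sup_of_normal_right.mp hl
  rw [show ⁅d, n * (c * e)⁆ = ⁅d, n⁆ * (n * ⁅d, c * e⁆ * n⁻¹) by
    simp [commutatorElement_def, mul_assoc]]
  have h1 : ⁅d, n⁆ ∈ (S : Subgroup G) ⊓ ⁅N, N⁆ :=
    ⟨hDS (Subgroup.commutator_le_left D ⊤
      (Subgroup.commutator_mem_commutator hd (Subgroup.mem_top n))),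
      Subgroup.commutator_mem_commutator (hSN (hDS hd)) hn⟩
  refine Subgroup.mul_mem _ (inf_commutator_le_sylow h𝓦 S hSN (hIH.1 N hNtop) h1) (hS ?_)
  have h2 : ⁅d, c * e⁆ = ⁅d, e⁆ := by
    have hce : ⁅d, e⁆ ∈ D := Subgroup.commutator_le_left D ⊤
      (Subgroup.commutator_mem_commutator hd (Subgroup.mem_top e))
    rw [show ⁅d, c * e⁆ = ⁅d, c⁆ * (c * ⁅d, e⁆ * c⁻¹) by simp [commutatorElement_def, mul_assoc],
      commutatorElement_eq_one_iff_mul_comm.mpr (hc d hd), one_mul, ← hc _ hce, mul_inv_cancel_right]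
  rw [h2, show n * ⁅d, e⁆ * n⁻¹ = ⁅n * d * n⁻¹, n * e * n⁻¹⁆ by
    simp [commutatorElement_def, mul_assoc]]
  exact Subgroup.commutator_mem_commutator (hDS (hDn.conj_mem d hd n)) (hDS (hDn.conj_mem e he n))

theorem isCentralizer_le_of_covered (S : Sylow p G)
    (hcore : (S : Subgroup G) ⊓ Subgroup.centralizer (Cfsg.pCore p G : Set G) ≤ Cfsg.pCore p G)
    (hO : Cfsg.pPrimeCore p G = ⊥) :
    Subgroup.centralizer (Cfsg.pCore p G : Set G) ≤ Cfsg.pCore p G := by
  haveI := pPrimeCore_normal p G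
  exact constrained_congr ((QuotientGroup.quotientMulEquivOfEq hO).trans QuotientGroup.quotientBot)
    (constrained_quotient S hcore)

include h𝓦 hIH in
/-- A minimal failure has self-centralizing `O_p`, with `[O_p(G), G]` outside `T₀`. -/
theorem minimal_failure
    (hS : ⁅(S : Subgroup G), (S : Subgroup G)⁆ ≤ focalJoin 𝓦 (S : Subgroup G))
    (hbad : ¬ OkAt 𝓦 (S : Subgroup G)) :
    Subgroup.centralizer (Cfsg.pCore p G : Set G) ≤ Cfsg.pCore p G ∧
      ¬ ⁅Cfsg.pCore p G, (⊤ : Subgroup G)⁆ ≤ focalJoin 𝓦 (S : Subgroup G) := by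
  have hD : Cfsg.pCore p G ≠ ⊥ := fun e => hbad (okAt_of_core_eq_bot h𝓦 hIH S e)
  have hnot := fun hc => hbad (okAt_of_commutator_core_le h𝓦 hIH S hD hS hc)
  refine ⟨?_, hnot⟩
  refine isCentralizer_le_of_covered S ?_ ?_
  · by_contra hcore
    exact hnot (commutator_core_le_of_not_covered h𝓦 hIH S hS hcore)
  · by_contra hO
    exact hbad (okAt_of_pPrimeCore h𝓦 hIH S hO)

end step

/-- Transfer is controlled in all sections if the derived subgroups of Sylow subgroups are covered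
and `[O_p, X] ≤ T₀` in the constrained sections. -/
theorem ok_of_core_aux (h𝓦 : ∀ W ∈ 𝓦, Cfsg.IsCharPFunctor.{u} p W) {G₀ : Type u} [Group G₀]
    (hder : ∀ (X : Type u) [Group X] [Finite X], Sect G₀ X → ∀ T : Sylow p X,
      ⁅(T : Subgroup X), (T : Subgroup X)⁆ ≤ focalJoin 𝓦 (T : Subgroup X))
    (hcore : ∀ (X : Type u) [Group X] [Finite X], Sect G₀ X → SmallerOk p 𝓦 X →
      Subgroup.centralizer (Cfsg.pCore p X : Set X) ≤ Cfsg.pCore p X →
      ∀ T : Sylow p X, ⁅Cfsg.pCore p X, (⊤ : Subgroup X)⁆ ≤ focalJoin 𝓦 (T : Subgroup X)) (k : ℕ) :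
    ∀ (G : Type u) [Group G] [Finite G], Nat.card G = k → Sect G₀ G → Ok p 𝓦 G := by
  induction k using Nat.strong_induction_on with
  | _ k IH =>
  intro G _ _ hk hsec S
  have hIH : SmallerOk p 𝓦 G := by
    refine ⟨fun H hH => IH _ ?_ H rfl (hsec.subgroup H), fun N _ hN => IH _ ?_ (G ⧸ N) rfl
      (hsec.quotient _ (QuotientGroup.mk'_surjective N))⟩
    · exact hk ▸ lt_of_le_of_ne (Subgroup.card_le_card_group H)
        fun h => hH (Subgroup.eq_top_of_card_eq H h)
    · rw [← hk, Subgroup.card_eq_card_quotient_mul_card_subgroup N]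
      exact lt_mul_of_one_lt_right Nat.card_pos ((Subgroup.one_lt_card_iff_ne_bot N).mpr hN)
  by_contra hbad
  obtain ⟨hc, hnot⟩ := minimal_failure h𝓦 hIH S (hder G hsec S) hbad
  exact hnot (hcore G hsec hIH hc S)

theorem ok_of_core (h𝓦 : ∀ W ∈ 𝓦, Cfsg.IsCharPFunctor.{u} p W) {G₀ : Type u} [Group G₀]
    (hder : ∀ (X : Type u) [Group X] [Finite X], Sect G₀ X → ∀ T : Sylow p X,
      ⁅(T : Subgroup X), (T : Subgroup X)⁆ ≤ focalJoin 𝓦 (T : Subgroup X))
    (hcore : ∀ (X : Type u) [Group X] [Finite X], Sect G₀ X → SmallerOk p 𝓦 X →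
      Subgroup.centralizer (Cfsg.pCore p X : Set X) ≤ Cfsg.pCore p X →
      ∀ T : Sylow p X, ⁅Cfsg.pCore p X, (⊤ : Subgroup X)⁆ ≤ focalJoin 𝓦 (T : Subgroup X))
    {G : Type u} [Group G] [Finite G] (hsec : Sect G₀ G) : Ok p 𝓦 G :=
  ok_of_core_aux h𝓦 hder hcore _ G rfl hsec

theorem derived_le_focalJoin (h𝓦 : ∀ W ∈ 𝓦, Cfsg.IsCharPFunctor.{u} p W) (hne : 𝓦.Nonempty)
    {X : Type u} [Group X] [Finite X] {T : Subgroup X} (hT : IsPGroup p T) :
    ⁅T, T⁆ ≤ focalJoin 𝓦 T := by
  obtain ⟨W, hW⟩ := hne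
  have hTN : T ≤ Subgroup.normalizer (Cfsg.inducedFunctor W T : Set X) :=
    Subgroup.le_normalizer.trans (normalizer_le (h𝓦 W hW) hT)
  exact le_trans (le_inf (Subgroup.commutator_le_self T) (Subgroup.commutator_mono hTN hTN))
    (le_focalJoin hW T)

end CfsgLib.Conjugacy
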