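import Mathlib
import Cfsg.Prelude.Def_LocalEven
import Cfsg.Agent.Lib.Conjugacy.TransferSections

/-!
Statement forms of control of transfer, and transport of the local hypotheses along isomorphisms.
-/

set_option autoImplicit false
set_option linter.style.haveILetI false
set_option linter.unusedSectionVars false

open scoped commutatorElement

namespace CfsgLib.Conjugacy

open CfsgLib.Transfer

universe u

variable {p : ℕ} [hp : Fact p.Prime] {𝓦 : Set (∀ (Q : Type u) [Group Q], Subgroup Q)}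

theorem ok_of_family (h𝓦 : ∀ W ∈ 𝓦, Cfsg.IsCharPFunctor.{u} p W) {X : Type u} [Group X] [Finite X]
    (h : Cfsg.FamilyControlsTransferIn p ((fun W => Cfsg.inducedFunctor (G := X) W) '' 𝓦) ⊤) :
    Ok p 𝓦 X := by
  obtain ⟨T, -, hTp, hidx, he⟩ := h
  rw [Subgroup.relIndex_top_right] at hidx
  refine ok_of_okAt h𝓦 (hTp.toSylow hidx) ?_
  show T ⊓ commutator X ≤ focalJoin 𝓦 T
  rw [commutator_def, he, iSup_image]
  exact iSup₂_mono fun W _ => by rw [top_inf_eq]

theorem family_of_okAt {X : Type u} [Group X] [Finite X] (S : Sylow p X)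
    (h : OkAt 𝓦 (S : Subgroup X)) :
    Cfsg.FamilyControlsTransferIn p ((fun W => Cfsg.inducedFunctor (G := X) W) '' 𝓦) ⊤ := by
  refine ⟨(S : Subgroup X), le_top, S.2, by rw [Subgroup.relIndex_top_right]; exact S.not_dvd_index, ?_⟩
  rw [← commutator_def, iSup_image]
  have e : (⨆ W ∈ 𝓦, (S : Subgroup X) ⊓
      ⁅(⊤ : Subgroup X) ⊓ Subgroup.normalizer (Cfsg.inducedFunctor W (S : Subgroup X) : Set X),
        (⊤ : Subgroup X) ⊓ Subgroup.normalizer (Cfsg.inducedFunctor W (S : Subgroup X) : Set X)⁆) =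
      focalJoin 𝓦 (S : Subgroup X) := by
    simp only [top_inf_eq]
    rfl
  rw [e]
  exact le_antisymm h (le_inf (focalJoin_le _) (focalJoin_le_commutator _))

theorem focalJoin_singleton (W : ∀ (Q : Type u) [Group Q], Subgroup Q) {X : Type u} [Group X]
    (T : Subgroup X) : focalJoin {W} T = T ⊓ ⁅Subgroup.normalizer (Cfsg.inducedFunctor W T : Set X),
      Subgroup.normalizer (Cfsg.inducedFunctor W T : Set X)⁆ :=
  le_antisymm (iSup₂_le fun V hV => by obtain rfl : V = W := hV; exact le_rfl)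
    (le_focalJoin (Set.mem_singleton W) T)

theorem controlsTransferIn_of_ok {W : ∀ (Q : Type u) [Group Q], Subgroup Q} {X : Type u} [Group X]
    [Finite X] (h : Ok p {W} X) : Cfsg.ControlsTransferIn p (Cfsg.inducedFunctor (G := X) W) ⊤ := by
  obtain ⟨S⟩ := (inferInstance : Nonempty (Sylow p X))
  refine ⟨(S : Subgroup X), le_top, S.2, by rw [Subgroup.relIndex_top_right]; exact S.not_dvd_index, ?_⟩
  rw [top_inf_eq, ← commutator_def]
  refine le_antisymm ?_ (inf_le_inf_left _ (Subgroup.commutator_mono le_top le_top))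
  exact (h S).trans (focalJoin_singleton W _).le

theorem map_pCore_equiv {X Y : Type*} [Group X] [Group Y] (e : X ≃* Y) :
    (Cfsg.pCore p X).map e.toMonoidHom = Cfsg.pCore p Y := by
  refine le_antisymm (Fitting.le_pCore (Subgroup.Normal.map (Fitting.pCore_normal p) _ e.surjective)
    ((Fitting.pCore_isPGroup p).map _)) fun y hy => ⟨e.symm y, ?_, e.apply_symm_apply y⟩
  exact Fitting.le_pCore (Subgroup.Normal.map (Fitting.pCore_normal p) _ e.symm.surjective)
    ((Fitting.pCore_isPGroup p).map _) (Subgroup.mem_map_of_mem e.symm.toMonoidHom hy)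

theorem isChiefFactor_map {X Y : Type*} [Group X] [Group Y] (e : X ≃* Y) {U V : Subgroup X}
    (h : Cfsg.IsChiefFactor U V) :
    Cfsg.IsChiefFactor (U.map e.toMonoidHom) (V.map e.toMonoidHom) := by
  obtain ⟨hlt, hU, hV, hmin⟩ := h
  refine ⟨(Subgroup.map_lt_map_iff_of_injective e.injective).mpr hlt,
    Subgroup.Normal.map hU _ e.surjective, Subgroup.Normal.map hV _ e.surjective, fun N hN h1 h2 => ?_⟩
  have hN' : (N.comap e.toMonoidHom).map e.toMonoidHom = N :=
    Subgroup.map_comap_eq_self_of_surjective e.surjective N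
  rw [← hN'] at h1 h2 ⊢
  rcases hmin _ (hN.comap e.toMonoidHom)
    ((Subgroup.map_le_map_iff_of_injective e.injective).mp h1)
    ((Subgroup.map_le_map_iff_of_injective e.injective).mp h2) with r | r
  · exact Or.inl (by rw [r])
  · exact Or.inr (by rw [r])

/-- Smaller sections, from the presentation as quotients of subgroups. -/
theorem smallerOk_of_quotients (h𝓦 : ∀ W ∈ 𝓦, Cfsg.IsCharPFunctor.{u} p W) {G : Type u} [Group G]
    [Finite G] (h : ∀ (K R : Subgroup G) [(R.subgroupOf K).Normal], (K = ⊤ → R ≠ ⊥) →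
      Ok p 𝓦 (↥K ⧸ R.subgroupOf K)) : SmallerOk p 𝓦 G := by
  have hkey : ∀ (X : Type u) [Group X] [Finite X], Sect G X → Nat.card X < Nat.card G → Ok p 𝓦 X := by
    intro X _ _ hsec hlt
    obtain ⟨K, R, hn, ⟨e⟩⟩ := exists_equiv_of_sect hsec
    haveI := hn
    refine ok_congr h𝓦 e.symm (h K R fun hK hR => hlt.ne ?_)
    subst hK hR
    rw [Nat.card_congr e.toEquiv, ← Subgroup.index_eq_card, Subgroup.bot_subgroupOf,
      Subgroup.index_bot, Subgroup.card_top]
  refine ⟨fun H hH => hkey H ((Sect.refl G).subgroup H) ?_,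
    fun N _ hN => hkey (G ⧸ N) ((Sect.refl G).quotient _ (QuotientGroup.mk'_surjective N)) ?_⟩
  · exact lt_of_le_of_ne (Subgroup.card_le_card_group H)
      fun e => hH (Subgroup.eq_top_of_card_eq H e)
  · rw [Subgroup.card_eq_card_quotient_mul_card_subgroup N]
    exact lt_mul_of_one_lt_right Nat.card_pos ((Subgroup.one_lt_card_iff_ne_bot N).mpr hN)

end CfsgLib.Conjugacy
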