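import Mathlib
import Cfsg.Agent.Lib.PStable.ChiefDegree

/-!
Averaging a homomorphism on a normal subgroup over the cosets of a subgroup of index prime to `p`,
and the vanishing of orbit products under Engel elements.
-/

set_option autoImplicit false
set_option linter.style.haveILetI false
set_option linter.unusedSectionVars false

open scoped commutatorElement

namespace CfsgLib.Conjugacy

variable {p : ℕ} [hp : Fact p.Prime]

theorem neg_one_pow_mul_choose_modEq {k : ℕ} (hk : k < p) :
    ((-1 : ℤ) ^ (p - 1 - k) * ((p - 1).choose k : ℕ) : ℤ) ≡ 1 [ZMOD p] := by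
  rw [← ZMod.intCast_eq_intCast_iff]
  push_cast
  have h : ∀ j, j < p → (((p - 1).choose j : ℕ) : ZMod p) = (-1) ^ j := by
    intro j
    induction j with
    | zero => intro _; simp
    | succ j ih =>
      intro hj
      have h1 : (p.choose (j + 1) : ZMod p) = 0 :=
        (ZMod.natCast_eq_zero_iff _ _).mpr (hp.out.dvd_choose_self (by omega) hj)
      have h2 : p.choose (j + 1) = (p - 1).choose j + (p - 1).choose (j + 1) := by
        conv_lhs => rw [show p = p - 1 + 1 by have := hp.out.pos; omega]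
        exact Nat.choose_succ_succ' _ _
      rw [h2, Nat.cast_add, ih (by omega)] at h1
      rw [eq_neg_of_add_eq_zero_right h1, pow_succ]
      ring
  rw [h k hk, ← pow_add, show p - 1 - k + k = p - 1 by omega]
  rcases hp.out.eq_two_or_odd' with h2 | h2
  · subst h2
    decide +revert
  · exact Even.neg_one_pow (Nat.Odd.sub_odd h2 odd_one)

open fwdDiff in
theorem sum_eq_zero_of_fwdDiff {A : Type*} [AddCommGroup A] (f : ℕ → A) (hpA : ∀ i, p • f i = 0)
    (h : (Δ_[1])^[p - 1] f 0 = 0) : ∑ i ∈ Finset.range p, f i = 0 := by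
  rw [fwdDiff_iter_eq_sum_shift, show p - 1 + 1 = p by have := hp.out.pos; omega] at h
  rw [← h]
  refine Finset.sum_congr rfl fun k hk => ?_
  obtain ⟨d, hd⟩ := Int.modEq_iff_dvd.mp (neg_one_pow_mul_choose_modEq (Finset.mem_range.mp hk)).symm
  rw [eq_add_of_sub_eq hd, add_smul, one_smul, mul_comm, mul_smul, natCast_zsmul, smul_eq_mul,
    mul_one, zero_add, hpA, smul_zero, zero_add]

variable {G : Type*} [Group G] {C : Type*} [CommGroup C]

/-- The product over a `p`-orbit of an Engel element. -/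
theorem prod_conj_eq_one {U : Subgroup G} [U.Normal] (ψ : U →* C) (g : G)
    (hψp : ∀ u, ψ u ^ p = 1)
    (hq : ∀ u : U, (u : G) ∈ PStable.itc g U (p - 1) → ψ u = 1) (v : U) :
    ∏ i ∈ Finset.range p, ψ ((MulAut.conjNormal (g ^ i) : MulAut U) v) = 1 := by
  let f : U → ℕ → Additive C := fun u i => Additive.ofMul (ψ ((MulAut.conjNormal (g ^ i) : MulAut U) u))
  have hstep : ∀ u : U, ∀ w : U, (w : G) = g * (u : G) * g⁻¹ * (u : G)⁻¹ → f w = fwdDiff 1 (f u) := by
    intro u w hw
    funext i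
    show Additive.ofMul _ = Additive.ofMul _ - Additive.ofMul _
    rw [← ofMul_div, ← map_div]
    congr 2
    refine Subtype.ext ?_
    rw [Subgroup.coe_div, MulAut.conjNormal_apply, MulAut.conjNormal_apply, MulAut.conjNormal_apply,
      hw, pow_succ, div_eq_mul_inv]
    group
  have hiter : ∀ n, ∀ u : U, ∃ w : U, (w : G) ∈ PStable.itc g U n ∧ f w = (fwdDiff 1)^[n] (f u) := by
    intro n
    induction n with
    | zero => exact fun u => ⟨u, u.2, rfl⟩
    | succ n ih =>
      intro u
      obtain ⟨w, hw, he⟩ := ih u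
      have hmem : g * (w : G) * g⁻¹ * (w : G)⁻¹ ∈ PStable.itc g U (n + 1) := by
        rw [show g * (w : G) * g⁻¹ * (w : G)⁻¹ = ⁅(w : G), g⁆⁻¹ by simp [commutatorElement_def, mul_assoc]]
        exact Subgroup.inv_mem _ (Subgroup.commutator_mem_commutator hw (Subgroup.mem_zpowers g))
      exact ⟨⟨_, PStable.iterCommutator_le _ hmem⟩, hmem, by
        rw [hstep w ⟨_, PStable.iterCommutator_le _ hmem⟩ rfl, he, Function.iterate_succ_apply']⟩
  obtain ⟨w, hw, he⟩ := hiter (p - 1) v
  have h0 : (fwdDiff 1)^[p - 1] (f v) 0 = 0 := by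
    rw [← he]
    show Additive.ofMul _ = 0
    rw [show ((MulAut.conjNormal (g ^ 0) : MulAut U) w) = w by simp, hq w hw]
    rfl
  have h := sum_eq_zero_of_fwdDiff (p := p) (f v) (fun i => by
    exact congrArg Additive.ofMul (hψp ((MulAut.conjNormal (g ^ i) : MulAut U) v))) h0
  rw [← ofMul_prod] at h
  exact h

theorem coatom_normal_index {P : Type*} [Group P] [Finite P] (hP : IsPGroup p P) {M : Subgroup P}
    (hM : IsCoatom M) : M.Normal ∧ M.index = p := by
  haveI := hP.isNilpotent
  haveI hn : M.Normal :=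
    Subgroup.NormalizerCondition.normal_of_coatom M Group.normalizerCondition_of_isNilpotent hM
  refine ⟨hn, ?_⟩
  have hQ : IsPGroup p (P ⧸ M) := hP.to_quotient M
  haveI : Nontrivial (P ⧸ M) := by rw [QuotientGroup.nontrivial_iff]; exact hM.1
  obtain ⟨k, hk0, hk⟩ := hQ.nontrivial_iff_card.mp inferInstance
  obtain ⟨z, hz⟩ := exists_prime_orderOf_dvd_card' (G := P ⧸ M) p (hk ▸ dvd_pow_self p hk0.ne')
  have hle : M ≤ (Subgroup.zpowers z).comap (QuotientGroup.mk' M) :=
    QuotientGroup.le_comap_mk' M _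
  have hne : (Subgroup.zpowers z).comap (QuotientGroup.mk' M) ≠ M := by
    intro e
    obtain ⟨y, hy⟩ := QuotientGroup.mk'_surjective M z
    have hy' : y ∈ M := by
      rw [← e, Subgroup.mem_comap, hy]
      exact Subgroup.mem_zpowers z
    refine hp.out.ne_one ?_
    rw [← hz, orderOf_eq_one_iff, ← hy]
    exact (QuotientGroup.eq_one_iff y).mpr hy'
  have htop := hM.2 _ (lt_of_le_of_ne hle (Ne.symm hne))
  rw [Subgroup.index_eq_card, ← hz, ← Nat.card_zpowers]
  have hz' : Subgroup.zpowers z = ⊤ := by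
    rw [← Subgroup.map_comap_eq_self_of_surjective (QuotientGroup.mk'_surjective M) (Subgroup.zpowers z),
      htop, Subgroup.map_top_of_surjective _ (QuotientGroup.mk'_surjective M)]
  rw [hz', Subgroup.card_top]

section orbits

open scoped Classical in
/-- Products over a stable set in which every point is moved by a cyclically vanishing element. -/
theorem prod_mem_of_moved [Finite G] {α : Type*} [MulAction G α] {Y : Subgroup C} (f : α → C)
    {E : Set G} (hE : ∀ e ∈ E, ∀ x : α, ∏ i ∈ Finset.range p, f (e ^ i • x) ∈ Y) (n : ℕ) :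
    ∀ L : Subgroup G, IsPGroup p L → Nat.card L ≤ n → ∀ s : Finset α,
      (∀ g ∈ L, ∀ x ∈ s, g • x ∈ s) → (∀ x ∈ s, ∃ e ∈ E, e ∈ L ∧ e • x ≠ x) →
      ∏ x ∈ s, f x ∈ Y := by
  induction n with
  | zero => exact fun L _ h => absurd h (Nat.not_le.mpr Nat.card_pos)
  | succ n ih =>
    intro L hL hn s
    induction s using Finset.strongInduction with
    | _ s ihs =>
      intro hst hmv
      rcases s.eq_empty_or_nonempty with rfl | ⟨x, hx⟩
      · rw [Finset.prod_empty]; exact Y.one_mem
      obtain ⟨e₀, -, he₀L, he₀⟩ := hmv x hx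
      set K := (MulAction.stabilizer G x).subgroupOf L with hK
      have hKtop : K ≠ ⊤ := fun h => he₀ (by
        have h1 : (⟨e₀, he₀L⟩ : L) ∈ K := h ▸ Subgroup.mem_top _
        exact MulAction.mem_stabilizer_iff.mp h1)
      obtain ⟨H₀, hH₀, hKH⟩ := (IsCoatomic.eq_top_or_exists_le_coatom K).resolve_left hKtop
      obtain ⟨hH₀n, hidx⟩ := coatom_normal_index hL hH₀
      set H := H₀.map L.subtype with hH
      have hHL : H ≤ L := Subgroup.map_subtype_le _
      have hHlt : Nat.card H ≤ n := by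
        rw [hH, Subgroup.card_map_of_injective L.subtype_injective]
        have h1 := H₀.card_mul_index
        rw [hidx] at h1
        have h2 : Nat.card H₀ * 2 ≤ Nat.card L := by
          rw [← h1]; exact Nat.mul_le_mul_left _ hp.out.two_le
        have h3 : 0 < Nat.card H₀ := Nat.card_pos
        omega
      by_cases hex : ∃ e ∈ E, e ∈ L ∧ e ∉ H
      swap
      · push_neg at hex
        refine ih H (hL.to_le hHL) hHlt s (fun g hg => hst g (hHL hg)) fun y hy => ?_
        obtain ⟨e, he, heL, hey⟩ := hmv y hy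
        exact ⟨e, he, hex e he heL, hey⟩
      obtain ⟨e, heE, heL, heH⟩ := hex
      set B := s.filter (fun y => ∃ h ∈ H, y = h • x) with hB
      set O := s.filter (fun y => ∃ l ∈ L, y = l • x) with hO
      -- `L = ⋃ eⁱ H`
      have hcover : ∀ l ∈ L, ∃ i < p, ∃ h ∈ H, l = e ^ i * h := by
        intro l hl
        have hne : (QuotientGroup.mk' H₀ ⟨e, heL⟩) ≠ 1 := fun h => heH
          ⟨⟨e, heL⟩, (QuotientGroup.eq_one_iff _).mp h, rfl⟩
        have hcard : Nat.card (L ⧸ H₀) = p := by rw [← Subgroup.index_eq_card, hidx]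
        have hgen : Subgroup.zpowers (QuotientGroup.mk' H₀ ⟨e, heL⟩) = ⊤ :=
          zpowers_eq_top_of_prime_card hcard hne
        have hord : orderOf (QuotientGroup.mk' H₀ ⟨e, heL⟩) = p := by
          rw [← Nat.card_zpowers, hgen, Subgroup.card_top, hcard]
        obtain ⟨i, hi⟩ := (mem_powers_iff_mem_zpowers).mpr
          (hgen ▸ Subgroup.mem_top (QuotientGroup.mk' H₀ ⟨l, hl⟩))
        refine ⟨i % p, Nat.mod_lt _ hp.out.pos, (e ^ (i % p))⁻¹ * l, ?_, by rw [mul_inv_cancel_left]⟩
        refine ⟨(⟨e, heL⟩ ^ (i % p))⁻¹ * ⟨l, hl⟩, (QuotientGroup.eq_one_iff _).mp ?_, rfl⟩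
        show QuotientGroup.mk' H₀ _ = 1
        have hi' : (QuotientGroup.mk' H₀ ⟨e, heL⟩) ^ i = QuotientGroup.mk' H₀ ⟨l, hl⟩ := hi
        rw [map_mul, map_inv, map_pow, ← hord, pow_mod_orderOf, hi', inv_mul_cancel]
      -- the blocks are disjoint
      have hdisj : ∀ i j, i < p → j < p → ∀ b ∈ B, ∀ b' ∈ B, e ^ i • b = e ^ j • b' → i = j := by
        intro i j hi hj b hb b' hb' he'
        obtain ⟨-, h, hh, rfl⟩ := Finset.mem_filter.mp hb
        obtain ⟨-, h', hh', rfl⟩ := Finset.mem_filter.mp hb'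
        rw [smul_smul, smul_smul] at he'
        have hm : (e ^ j * h')⁻¹ * (e ^ i * h) ∈ MulAction.stabilizer G x := by
          rw [MulAction.mem_stabilizer_iff, mul_smul, he', inv_smul_smul]
        have hmL : (e ^ j * h')⁻¹ * (e ^ i * h) ∈ L :=
          L.mul_mem (L.inv_mem (L.mul_mem (L.pow_mem heL j) (hHL hh'))) (L.mul_mem (L.pow_mem heL i) (hHL hh))
        have hmH : (e ^ j * h')⁻¹ * (e ^ i * h) ∈ H :=
          ⟨⟨_, hmL⟩, hKH (show (⟨_, hmL⟩ : L) ∈ K from hm), rfl⟩
        have hd : (e ^ j)⁻¹ * e ^ i ∈ H := by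
          have := H.mul_mem (H.mul_mem hh' hmH) (H.inv_mem hh)
          simpa [mul_assoc] using this
        obtain ⟨d, hdH, hde⟩ := hd
        have hd' : QuotientGroup.mk' H₀ ⟨e, heL⟩ ^ j = QuotientGroup.mk' H₀ ⟨e, heL⟩ ^ i := by
          rw [← map_pow, ← map_pow]
          refine QuotientGroup.eq.mpr ?_
          have : d = (⟨e, heL⟩ ^ j)⁻¹ * ⟨e, heL⟩ ^ i := Subtype.ext hde
          rwa [← this]
        have hne : (QuotientGroup.mk' H₀ ⟨e, heL⟩) ≠ 1 := fun h0 => heH
          ⟨⟨e, heL⟩, (QuotientGroup.eq_one_iff _).mp h0, rfl⟩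
        have hord : orderOf (QuotientGroup.mk' H₀ ⟨e, heL⟩) = p := by
          haveI : Fact p.Prime := hp
          exact orderOf_eq_prime (orderOf_dvd_iff_pow_eq_one.mp
            ((orderOf_dvd_natCard _).trans (by rw [← Subgroup.index_eq_card, hidx]))) hne
        exact (pow_injOn_Iio_orderOf (show j < orderOf _ from hord.symm ▸ hj) (show i < orderOf _ from hord.symm ▸ hi) hd').symm
      have hBmem : ∀ h ∈ H, h • x ∈ B := fun h hh =>
        Finset.mem_filter.mpr ⟨hst h (hHL hh) x hx, h, hh, rfl⟩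
      have hprod : ∏ y ∈ O, f y = ∏ b ∈ B, ∏ i ∈ Finset.range p, f (e ^ i • b) := by
        rw [← Finset.prod_product']
        refine (Finset.prod_bij (fun q _ => e ^ q.2 • q.1) ?_ ?_ ?_ fun _ _ => rfl).symm
        · intro q hq
          obtain ⟨hb, -⟩ := Finset.mem_product.mp hq
          obtain ⟨hbs, h, hh, hbe⟩ := Finset.mem_filter.mp hb
          refine Finset.mem_filter.mpr ⟨hst _ (L.pow_mem heL _) _ hbs,
            e ^ q.2 * h, L.mul_mem (L.pow_mem heL _) (hHL hh), by rw [hbe, smul_smul]⟩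
        · rintro ⟨b, i⟩ hq ⟨b', j⟩ hq' he'
          obtain ⟨hb, hi⟩ := Finset.mem_product.mp hq
          obtain ⟨hb', hj⟩ := Finset.mem_product.mp hq'
          obtain rfl := hdisj i j (Finset.mem_range.mp hi) (Finset.mem_range.mp hj) b hb b' hb' he'
          exact Prod.ext (smul_left_cancel _ he') rfl
        · intro y hy
          obtain ⟨-, l, hl, rfl⟩ := Finset.mem_filter.mp hy
          obtain ⟨i, hi, h, hh, rfl⟩ := hcover l hl
          exact ⟨(h • x, i), Finset.mem_product.mpr ⟨hBmem h hh, Finset.mem_range.mpr hi⟩, by simp [mul_smul]⟩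
      rw [← Finset.prod_filter_mul_prod_filter_not s (fun y => ∃ l ∈ L, y = l • x), ← hO, hprod]
      refine Y.mul_mem (Subgroup.prod_mem _ fun b _ => hE e heE b) ?_
      refine ihs _ ?_ (fun g hg y hy => ?_) fun y hy => hmv y (Finset.mem_filter.mp hy).1
      · exact Finset.filter_ssubset.mpr ⟨x, hx, not_not.mpr ⟨1, L.one_mem, (one_smul G x).symm⟩⟩
      · obtain ⟨hys, hyn⟩ := Finset.mem_filter.mp hy
        refine Finset.mem_filter.mpr ⟨hst g hg y hys, fun ⟨l, hl, he'⟩ => hyn ?_⟩
        exact ⟨g⁻¹ * l, L.mul_mem (L.inv_mem hg) hl, by rw [mul_smul, ← he', inv_smul_smul]⟩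

end orbits

section average

variable [Finite G] {D M : Subgroup G} [D.Normal]

/-- The value of `φ` at a conjugate indexed by a coset. -/
noncomputable def avgTerm (φ : D →* C) (d : D) (x : G ⧸ M) : C :=
  φ ((MulAut.conjNormal (x.out)⁻¹ : MulAut D) d)

/-- The average of `φ` over the cosets of `M`. -/
noncomputable def avg (M : Subgroup G) [Fintype (G ⧸ M)] (φ : D →* C) : D →* C where
  toFun d := ∏ x : G ⧸ M, avgTerm φ d x
  map_one' := Finset.prod_eq_one fun x _ => by rw [avgTerm, map_one, map_one]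
  map_mul' a b := by
    rw [← Finset.prod_mul_distrib]
    exact Finset.prod_congr rfl fun x _ => by rw [avgTerm, map_mul, map_mul]; rfl

variable {φ : D →* C} (hφ : ∀ m ∈ M, ∀ d : D, φ ((MulAut.conjNormal m : MulAut D) d) = φ d)

include hφ in
theorem avgTerm_mk (d : D) (g : G) :
    avgTerm φ d (g : G ⧸ M) = φ ((MulAut.conjNormal g⁻¹ : MulAut D) d) := by
  obtain ⟨m, hm⟩ := QuotientGroup.mk_out_eq_mul M g
  rw [avgTerm, hm, mul_inv_rev, map_mul, MulAut.mul_apply, hφ _ (M.inv_mem m.2)]

include hφ in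
theorem avgTerm_smul (d : D) (g : G) (x : G ⧸ M) :
    avgTerm φ d (g • x) = avgTerm φ ((MulAut.conjNormal g⁻¹ : MulAut D) d) x := by
  induction x using QuotientGroup.induction_on with
  | H y =>
    rw [MulAction.Quotient.smul_coe, smul_eq_mul, avgTerm_mk hφ, avgTerm_mk hφ, mul_inv_rev,
      map_mul, MulAut.mul_apply]

include hφ in
theorem avg_conj [Fintype (G ⧸ M)] (g : G) (d : D) :
    avg M φ ((MulAut.conjNormal g : MulAut D) d) = avg M φ d := by
  refine Fintype.prod_equiv (MulAction.toPerm g⁻¹) _ _ fun x => ?_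
  show avgTerm φ _ x = avgTerm φ d (g⁻¹ • x)
  rw [avgTerm_smul hφ, inv_inv]

include hφ in
theorem avg_of_invariant [Fintype (G ⧸ M)] (d : D)
    (h : ∀ g : G, φ ((MulAut.conjNormal g : MulAut D) d) = φ d) :
    avg M φ d = φ d ^ M.index := by
  show ∏ x : G ⧸ M, avgTerm φ d x = _
  rw [Finset.prod_congr rfl fun x _ => (show avgTerm φ d x = φ d from h _), Finset.prod_const,
    Finset.card_univ, Subgroup.index_eq_card, Nat.card_eq_fintype_card]

include hφ in
/-- If every point but the base point is moved by an Engel element of the `p`-subgroup `L ≤ M`, the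
average agrees with `φ` modulo `Y`. -/
theorem avg_mul_inv_mem [Fintype (G ⧸ M)] {L : Subgroup G} (hLp : IsPGroup p L) (hLM : L ≤ M)
    {E : Set G} (hEL : E ⊆ L) {Y : Subgroup C} (d : D)
    (hE : ∀ e ∈ E, ∀ g : G,
      ∏ i ∈ Finset.range p, avgTerm φ d (e ^ i • (g : G ⧸ M)) ∈ Y)
    (hfix : ∀ g : G, (∀ e ∈ E, g⁻¹ * e * g ∈ M) → g ∈ M) :
    avg M φ d * (φ d)⁻¹ ∈ Y := by
  classical
  show (∏ x : G ⧸ M, avgTerm φ d x) * _ ∈ Y
  rw [← Finset.mul_prod_erase Finset.univ _ (Finset.mem_univ ((1 : G) : G ⧸ M)), avgTerm_mk hφ,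
    inv_one, map_one, MulAut.one_apply, mul_comm (φ d), mul_inv_cancel_right]
  refine prod_mem_of_moved (p := p) _ (E := E) (fun e he x => ?_) _ L hLp le_rfl _ ?_ ?_
  · induction x using QuotientGroup.induction_on with
    | H y => exact hE e he y
  · intro g hg x hx
    refine Finset.mem_erase.mpr ⟨fun h => (Finset.mem_erase.mp hx).1 ?_, Finset.mem_univ _⟩
    rw [← inv_smul_smul g x, h, MulAction.Quotient.smul_coe, smul_eq_mul, mul_one]
    exact QuotientGroup.eq.mpr (by simpa using M.inv_mem (M.inv_mem (hLM hg)))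
  · intro x hx
    induction x using QuotientGroup.induction_on with
    | H y =>
      by_contra hne
      push_neg at hne
      refine (Finset.mem_erase.mp hx).1 (QuotientGroup.eq.mpr ?_)
      have h1 : y ∈ M := hfix y fun e he => by
        have := hne e he (hEL he)
        rw [MulAction.Quotient.smul_coe, smul_eq_mul, QuotientGroup.eq, mul_inv_rev] at this
        simpa [mul_assoc] using M.inv_mem this
      simpa using M.inv_mem h1

end average

end CfsgLib.Conjugacy
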