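import Mathlib
import Cfsg.Prelude.Def_ConjugacyFunctors
import Cfsg.Agent.Lib.Transfer.ThompsonComplement

/-!
Maximal members of the families defining the K-infinity subgroups, and the sequence of a subgroup
containing all terms.
-/

set_option autoImplicit false
set_option linter.style.haveILetI false
set_option linter.unusedSectionVars false

open scoped commutatorElement

namespace CfsgLib.Conjugacy

variable {P : Type*} [Group P]

theorem commutator_le_of_closure {B Z A : Subgroup P} {S : Set P} (hB : B = Subgroup.closure S)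
    (hS : ∀ b ∈ S, ∀ a ∈ A, ⁅b, a⁆ ∈ Z) (hZ : S ⊆ Subgroup.normalizer (Z : Set P)) :
    ⁅B, A⁆ ≤ Z := by
  let X : Subgroup P :=
    { carrier := {b | b ∈ Subgroup.normalizer (Z : Set P) ∧ ∀ a ∈ A, ⁅b, a⁆ ∈ Z}
      one_mem' := ⟨Subgroup.one_mem _, fun a _ => by rw [commutatorElement_one_left]; exact Z.one_mem⟩
      mul_mem' := fun {b c} hb hc => ⟨Subgroup.mul_mem _ hb.1 hc.1, fun a ha => by
        rw [show ⁅b * c, a⁆ = b * ⁅c, a⁆ * b⁻¹ * ⁅b, a⁆ by simp [commutatorElement_def, mul_assoc]]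
        exact Z.mul_mem ((Subgroup.mem_normalizer_iff.mp hb.1 _).mp (hc.2 a ha)) (hb.2 a ha)⟩
      inv_mem' := fun {b} hb => ⟨Subgroup.inv_mem _ hb.1, fun a ha => by
        rw [show ⁅b⁻¹, a⁆ = b⁻¹ * ⁅b, a⁆⁻¹ * b by simp [commutatorElement_def, mul_assoc]]
        exact (Subgroup.mem_normalizer_iff''.mp hb.1 _).mp (Z.inv_mem (hb.2 a ha))⟩ }
  rw [Subgroup.commutator_le]
  intro b hb a ha
  have : B ≤ X := hB ▸ (Subgroup.closure_le X).mpr fun c hc => ⟨hZ hc, hS c hc⟩
  exact (this hb).2 a ha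

theorem exists_commutator_le [Group.IsNilpotent P] {M H Z : Subgroup P}
    (hMH : H ≤ Subgroup.normalizer (M : Set P)) (hMZ : ¬ M ≤ Z) :
    ∃ x ∈ M, x ∉ Z ∧ ∀ h ∈ H, ⁅x, h⁆ ∈ Z := by
  by_contra hne
  push_neg at hne
  let L : ℕ → Subgroup P := fun n => Nat.rec M (fun _ L => ⁅L, H⁆ ⊓ M) n
  have hL : ∀ n, L n ≤ M ∧ ¬ L n ≤ Z := by
    intro n
    induction n with
    | zero => exact ⟨le_rfl, hMZ⟩
    | succ n ih =>
      refine ⟨inf_le_right, fun hle => ?_⟩
      obtain ⟨x, hx, hxZ⟩ := SetLike.not_le_iff_exists.mp ih.2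
      obtain ⟨h, hh, hbad⟩ := hne x (ih.1 hx) hxZ
      refine hbad (hle ⟨Subgroup.commutator_mem_commutator hx hh, ?_⟩)
      rw [commutatorElement_def]
      have : h * x⁻¹ * h⁻¹ ∈ M := (Subgroup.mem_normalizer_iff.mp (hMH hh) _).mp (M.inv_mem (ih.1 hx))
      simpa [mul_assoc] using M.mul_mem (ih.1 hx) this
  have hlc : ∀ n, L n ≤ Subgroup.lowerCentralSeries (⊤ : Subgroup P) n := by
    intro n
    induction n with
    | zero => exact le_top
    | succ n ih => exact inf_le_left.trans (Subgroup.commutator_mono ih le_top)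
  obtain ⟨n, hn⟩ := nilpotent_iff_lowerCentralSeries.mp (inferInstance : Group.IsNilpotent P)
  exact (hL n).2 ((hlc n).trans (hn.le.trans bot_le))

theorem normalizer_le_center (B : Subgroup P) :
    Subgroup.normalizer (B : Set P) ≤
      Subgroup.normalizer ((B ⊓ Subgroup.centralizer (B : Set P) : Subgroup P) : Set P) :=
  Coprime.le_normalizer_inf_of_le le_rfl (Coprime.le_normalizer_centralizer le_rfl)

section max

variable {B Q : Subgroup P} {x : P}

theorem classTwo_adjoin (hB : B ∈ Cfsg.classTwoSubgroups P)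
    (hx : x ∈ Subgroup.centralizer (B : Set P)) :
    B ⊔ Subgroup.zpowers x ∈ Cfsg.classTwoSubgroups P ∧
    B ⊓ Subgroup.centralizer (B : Set P) ⊔ Subgroup.zpowers x ≤ (B ⊔ Subgroup.zpowers x) ⊓
      Subgroup.centralizer ((B ⊔ Subgroup.zpowers x : Subgroup P) : Set P) := by
  set B' := B ⊔ Subgroup.zpowers x with hB'
  have hcl : B' = Subgroup.closure ((B : Set P) ∪ {x}) := by
    rw [Subgroup.closure_union, Subgroup.closure_eq, ← Subgroup.zpowers_eq_closure]
  have hcen : ∀ z, (∀ b ∈ B, b * z = z * b) → x * z = z * x →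
      z ∈ Subgroup.centralizer (B' : Set P) := by
    intro z h1 h2
    rw [hcl, Subgroup.centralizer_closure]
    rintro b (hb | rfl)
    · exact h1 b hb
    · exact h2
  have hx' : x ∈ Subgroup.centralizer (B' : Set P) := hcen x hx rfl
  have hZ : B ⊓ Subgroup.centralizer (B : Set P) ⊔ Subgroup.zpowers x ≤
      B' ⊓ Subgroup.centralizer (B' : Set P) := by
    refine sup_le (fun z hz => ⟨Subgroup.mem_sup_left hz.1, hcen z hz.2 (hx z hz.1).symm⟩) ?_
    rw [Subgroup.zpowers_le]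
    exact ⟨Subgroup.mem_sup_right (Subgroup.mem_zpowers x), hx'⟩
  refine ⟨?_, hZ⟩
  show ⁅B', B'⁆ ≤ Subgroup.centralizer (B' : Set P)
  refine (commutator_le_of_closure hcl (A := B') (Z := B' ⊓ Subgroup.centralizer (B' : Set P)) ?_ ?_).trans
    inf_le_right
  · rintro b (hb | rfl) a ha
    · refine hZ (Subgroup.mem_sup_left ?_)
      have h1 : ⁅B', B⁆ ≤ B ⊓ Subgroup.centralizer (B : Set P) := by
        refine commutator_le_of_closure hcl ?_ ?_
        · rintro c (hc | rfl) d hd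
          · exact ⟨(Subgroup.commutator_le_self B) (Subgroup.commutator_mem_commutator hc hd),
              hB (Subgroup.commutator_mem_commutator hc hd)⟩
          · rw [commutatorElement_eq_one_iff_mul_comm.mpr (hx d hd).symm]
            exact Subgroup.one_mem _
        · intro c hc
          refine normalizer_le_center B ?_
          rcases hc with hc | rfl
          · exact Subgroup.le_normalizer hc
          · exact Subgroup.centralizer_le_normalizer _ hx
      rw [← commutatorElement_inv]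
      exact Subgroup.inv_mem _ (h1 (Subgroup.commutator_mem_commutator ha hb))
    · rw [commutatorElement_eq_one_iff_mul_comm.mpr (hx' a ha).symm]
      exact Subgroup.one_mem _
  · intro c hc
    refine normalizer_le_center _ ?_
    exact Subgroup.le_normalizer (hcl ▸ Subgroup.subset_closure hc)

theorem commutator_adjoin_le (hB : B ∈ Cfsg.classTwoSubgroups P)
    (hx : x ∈ Subgroup.centralizer (B : Set P)) {A : Subgroup P}
    (h₁ : ⁅B, A⁆ ≤ B ⊓ Subgroup.centralizer (B : Set P))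
    (h₂ : ∀ a ∈ A, ⁅x, a⁆ ∈ B ⊓ Subgroup.centralizer (B : Set P)) :
    ⁅B ⊔ Subgroup.zpowers x, A⁆ ≤ (B ⊔ Subgroup.zpowers x) ⊓
      Subgroup.centralizer ((B ⊔ Subgroup.zpowers x : Subgroup P) : Set P) := by
  obtain ⟨-, hZ⟩ := classTwo_adjoin hB hx
  set B' := B ⊔ Subgroup.zpowers x with hB'
  have hcl : B' = Subgroup.closure ((B : Set P) ∪ {x}) := by
    rw [Subgroup.closure_union, Subgroup.closure_eq, ← Subgroup.zpowers_eq_closure]
  refine commutator_le_of_closure hcl ?_ ?_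
  · rintro b (hb | rfl) a ha
    · exact hZ (Subgroup.mem_sup_left (h₁ (Subgroup.commutator_mem_commutator hb ha)))
    · exact hZ (Subgroup.mem_sup_left (h₂ a ha))
  · intro c hc
    refine normalizer_le_center _ ?_
    exact Subgroup.le_normalizer (hcl ▸ Subgroup.subset_closure hc)

theorem centralizer_le_of_max [Group.IsNilpotent P] (hB : B ∈ Cfsg.classTwoSubgroups P)
    (hQ : Q ≤ Subgroup.normalizer (B : Set P))
    (hmax : ∀ x ∈ Subgroup.centralizer (B : Set P),
      (∀ a ∈ Q, ⁅x, a⁆ ∈ B ⊓ Subgroup.centralizer (B : Set P)) → x ∈ B) :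
    Subgroup.centralizer (B : Set P) ≤ B := by
  by_contra hle
  obtain ⟨x, hxC, hxZ, hxQ⟩ := exists_commutator_le (H := Q)
    (M := Subgroup.centralizer (B : Set P)) (Z := B ⊓ Subgroup.centralizer (B : Set P))
    (hQ.trans (Coprime.le_normalizer_centralizer le_rfl)) fun h => hle (h.trans inf_le_left)
  exact hxZ ⟨hmax x hxC hxQ, hxC⟩

theorem classTwo_max [Group.IsNilpotent P] (hB : B ∈ Cfsg.classTwoSubgroups P)
    (hmax : ∀ C ∈ Cfsg.classTwoSubgroups P, B ≤ C → C = B) :
    Subgroup.centralizer (B : Set P) ≤ B :=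
  centralizer_le_of_max (Q := ⊥) hB bot_le fun x hx _ =>
    (hmax _ (classTwo_adjoin hB hx).1 le_sup_left).le (Subgroup.mem_sup_right (Subgroup.mem_zpowers x))

theorem upper_max [Group.IsNilpotent P] (hB : B ∈ Cfsg.kUpperStarFamily Q)
    (hmax : ∀ C ∈ Cfsg.kUpperStarFamily Q, B ≤ C → C = B) :
    Subgroup.centralizer (B : Set P) ≤ B := by
  refine centralizer_le_of_max (Q := Q) hB.1 (fun q hq => Subgroup.mem_normalizer_iff_map_conj_eq.mpr ?_)
    fun x hx hxQ => (hmax _ ⟨(classTwo_adjoin hB.1 hx).1, commutator_adjoin_le hB.1 hx hB.2 hxQ⟩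
      le_sup_left).le (Subgroup.mem_sup_right (Subgroup.mem_zpowers x))
  have h : ∀ r ∈ Q, ∀ b ∈ B, r * b * r⁻¹ ∈ B := fun r hr b hb => by
    have h1 := hB.2 (Subgroup.commutator_mem_commutator hb hr)
    rw [show r * b * r⁻¹ = (b⁻¹ * ⁅b, r⁆)⁻¹ by simp [commutatorElement_def, mul_assoc]]
    exact B.inv_mem (B.mul_mem (B.inv_mem hb) h1.1)
  refine le_antisymm ?_ fun b hb => ⟨q⁻¹ * b * q, by simpa using h _ (Q.inv_mem hq) b hb, by simp [mul_assoc]⟩
  rintro _ ⟨b, hb, rfl⟩
  exact h q hq b hb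

theorem lower_max [Group.IsNilpotent P] (hB : B ∈ Cfsg.kLowerStarFamily Q)
    (hmax : ∀ C ∈ Cfsg.kLowerStarFamily Q, B ≤ C → C = B) :
    Subgroup.centralizer (B : Set P) ≤ B := by
  refine centralizer_le_of_max (Q := Q) hB.1 hB.2.1 fun x hx hxQ =>
    (hmax _ ⟨(classTwo_adjoin hB.1 hx).1, ?_, ?_⟩ le_sup_left).le
      (Subgroup.mem_sup_right (Subgroup.mem_zpowers x))
  · intro q hq
    have h : ∀ r ∈ Q, ∀ b ∈ B ⊔ Subgroup.zpowers x, r * b * r⁻¹ ∈ B ⊔ Subgroup.zpowers x := by
      intro r hr b hb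
      have hle : B ⊔ Subgroup.zpowers x ≤
          (B ⊔ Subgroup.zpowers x).comap (MulAut.conj r).toMonoidHom := by
        refine sup_le (fun c hc => Subgroup.mem_sup_left
          ((Subgroup.mem_normalizer_iff.mp (hB.2.1 hr) c).mp hc)) (Subgroup.zpowers_le.mpr ?_)
        show r * x * r⁻¹ ∈ B ⊔ Subgroup.zpowers x
        rw [show r * x * r⁻¹ = (x⁻¹ * ⁅x, r⁆)⁻¹ by simp [commutatorElement_def, mul_assoc]]
        exact Subgroup.inv_mem _ (Subgroup.mul_mem _
          (Subgroup.inv_mem _ (Subgroup.mem_sup_right (Subgroup.mem_zpowers x)))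
          (Subgroup.mem_sup_left (hxQ r hr).1))
      exact hle hb
    refine Subgroup.mem_normalizer_iff_map_conj_eq.mpr (le_antisymm ?_ fun b hb =>
      ⟨q⁻¹ * b * q, by simpa using h _ (Q.inv_mem hq) b hb, by simp [mul_assoc]⟩)
    rintro _ ⟨b, hb, rfl⟩
    exact h q hq b hb
  · intro A hA hAQ hBA hBAA hZAA
    refine commutator_adjoin_le hB.1 hx (hB.2.2 A hA hAQ (le_sup_left.trans hBA) ?_ ?_)
      fun a ha => hxQ a (hAQ ha)
    · exact le_bot_iff.mp ((Subgroup.commutator_mono le_sup_left le_rfl).trans hBAA.le)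
    · exact le_bot_iff.mp ((Subgroup.commutator_mono (Subgroup.commutator_mono
        (le_sup_left.trans (classTwo_adjoin hB.1 hx).2) le_rfl) le_rfl).trans hZAA.le)

end max

/-- A maximal member contains its centralizer, so the subgroup generated by the family does. -/
theorem centralizer_sSup_le [Finite P] {𝒦 : Set (Subgroup P)} (hne : 𝒦.Nonempty)
    (h : ∀ B ∈ 𝒦, (∀ C ∈ 𝒦, B ≤ C → C = B) → Subgroup.centralizer (B : Set P) ≤ B) :
    Subgroup.centralizer ((sSup 𝒦 : Subgroup P) : Set P) ≤ sSup 𝒦 := by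
  haveI : Finite (Subgroup P) := Finite.of_injective (fun H => (H : Set P)) SetLike.coe_injective
  obtain ⟨B, hB, hmax⟩ := (Set.toFinite 𝒦).exists_maximal hne
  exact ((Subgroup.centralizer_le (SetLike.coe_subset_coe.mpr (le_sSup hB))).trans
    (h B hB fun C hC hBC => le_antisymm (hmax hC hBC) hBC)).trans (le_sSup hB)

theorem bot_mem_lower (Q : Subgroup P) : ⊥ ∈ Cfsg.kLowerStarFamily Q :=
  ⟨le_of_eq_of_le (Subgroup.commutator_bot_left _) bot_le, fun q _ => Subgroup.mem_normalizer_iff.mpr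
    fun b => by simp, fun A _ _ _ _ _ => le_of_eq_of_le (Subgroup.commutator_bot_left _) bot_le⟩

theorem bot_mem_upper (Q : Subgroup P) : ⊥ ∈ Cfsg.kUpperStarFamily Q :=
  ⟨le_of_eq_of_le (Subgroup.commutator_bot_left _) bot_le,
    le_of_eq_of_le (Subgroup.commutator_bot_left _) bot_le⟩

section sub

variable {Q : Type*} [Group Q] (f : Q →* P) (hf : Function.Injective f)

include hf

theorem map_center' (B : Subgroup Q) :
    (B ⊓ Subgroup.centralizer (B : Set Q)).map f =
      B.map f ⊓ Subgroup.centralizer ((B.map f : Subgroup P) : Set P) :=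
  CfsgLib.Transfer.map_centerOf f hf.injOn

theorem classTwo_map_iff (B : Subgroup Q) :
    B.map f ∈ Cfsg.classTwoSubgroups P ↔ B ∈ Cfsg.classTwoSubgroups Q := by
  constructor
  · intro h c hc b hb
    apply hf
    rw [map_mul, map_mul]
    refine h ?_ _ (Subgroup.mem_map_of_mem _ hb)
    rw [← Subgroup.map_commutator]
    exact Subgroup.mem_map_of_mem _ hc
  · intro h
    show ⁅B.map f, B.map f⁆ ≤ _
    rw [← Subgroup.map_commutator]
    rintro _ ⟨c, hc, rfl⟩ _ ⟨b, hb, rfl⟩
    rw [← map_mul, ← map_mul, h hc b hb]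

theorem normalizer_map_iff (X B : Subgroup Q) :
    X.map f ≤ Subgroup.normalizer ((B.map f : Subgroup P) : Set P) ↔
      X ≤ Subgroup.normalizer (B : Set Q) := by
  refine ⟨fun h x hx => Subgroup.mem_normalizer_iff.mpr fun b => ?_,
    fun h => (Subgroup.map_mono h).trans (Subgroup.le_normalizer_map _)⟩
  have := Subgroup.mem_normalizer_iff.mp (h (Subgroup.mem_map_of_mem _ hx)) (f b)
  rw [← map_inv, ← map_mul, ← map_mul, Subgroup.mem_map_iff_mem hf,
    Subgroup.mem_map_iff_mem hf] at this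
  exact this

theorem map_lower_subset (X : Subgroup Q) :
    ∀ B : Subgroup Q, (B.map f ∈ Cfsg.kLowerStarFamily (X.map f) ↔
      B ∈ Cfsg.kLowerStarFamily X) := by
  intro B
  have hinj := hf
  constructor
  · refine fun h => ⟨(classTwo_map_iff f hf B).mp h.1, (normalizer_map_iff f hf X B).mp h.2.1, ?_⟩
    intro A hA hAX hBA hBAA hZAA
    have := h.2.2 _ ((classTwo_map_iff f hf A).mpr hA) (Subgroup.map_mono hAX)
      ((normalizer_map_iff f hf B A).mpr hBA)
      (by rw [← Subgroup.map_commutator, ← Subgroup.map_commutator, hBAA, Subgroup.map_bot])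
      (by rw [← map_center' f hf, ← Subgroup.map_commutator, ← Subgroup.map_commutator, hZAA, Subgroup.map_bot])
    rw [← map_center' f hf, ← Subgroup.map_commutator] at this
    exact (Subgroup.map_le_map_iff_of_injective hinj).mp this
  · refine fun h => ⟨(classTwo_map_iff f hf B).mpr h.1, (normalizer_map_iff f hf X B).mpr h.2.1, ?_⟩
    intro A hA hAX hBA hBAA hZAA
    obtain ⟨A', rfl⟩ : ∃ A' : Subgroup Q, A'.map f = A :=
      ⟨A.comap f, Subgroup.map_comap_eq_self (hAX.trans (Subgroup.map_le_range f _))⟩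
    rw [← Subgroup.map_commutator, ← Subgroup.map_commutator,
      Subgroup.map_eq_bot_iff_of_injective _ hinj] at hBAA
    rw [← map_center' f hf, ← Subgroup.map_commutator, ← Subgroup.map_commutator,
      Subgroup.map_eq_bot_iff_of_injective _ hinj] at hZAA
    rw [← map_center' f hf, ← Subgroup.map_commutator]
    exact Subgroup.map_mono (h.2.2 A' ((classTwo_map_iff f hf A').mp hA)
      ((Subgroup.map_le_map_iff_of_injective hinj).mp hAX) ((normalizer_map_iff f hf B A').mp hBA) hBAA hZAA)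

theorem map_upper_iff (X B : Subgroup Q) :
    B.map f ∈ Cfsg.kUpperStarFamily (X.map f) ↔ B ∈ Cfsg.kUpperStarFamily X := by
  show _ ∧ _ ↔ _ ∧ _
  rw [classTwo_map_iff f hf, ← map_center' f hf, ← Subgroup.map_commutator,
    Subgroup.map_le_map_iff_of_injective hf]

theorem lower_sup_le_map {Y : Subgroup P} {X : Subgroup Q} (hXY : X.map f ≤ Y)
    (hQ : sSup (Cfsg.kLowerStarFamily Y) ≤ f.range) :
    sSup (Cfsg.kLowerStarFamily Y) ≤ (sSup (Cfsg.kLowerStarFamily X)).map f := by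
  refine sSup_le fun B hB => ?_
  have hBQ : B ≤ f.range := (le_sSup hB).trans hQ
  rw [← Subgroup.map_comap_eq_self hBQ] at hB ⊢
  exact Subgroup.map_mono (le_sSup ((map_lower_subset f hf X _).mp
    ⟨hB.1, hXY.trans hB.2.1, fun A hA hAX => hB.2.2 A hA (hAX.trans hXY)⟩))

theorem map_lower_sup_le {Y : Subgroup P} {X : Subgroup Q} (hYX : Y ≤ X.map f) :
    (sSup (Cfsg.kLowerStarFamily X)).map f ≤ sSup (Cfsg.kLowerStarFamily Y) := by
  rw [Subgroup.map_le_iff_le_comap]
  refine sSup_le fun B hB => Subgroup.map_le_iff_le_comap.mp (le_sSup ?_)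
  have h := (map_lower_subset f hf X B).mpr hB
  exact ⟨h.1, hYX.trans h.2.1, fun A hA hAY => h.2.2 A hA (hAY.trans hYX)⟩

theorem upper_sup_le_map {Y : Subgroup P} {X : Subgroup Q} (hXY : X.map f ≤ Y)
    (hQ : sSup (Cfsg.kUpperStarFamily Y) ≤ f.range) :
    sSup (Cfsg.kUpperStarFamily Y) ≤ (sSup (Cfsg.kUpperStarFamily X)).map f := by
  refine sSup_le fun B hB => ?_
  have hBQ : B ≤ f.range := (le_sSup hB).trans hQ
  rw [← Subgroup.map_comap_eq_self hBQ] at hB ⊢
  exact Subgroup.map_mono (le_sSup ((map_upper_iff f hf X _).mp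
    ⟨hB.1, (Subgroup.commutator_mono le_rfl hXY).trans hB.2⟩))

theorem map_upper_sup_le {Y : Subgroup P} {X : Subgroup Q} (hYX : Y ≤ X.map f) :
    (sSup (Cfsg.kUpperStarFamily X)).map f ≤ sSup (Cfsg.kUpperStarFamily Y) := by
  rw [Subgroup.map_le_iff_le_comap]
  refine sSup_le fun B hB => Subgroup.map_le_iff_le_comap.mp (le_sSup ?_)
  have h := (map_upper_iff f hf X B).mpr hB
  exact ⟨h.1, (Subgroup.commutator_mono le_rfl hYX).trans h.2⟩

theorem kInf_subgroup (hQ : ∀ n : ℕ, Cfsg.kSeqEven P n ≤ f.range ∧ Cfsg.kSeqOdd P (n + 1) ≤ f.range) :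
    (Cfsg.kInfLower Q).map f = Cfsg.kInfLower P ∧
      (Cfsg.kInfUpper Q).map f = Cfsg.kInfUpper P := by
  have hoq : ∀ n, (Cfsg.kSeqOdd Q n).map f ≤ Cfsg.kSeqOdd P n ∧
      Cfsg.kSeqOdd P (n + 1) ≤ (Cfsg.kSeqOdd Q n).map f := by
    intro n
    induction n with
    | zero =>
      refine ⟨le_top, ?_⟩
      rw [show Cfsg.kSeqOdd Q 0 = ⊤ from rfl, ← MonoidHom.range_eq_map]
      exact (hQ 0).2
    | succ n ih =>
      refine ⟨map_upper_sup_le f hf (lower_sup_le_map f hf ih.1 (hQ n).1), ?_⟩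
      exact upper_sup_le_map f hf (map_lower_sup_le f hf ih.2) (hQ (n + 1)).2
  have hev : ∀ n, Cfsg.kSeqEven P n ≤ (Cfsg.kSeqEven Q n).map f ∧
      (Cfsg.kSeqEven Q n).map f ≤ Cfsg.kSeqEven P (n + 1) := fun n =>
    ⟨lower_sup_le_map f hf (hoq n).1 (hQ n).1, map_lower_sup_le f hf (hoq n).2⟩
  constructor
  · rw [Cfsg.kInfLower, Cfsg.kInfLower, Subgroup.map_iSup]
    exact le_antisymm (iSup_le fun n => (hev n).2.trans (le_iSup (Cfsg.kSeqEven P) (n + 1)))
      (iSup_mono fun n => (hev n).1)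
  · rw [Cfsg.kInfUpper, Cfsg.kInfUpper, Subgroup.map_iInf _ hf]
    exact le_antisymm (iInf_mono fun n => (hoq n).1)
      (le_iInf fun n => (iInf_le _ (n + 1)).trans (hoq n).2)

end sub

end CfsgLib.Conjugacy
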