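import Mathlib
import Cfsg.Prelude.Def_LocalEven
import Cfsg.Agent.Lib.Conjugacy.KInf
import Cfsg.Agent.Lib.Conjugacy.Complement
import Cfsg.Agent.Lib.PStable.ChiefDegree
import Cfsg.Agent.Lib.PStable.Semisimple

/-!
If a K-infinity subgroup of `S` is not normal in `G`, an element of `S` outside `O_p(G)` acts with
small degree on a critical subgroup of `O_p(G)`, and quadratically on one of its chief factors.
-/

set_option autoImplicit false
set_option linter.style.haveILetI false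
set_option linter.unusedSectionVars false

open scoped commutatorElement

namespace CfsgLib.Conjugacy

open CfsgLib.Transfer

universe u

theorem kInf_equiv {P Q : Type*} [Group P] [Group Q] (e : Q ≃* P) :
    (Cfsg.kInfLower Q).map e.toMonoidHom = Cfsg.kInfLower P ∧
      (Cfsg.kInfUpper Q).map e.toMonoidHom = Cfsg.kInfUpper P :=
  kInf_subgroup e.toMonoidHom e.injective fun n => by
    rw [MonoidHom.range_eq_top.mpr e.surjective]
    exact ⟨le_top, le_top⟩

theorem center_le_kInf {P : Type*} [Group P] :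
    Subgroup.center P ≤ Cfsg.kInfLower P ∧ Subgroup.center P ≤ Cfsg.kInfUpper P := by
  have hc : ∀ Q : Subgroup P, ⁅Subgroup.center P, Q⁆ ≤ ⊥ := fun Q => by
    rw [le_bot_iff, Subgroup.commutator_eq_bot_iff_le_centralizer]
    exact Subgroup.center_le_centralizer _
  have h2 : Subgroup.center P ∈ Cfsg.classTwoSubgroups P := (hc _).trans bot_le
  have hup : ∀ Q, Subgroup.center P ∈ Cfsg.kUpperStarFamily Q := fun Q => ⟨h2, (hc Q).trans bot_le⟩
  have hlow : ∀ Q, Subgroup.center P ∈ Cfsg.kLowerStarFamily Q := fun Q =>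
    ⟨h2, by rw [Subgroup.normalizer_eq_top]; exact le_top, fun A _ _ _ _ _ => (hc A).trans bot_le⟩
  refine ⟨(le_sSup (hlow _)).trans (le_iSup (Cfsg.kSeqEven P) 0), le_iInf fun n => ?_⟩
  cases n with
  | zero => exact le_top
  | succ n => exact le_sSup (hup _)

theorem isCharPFunctor_kInfLower (p : ℕ) [Fact p.Prime] :
    Cfsg.IsCharPFunctor.{u} p Cfsg.kInfLower := by
  refine ⟨fun Q _ _ hQ hne h => ?_, fun Q R _ _ _ _ φ => (kInf_equiv φ).1⟩
  haveI := hne
  exact (Subgroup.nontrivial_iff_ne_bot _).mp hQ.center_nontrivial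
    (le_bot_iff.mp (center_le_kInf.1.trans h.le))

theorem isCharPFunctor_kInfUpper (p : ℕ) [Fact p.Prime] :
    Cfsg.IsCharPFunctor.{u} p Cfsg.kInfUpper := by
  refine ⟨fun Q _ _ hQ hne h => ?_, fun Q R _ _ _ _ φ => (kInf_equiv φ).2⟩
  haveI := hne
  exact (Subgroup.nontrivial_iff_ne_bot _).mp hQ.center_nontrivial
    (le_bot_iff.mp (center_le_kInf.2.trans h.le))

/-- The elements centralizing every chief factor inside `X`. -/
def chiefStab {G : Type*} [Group G] (X : Subgroup G) : Subgroup G where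
  carrier := {g | ∀ U V : Subgroup G, Cfsg.IsChiefFactor U V → U ≤ X → ∀ u ∈ U, ⁅u, g⁆ ∈ V}
  one_mem' U V _ _ u _ := by rw [commutatorElement_one_right]; exact V.one_mem
  mul_mem' {a b} ha hb U V hc hUX u hu := by
    rw [show ⁅u, a * b⁆ = ⁅u, a⁆ * (a * ⁅u, b⁆ * a⁻¹) by simp [commutatorElement_def, mul_assoc]]
    exact V.mul_mem (ha U V hc hUX u hu) (hc.2.2.1.conj_mem _ (hb U V hc hUX u hu) a)
  inv_mem' {a} ha U V hc hUX u hu := by
    rw [show ⁅u, a⁻¹⁆ = a⁻¹ * ⁅u, a⁆⁻¹ * a⁻¹⁻¹ by simp [commutatorElement_def, mul_assoc]]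
    exact hc.2.2.1.conj_mem _ (V.inv_mem (ha U V hc hUX u hu)) _

theorem chiefStab_normal {G : Type*} [Group G] (X : Subgroup G) : (chiefStab X).Normal := by
  refine ⟨fun a ha g U V hc hUX u hu => ?_⟩
  rw [show ⁅u, g * a * g⁻¹⁆ = g * ⁅g⁻¹ * u * g, a⁆ * g⁻¹ by simp [commutatorElement_def, mul_assoc]]
  exact hc.2.2.1.conj_mem _ (ha U V hc hUX _ (by simpa using hc.2.1.conj_mem u hu g⁻¹)) g

variable {G : Type u} [Group G] [Finite G] {p : ℕ} [hp : Fact p.Prime]

theorem centralizes_of_chiefStab {X : Subgroup G} [X.Normal] (hXp : IsPGroup p X) {x : G}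
    (hx : x ∈ chiefStab X) (hxo : (orderOf x).Coprime p) : ∀ a ∈ X, x * a = a * x := by
  suffices ∀ (k : ℕ) (U : Subgroup G), U.Normal → U ≤ X → Nat.card U ≤ k →
      ⁅U, Subgroup.zpowers x⁆ = ⊥ by
    intro a ha
    exact (commutatorElement_eq_one_iff_mul_comm.mp (Subgroup.mem_bot.mp ((this _ X inferInstance le_rfl
      le_rfl).le (Subgroup.commutator_mem_commutator ha (Subgroup.mem_zpowers x))))).symm
  intro k
  induction k with
  | zero => exact fun U _ _ h => absurd h (Nat.not_le.mpr Nat.card_pos)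
  | succ k ih =>
    intro U hU hUX hk
    rcases eq_or_ne U ⊥ with rfl | hU1
    · rw [Subgroup.commutator_bot_left]
    obtain ⟨U', hc, hlt⟩ := PStable.exists_chief_below hU hU1
    haveI := hU
    have hcop : (Nat.card (Subgroup.zpowers x)).Coprime (Nat.card U) := by
      rw [Nat.card_zpowers]
      obtain ⟨j, hj⟩ := (hXp.to_le hUX).exists_card_eq
      rw [hj]
      exact hxo.pow_right j
    refine Coprime.commutator_eq_bot_of_commutator_commutator
      (by rw [Subgroup.normalizer_eq_top]; exact le_top) hcop ?_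
    rw [eq_bot_iff, ← ih U' hc.2.2.1 (hc.1.le.trans hUX) (by omega)]
    refine Subgroup.commutator_mono ?_ le_rfl
    rw [Subgroup.commutator_le]
    intro u hu y hy
    exact (Subgroup.zpowers_le.mpr hx hy) U U' hc hUX u hu

/-- An element outside `O_p` moves some chief factor of a faithful critical subgroup. -/
theorem exists_moved_chief {A : Subgroup G} [A.Normal] (hAT : A ≤ Cfsg.pCore p G)
    (hA5 : ∀ φ : MulAut ↥(Cfsg.pCore p G), (orderOf φ).Coprime p →
      (∀ a : ↥(Cfsg.pCore p G), (a : G) ∈ A → φ a = a) → φ = 1)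
    (hcons : Subgroup.centralizer (Cfsg.pCore p G : Set G) ≤ Cfsg.pCore p G) {g : G}
    (hg : g ∉ Cfsg.pCore p G) :
    ∃ U V : Subgroup G, Cfsg.IsChiefFactor U V ∧ U ≤ A ∧ ¬ ⁅U, Subgroup.zpowers g⁆ ≤ V := by
  by_contra hne
  push Not at hne
  haveI := Fitting.pCore_normal (G := G) p
  have hK : g ∈ chiefStab A := fun U V hc hUA u hu =>
    hne U V hc hUA (Subgroup.commutator_mem_commutator hu (Subgroup.mem_zpowers g))
  refine hg (Fitting.le_pCore (chiefStab_normal A) ?_ hK)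
  intro ⟨x, hx⟩
  obtain ⟨i, r, -, hr, hco, hpr⟩ := exists_pow_coprime_part (p := p) x
  refine ⟨i, Subtype.ext ?_⟩
  rw [Subgroup.coe_pow, Subgroup.coe_one]
  set y := x ^ p ^ i with hy
  have hAp : IsPGroup p A := (Fitting.pCore_isPGroup p).to_le hAT
  have hcent := centralizes_of_chiefStab hAp (Subgroup.pow_mem _ hx _) hco
  have hφ : (MulAut.conjNormal y : MulAut ↥(Cfsg.pCore p G)) = 1 := by
    refine hA5 _ (hco.coprime_dvd_left (orderOf_map_dvd MulAut.conjNormal y)) fun a ha => ?_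
    refine Subtype.ext ?_
    rw [MulAut.conjNormal_apply, hcent _ ha, mul_inv_cancel_right]
  have hyT : y ∈ Cfsg.pCore p G := hcons fun t ht => by
    have h1 := MulAut.conjNormal_apply (H := Cfsg.pCore p G) y ⟨t, ht⟩
    rw [hφ] at h1
    exact (eq_mul_inv_iff_mul_eq.mp h1)
  obtain ⟨j, hj⟩ := Fitting.pCore_isPGroup p ⟨y, hyT⟩
  exact orderOf_eq_one_iff.mp (Nat.eq_one_of_dvd_coprimes (hco.pow_right j) dvd_rfl
    (orderOf_dvd_of_pow_eq_one (by simpa using congrArg Subtype.val hj)))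

theorem commutator_sup_le_of_comm {U W₁ W₂ Γ X₁ X₂ : Subgroup G}
    (hab : ∀ a ∈ U, ∀ b ∈ U, a * b = b * a) (h₁ : W₁ ≤ U) (h₂ : W₂ ≤ U) (hΓU : ⁅W₂, Γ⁆ ≤ U)
    (hX₁ : ⁅W₁, Γ⁆ ≤ X₁) (hX₂ : ⁅W₂, Γ⁆ ≤ X₂) : ⁅W₁ ⊔ W₂, Γ⁆ ≤ X₁ ⊔ X₂ := by
  rw [Subgroup.commutator_le]
  intro x hx b hb
  obtain ⟨a, ha, c, hc, rfl⟩ := PStable.exists_mul_of_mem_sup (fun a ha =>
    Subgroup.mem_normalizer_iff.mpr fun m => by
      constructor
      · intro hm
        rw [hab a (h₁ ha) m (h₂ hm), mul_inv_cancel_right]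
        exact hm
      · intro hm
        have e : a⁻¹ * (a * m * a⁻¹) * a = m := by group
        rw [← e, mul_assoc, hab _ (h₂ hm) a (h₁ ha), inv_mul_cancel_left]
        exact hm) hx
  rw [show ⁅a * c, b⁆ = a * ⁅c, b⁆ * a⁻¹ * ⁅a, b⁆ by simp [commutatorElement_def, mul_assoc],
    hab a (h₁ ha) _ (hΓU (Subgroup.commutator_mem_commutator hc hb)), mul_inv_cancel_right]
  exact Subgroup.mul_mem _ (Subgroup.mem_sup_right (hX₂ (Subgroup.commutator_mem_commutator hc hb)))
    (Subgroup.mem_sup_left (hX₁ (Subgroup.commutator_mem_commutator ha hb)))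

section element

variable (S : Sylow p G) (A : Subgroup G)

/-- The element asserted to exist. -/
def GoodElt (g : G) : Prop :=
  g ∈ (S : Subgroup G) ∧ g ∉ Cfsg.pCore p G ∧
    Cfsg.iterCommutator A (Subgroup.zpowers g) 3 ≤ A ⊓ Subgroup.centralizer (A : Set G) ∧
    ⁅⁅A ⊓ Subgroup.centralizer (A : Set G), Subgroup.zpowers g⁆, Subgroup.zpowers g⁆ = ⊥ ∧
    (Subgroup.centralizer (Cfsg.pCore p G : Set G) ≤ Cfsg.pCore p G →
      ∃ U V : Subgroup G, Cfsg.IsChiefFactor U V ∧ U ≤ A ∧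
        ⁅⁅U, Subgroup.zpowers g⁆, Subgroup.zpowers g⁆ ≤ V ∧ ¬ ⁅U, Subgroup.zpowers g⁆ ≤ V)

variable [A.Normal] (hAT : A ≤ Cfsg.pCore p G)
  (hA2 : ⁅A, A⁆ ≤ Subgroup.centralizer (A : Set G))
  (hA3 : ⁅Cfsg.pCore p G, A⁆ ≤ A ⊓ Subgroup.centralizer (A : Set G))
  (hA5 : ∀ φ : MulAut ↥(Cfsg.pCore p G), (orderOf φ).Coprime p →
    (∀ a : ↥(Cfsg.pCore p G), (a : G) ∈ A → φ a = a) → φ = 1)
  (hno : ∀ g, ¬ GoodElt S A g)

include hAT hA5 hno in
theorem no_quadratic {g : G} (hgS : g ∈ (S : Subgroup G)) (hgT : g ∉ Cfsg.pCore p G)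
    (h₁ : ⁅⁅A, Subgroup.zpowers g⁆, Subgroup.zpowers g⁆ ≤ A ⊓ Subgroup.centralizer (A : Set G))
    (h₂ : ⁅⁅A ⊓ Subgroup.centralizer (A : Set G), Subgroup.zpowers g⁆, Subgroup.zpowers g⁆ = ⊥) :
    False := by
  refine hno g ⟨hgS, hgT, (Subgroup.commutator_mono h₁ le_rfl).trans (Subgroup.commutator_le_left _ _),
    h₂, fun hcons => ?_⟩
  obtain ⟨U, V, hc, hUA, hmove⟩ := exists_moved_chief hAT hA5 hcons hgT
  refine ⟨U, V, hc, hUA, ?_, hmove⟩
  haveI := hc.2.1
  haveI := hc.2.2.1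
  set Z := A ⊓ Subgroup.centralizer (A : Set G) with hZ
  have hle : ⁅⁅U, Subgroup.zpowers g⁆, Subgroup.zpowers g⁆ ≤ U ⊓ (Z ⊔ V) :=
    le_inf ((Subgroup.commutator_mono (Subgroup.commutator_le_left U _) le_rfl).trans
      (Subgroup.commutator_le_left U _)) (((Subgroup.commutator_mono (Subgroup.commutator_mono hUA
        le_rfl) le_rfl).trans h₁).trans le_sup_left)
  rcases hc.2.2.2 (U ⊓ (Z ⊔ V)) inferInstance (le_inf hc.1.le le_sup_right) inf_le_left with e | e
  · exact hle.trans e.le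
  · have h3 : Cfsg.iterCommutator U (Subgroup.zpowers g) 2 ≤
        Cfsg.iterCommutator Z (Subgroup.zpowers g) 2 ⊔ V :=
      (PStable.iterCommutator_mono (inf_eq_left.mp e) 2).trans (PStable.iterCommutator_sup_le V 2)
    rw [show Cfsg.iterCommutator Z (Subgroup.zpowers g) 2 = ⊥ from h₂, bot_sup_eq] at h3
    exact h3

include hAT hA2 hA3 hA5 hno in
theorem mem_lower {Q : Subgroup G} (hQS : Q ≤ (S : Subgroup G)) :
    A ∈ Cfsg.kLowerStarFamily Q := by
  refine ⟨hA2, fun q _ => by rw [Subgroup.normalizer_eq_top]; trivial, fun B hB hBQ hAB hABB hZBB => ?_⟩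
  by_cases hBT : B ≤ Cfsg.pCore p G
  · rw [Subgroup.commutator_comm]
    exact (Subgroup.commutator_mono hBT le_rfl).trans hA3
  obtain ⟨g, hgB, hgT⟩ := SetLike.not_le_iff_exists.mp hBT
  have hgB' : Subgroup.zpowers g ≤ B := Subgroup.zpowers_le.mpr hgB
  refine (no_quadratic S A hAT hA5 hno (hQS (hBQ hgB)) hgT ?_ ?_).elim
  · have h1 : ⁅⁅A, Subgroup.zpowers g⁆, Subgroup.zpowers g⁆ ≤ ⁅B, B⁆ :=
      Subgroup.commutator_mono ((Subgroup.commutator_mono le_rfl hgB').trans
        (Coprime.commutator_le_left_of_le_normalizer hAB |> fun h => (Subgroup.commutator_comm A B).le.trans h))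
        hgB'
    refine le_inf ((Subgroup.commutator_mono (Subgroup.commutator_le_left A _) le_rfl).trans
      (Subgroup.commutator_le_left A _)) (h1.trans ?_)
    rw [Subgroup.le_centralizer_iff]
    exact Subgroup.commutator_eq_bot_iff_le_centralizer.mp hABB
  · exact le_bot_iff.mp ((Subgroup.commutator_mono (Subgroup.commutator_mono le_rfl hgB') hgB').trans
      hZBB.le)

include hAT hA5 hno in
theorem upper_le {Q B : Subgroup G} (hBS : B ≤ (S : Subgroup G)) (hB : B ∈ Cfsg.kUpperStarFamily Q)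
    (hAQ : A ≤ Q) : B ≤ Cfsg.pCore p G := by
  intro g hgB
  by_contra hgT
  have hgB' : Subgroup.zpowers g ≤ B := Subgroup.zpowers_le.mpr hgB
  have h : ⁅⁅A, Subgroup.zpowers g⁆, Subgroup.zpowers g⁆ = ⊥ := by
    rw [Subgroup.commutator_eq_bot_iff_le_centralizer]
    refine le_trans ?_ (Subgroup.centralizer_le hgB')
    rw [Subgroup.commutator_comm]
    exact ((Subgroup.commutator_mono hgB' hAQ).trans hB.2).trans inf_le_right
  exact no_quadratic S A hAT hA5 hno (hBS hgB) hgT (h.le.trans bot_le)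
    (le_bot_iff.mp ((Subgroup.commutator_mono (Subgroup.commutator_mono inf_le_left le_rfl) le_rfl).trans
      h.le))

include hAT hA2 hA3 hA5 hno in
theorem lower_le {Q B : Subgroup G} (hBS : B ≤ (S : Subgroup G)) (hB : B ∈ Cfsg.kLowerStarFamily Q)
    (hAQ : A ≤ Q) : B ≤ Cfsg.pCore p G := by
  haveI hTn := Fitting.pCore_normal (G := G) p
  set T := Cfsg.pCore p G with hT
  set Z := A ⊓ Subgroup.centralizer (A : Set G) with hZ
  haveI hZn : Z.Normal := by rw [hZ]; infer_instance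
  obtain ⟨hB2, hQB, htest⟩ := hB
  have hAB : A ≤ Subgroup.normalizer (B : Set G) := hAQ.trans hQB
  have hZA : Z ≤ A := inf_le_left
  have hZZ : ⁅Z, Z⁆ = ⊥ := Subgroup.commutator_eq_bot_iff_le_centralizer.mpr
    (fun z hz w hw => hz.2 w (hZA hw))
  set ZB := B ⊓ Subgroup.centralizer (B : Set G) with hZB
  have hBZ : ⁅B, Z⁆ ≤ ZB := by
    refine htest Z (hZZ.le.trans bot_le) (hZA.trans hAQ)
      (by rw [Subgroup.normalizer_eq_top]; exact le_top)
      (by rw [hZZ, Subgroup.commutator_bot_right]) ?_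
    rw [eq_bot_iff, ← hZZ]
    exact Subgroup.commutator_mono (Subgroup.commutator_le_right _ Z) le_rfl
  -- the center of `B` lies in `T`
  have hZBT : ZB ≤ T := by
    intro h hh
    by_contra hhT
    have hh' : Subgroup.zpowers h ≤ ZB := Subgroup.zpowers_le.mpr hh
    have h1 : ⁅⁅A, Subgroup.zpowers h⁆, Subgroup.zpowers h⁆ = ⊥ := by
      rw [Subgroup.commutator_eq_bot_iff_le_centralizer]
      refine le_trans ?_ (Subgroup.centralizer_le (SetLike.coe_subset_coe.mpr (hh'.trans inf_le_left)))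
      refine le_trans ?_ (inf_le_right : ZB ≤ _)
      rw [Subgroup.commutator_comm]
      exact (Subgroup.commutator_mono hh' le_rfl).trans (Coprime.commutator_le_left_of_le_normalizer
        (hAB.trans (Coprime.le_normalizer_inf_of_le le_rfl (Coprime.le_normalizer_centralizer le_rfl))))
    exact no_quadratic S A hAT hA5 hno (hBS hh.1) hhT (h1.le.trans bot_le)
      (le_bot_iff.mp ((Subgroup.commutator_mono (Subgroup.commutator_mono hZA le_rfl) le_rfl).trans
        h1.le))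
  intro g hgB
  by_contra hgT
  have hAcomm : ⁅A, B⁆ ≤ B := by
    rw [Subgroup.commutator_comm]
    exact Coprime.commutator_le_left_of_le_normalizer hAB
  -- the elements of `B ∖ T` act cubically on `A` and quadratically on `Z`
  have hcube : ∀ h ∈ B, Cfsg.iterCommutator A (Subgroup.zpowers h) 3 ≤ Z ∧
      ⁅⁅Z, Subgroup.zpowers h⁆, Subgroup.zpowers h⁆ = ⊥ := by
    intro h hh
    have hh' : Subgroup.zpowers h ≤ B := Subgroup.zpowers_le.mpr hh
    constructor
    · refine le_trans ?_ (bot_le : ⊥ ≤ Z)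
      refine le_trans (Subgroup.commutator_mono (Subgroup.commutator_mono
        ((Subgroup.commutator_mono le_rfl hh').trans hAcomm) hh') hh') ?_
      rw [le_bot_iff, Subgroup.commutator_eq_bot_iff_le_centralizer]
      exact hB2
    · rw [Subgroup.commutator_eq_bot_iff_le_centralizer]
      refine le_trans ?_ (Subgroup.centralizer_le hh')
      rw [Subgroup.commutator_comm]
      exact ((Subgroup.commutator_mono hh' le_rfl).trans hBZ).trans inf_le_right
  refine hno g ⟨hBS hgB, hgT, (hcube g hgB).1, (hcube g hgB).2, fun hcons => ?_⟩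
  by_contra hquad
  push Not at hquad
  -- `B` stabilizes the chief factors inside `Z`, unless we are done
  by_cases hBZstab : B ≤ chiefStab Z
  swap
  · obtain ⟨h, hh, hhK⟩ := SetLike.not_le_iff_exists.mp hBZstab
    have hhT : h ∉ T := fun hhT => hhK fun U V hc hUZ u hu => by
      rw [← commutatorElement_inv]
      exact V.inv_mem (PStable.commutator_chief_le (Fitting.pCore_isPGroup p)
        ((hUZ.trans hZA).trans hAT) hc (Subgroup.commutator_mem_commutator hhT hu))
    refine hno h ⟨hBS hh, hhT, (hcube h hh).1, (hcube h hh).2, fun _ => ?_⟩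
    change ¬ ∀ U V : Subgroup G, Cfsg.IsChiefFactor U V → U ≤ Z → ∀ u ∈ U, ⁅u, h⁆ ∈ V at hhK
    push Not at hhK
    obtain ⟨U, V, hc, hUZ, u, hu, hbad⟩ := hhK
    exact ⟨U, V, hc, hUZ.trans hZA, ((Subgroup.commutator_mono (Subgroup.commutator_mono hUZ le_rfl)
      le_rfl).trans (hcube h hh).2.le).trans bot_le,
      fun h' => hbad (h' (Subgroup.commutator_mem_commutator hu (Subgroup.mem_zpowers h)))⟩
  -- so `g` acts quadratically on every chief factor inside `A`
  obtain ⟨U, V, hc, hUA, hmove⟩ := exists_moved_chief hAT hA5 hcons hgT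
  refine hmove (hquad U V hc hUA ?_)
  haveI hUn := hc.2.1
  haveI hVn := hc.2.2.1
  have hAA : ∀ a ∈ A, ∀ b ∈ A, ⁅a, b⁆ ∈ Z := fun a ha b hb =>
    ⟨Subgroup.commutator_le_self A (Subgroup.commutator_mem_commutator ha hb),
      hA2 (Subgroup.commutator_mem_commutator ha hb)⟩
  let Y : Subgroup G :=
    { carrier := {a | a ∈ U ∧ ∀ b ∈ U, ∀ β ∈ B, β * ⁅a, b⁆ = ⁅a, b⁆ * β}
      one_mem' := ⟨U.one_mem, fun b _ β _ => by rw [commutatorElement_one_left, mul_one, one_mul]⟩
      mul_mem' := fun {a c} ha hc' => ⟨U.mul_mem ha.1 hc'.1, fun b hb β hβ => by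
        rw [show ⁅a * c, b⁆ = a * ⁅c, b⁆ * a⁻¹ * ⁅a, b⁆ by simp [commutatorElement_def, mul_assoc],
          show a * ⁅c, b⁆ = ⁅c, b⁆ * a from (hAA c (hUA hc'.1) b (hUA hb)).2 a (hUA ha.1),
          mul_inv_cancel_right]
        exact Commute.mul_right (hc'.2 b hb β hβ) (ha.2 b hb β hβ)⟩
      inv_mem' := fun {a} ha => ⟨U.inv_mem ha.1, fun b hb β hβ => by
        have e : ⁅a⁻¹, b⁆ = ⁅a, b⁆⁻¹ := by
          have h1 := (hAA a (hUA ha.1) b (hUA hb)).2 a (hUA ha.1)
          rw [show ⁅a⁻¹, b⁆ = a⁻¹ * ⁅a, b⁆⁻¹ * a by simp [commutatorElement_def, mul_assoc]]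
          rw [mul_assoc, ← (show Commute a ⁅a, b⁆⁻¹ from Commute.inv_right h1).eq, ← mul_assoc,
            inv_mul_cancel, one_mul]
        rw [e]
        exact Commute.inv_right (ha.2 b hb β hβ)⟩ }
  have hYU : Y ≤ U := fun a ha => ha.1
  have hYA : Y ≤ A := hYU.trans hUA
  have hBY : B ≤ Subgroup.normalizer (Y : Set G) := by
    have h : ∀ β ∈ B, ∀ a ∈ Y, β * a * β⁻¹ ∈ Y := fun β hβ a ha =>
      ⟨hUn.conj_mem a ha.1 β, fun b hb γ hγ => by
        have hb' : β⁻¹ * b * β ∈ U := by simpa using hUn.conj_mem b hb β⁻¹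
        rw [show ⁅β * a * β⁻¹, b⁆ = β * ⁅a, β⁻¹ * b * β⁆ * β⁻¹ by
          simp [commutatorElement_def, mul_assoc], ha.2 _ hb' β hβ, mul_inv_cancel_right]
        exact ha.2 _ hb' γ hγ⟩
    intro β hβ
    refine Subgroup.mem_normalizer_iff.mpr fun a => ⟨h β hβ a, fun ha => ?_⟩
    simpa [mul_assoc] using h β⁻¹ (B.inv_mem hβ) _ ha
  have hBY' : ⁅B, Y⁆ ≤ ZB := by
    refine htest Y ?_ (hYA.trans hAQ) hBY ?_ ?_
    · exact ((Subgroup.commutator_mono hYA hYA).trans hA2).trans
        (Subgroup.centralizer_le (SetLike.coe_subset_coe.mpr hYA))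
    · rw [Subgroup.commutator_eq_bot_iff_le_centralizer, Subgroup.le_centralizer_iff,
        Subgroup.commutator_le]
      exact fun a ha b hb β hβ => ha.2 b hb.1 β hβ
    · rw [Subgroup.commutator_eq_bot_iff_le_centralizer]
      exact ((Subgroup.commutator_mono hZBT hYA).trans hA3).trans
        (inf_le_right.trans (Subgroup.centralizer_le (SetLike.coe_subset_coe.mpr hYA)))
  have hgB' : Subgroup.zpowers g ≤ B := Subgroup.zpowers_le.mpr hgB
  have hY2 : ⁅⁅Y, Subgroup.zpowers g⁆, Subgroup.zpowers g⁆ = ⊥ := by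
    rw [Subgroup.commutator_eq_bot_iff_le_centralizer]
    refine le_trans ?_ (Subgroup.centralizer_le (SetLike.coe_subset_coe.mpr hgB'))
    rw [Subgroup.commutator_comm]
    exact ((Subgroup.commutator_mono hgB' le_rfl).trans hBY').trans inf_le_right
  have hDY : ⁅⁅U, Subgroup.zpowers g⁆, Subgroup.zpowers g⁆ ≤ Y := by
    have h1 : ⁅⁅U, Subgroup.zpowers g⁆, Subgroup.zpowers g⁆ ≤ U ⊓ ⁅B, B⁆ :=
      le_inf ((Subgroup.commutator_mono (Subgroup.commutator_le_left U _) le_rfl).trans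
        (Subgroup.commutator_le_left U _))
        (Subgroup.commutator_mono ((Subgroup.commutator_mono hUA hgB').trans hAcomm) hgB')
    intro u hu
    refine ⟨(h1 hu).1, fun b hb β hβ => ?_⟩
    have hcu : ∀ β' ∈ B, β' * u = u * β' := fun β' hβ' => hB2 (h1 hu).2 β' hβ'
    set e := b⁻¹ * β * b * β⁻¹ with he
    have heB : e ∈ B := B.mul_mem
      ((Subgroup.mem_normalizer_iff''.mp (hAB (hUA hb)) β).mp hβ) (B.inv_mem hβ)
    have h2 : β * ⁅u, b⁆ * β⁻¹ = ⁅u, b⁆ := by
      rw [show β * ⁅u, b⁆ * β⁻¹ = ⁅β * u * β⁻¹, β * b * β⁻¹⁆ by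
        simp [commutatorElement_def, mul_assoc], hcu β hβ, mul_inv_cancel_right,
        show β * b * β⁻¹ = b * e by simp [he, mul_assoc],
        show ⁅u, b * e⁆ = ⁅u, b⁆ * (b * ⁅u, e⁆ * b⁻¹) by simp [commutatorElement_def, mul_assoc],
        commutatorElement_eq_one_iff_mul_comm.mpr (hcu e heB).symm]
      group
    exact mul_inv_eq_iff_eq_mul.mp h2
  -- complements
  set f := QuotientGroup.mk' V with hf
  have hfs : Function.Surjective f := QuotientGroup.mk'_surjective V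
  set Ub := U.map f with hUb
  haveI hUbn : Ub.Normal := hUn.map f hfs
  have hUT : U ≤ T := hUA.trans hAT
  have habU : ∀ a ∈ Ub, ∀ b ∈ Ub, a * b = b * a := by
    rintro _ ⟨a, ha, rfl⟩ _ ⟨b, hb, rfl⟩
    rw [← commutatorElement_eq_one_iff_mul_comm, ← map_commutatorElement, hf,
      QuotientGroup.mk'_apply, QuotientGroup.eq_one_iff]
    exact PStable.commutator_chief_le (Fitting.pCore_isPGroup p) hUT hc
      (Subgroup.commutator_mem_commutator (hUT ha) hb)
  have hminU : ∀ W : Subgroup (G ⧸ V), W ≤ Ub →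
      (⊤ : Subgroup (G ⧸ V)) ≤ Subgroup.normalizer (W : Set (G ⧸ V)) → W = ⊥ ∨ W = Ub := by
    intro W hW htop
    haveI : W.Normal := Subgroup.normalizer_eq_top_iff.mp (top_le_iff.mp htop)
    have hVW : V ≤ W.comap f := by rw [hf]; exact QuotientGroup.le_comap_mk' V W
    have hWU : W.comap f ≤ U := by
      refine (Subgroup.comap_mono hW).trans (le_of_eq ?_)
      rw [hUb, Subgroup.comap_map_eq, hf, QuotientGroup.ker_mk', sup_eq_left.mpr hc.1.le]
    rcases hc.2.2.2 (W.comap f) inferInstance hVW hWU with e | e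
    · left
      rw [← Subgroup.map_comap_eq_self_of_surjective hfs W, e, hf, QuotientGroup.map_mk'_self]
    · right
      rw [← Subgroup.map_comap_eq_self_of_surjective hfs W, e]
  set K₁ := Subgroup.normalClosure (B : Set G) with hK₁
  have hK₁Z : K₁ ≤ chiefStab Z := by
    haveI := chiefStab_normal Z
    exact Subgroup.normalClosure_le_normal hBZstab
  haveI hKbn : (K₁.map f).Normal := Subgroup.normalClosure_normal.map f hfs
  have hcK : PStable.ComplIn (K₁.map f) Ub :=
    (PStable.complIn_of_minimal (by rw [Subgroup.normalizer_eq_top]) hminU).of_normal habU le_top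
      (by rw [Subgroup.normalizer_eq_top]) (by rw [Subgroup.normalizer_eq_top])
  set H := K₁.map f ⊓ Subgroup.normalizer ((Y.map f : Subgroup (G ⧸ V)) : Set (G ⧸ V)) with hH
  have hnormU : ∀ x : G, x ∈ Subgroup.normalizer (U : Set G) := fun x => by
    rw [Subgroup.normalizer_eq_top]; trivial
  have hres : (Cfsg.pResidual p ↥(K₁.map f)).map (K₁.map f).subtype ≤ H := by
    rw [Subgroup.map_le_iff_le_comap, Cfsg.pResidual, Subgroup.closure_le]
    intro xb hxb
    refine ⟨xb.2, ?_⟩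
    obtain ⟨x, hx, hxe⟩ := xb.2
    obtain ⟨i, r, -, -, hco, -⟩ := exists_pow_coprime_part (p := p) x
    have hy : x ^ p ^ i ∈ Subgroup.normalizer (Y : Set G) := by
      have hcent := centralizes_of_chiefStab ((Fitting.pCore_isPGroup p).to_le (hZA.trans hAT))
        (hK₁Z (Subgroup.pow_mem _ hx (p ^ i))) hco
      set y := x ^ p ^ i with hy
      have h : ∀ a ∈ Y, ∀ z : G, (∀ w ∈ Z, z * w = w * z) → z * a * z⁻¹ ∈ Y := fun a ha z hz =>
        ⟨hUn.conj_mem a ha.1 z, fun b hb β hβ => by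
          have hb' : z⁻¹ * b * z ∈ U := by simpa using hUn.conj_mem b hb z⁻¹
          rw [show ⁅z * a * z⁻¹, b⁆ = z * ⁅a, z⁻¹ * b * z⁆ * z⁻¹ by
            simp [commutatorElement_def, mul_assoc],
            hz _ (hAA a (hUA ha.1) _ (hUA hb')), mul_inv_cancel_right]
          exact ha.2 _ hb' β hβ⟩
      refine Subgroup.mem_normalizer_iff.mpr fun a => ⟨fun ha => h a ha y hcent, fun ha => ?_⟩
      have := h _ ha y⁻¹ fun w hw => (Commute.inv_left (hcent w hw)).eq
      simpa [mul_assoc] using this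
    have h2 : (xb : G ⧸ V) ^ p ^ i ∈ Subgroup.normalizer ((Y.map f : Subgroup (G ⧸ V)) : Set (G ⧸ V)) := by
      rw [← hxe, ← map_pow]
      exact Subgroup.le_normalizer_map f (Subgroup.mem_map_of_mem f hy)
    have hxo : (orderOf (xb : G ⧸ V)).Coprime p := by
      rw [Subgroup.orderOf_coe]
      exact hxb
    obtain ⟨j, hj⟩ := exists_pow_eq_self_of_coprime (x := (xb : G ⧸ V)) (n := p ^ i)
      (hxo.pow_right i).symm
    show (xb : G ⧸ V) ∈ _
    rw [← hj]
    exact Subgroup.pow_mem _ h2 j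
  have hcH : PStable.ComplIn H Ub :=
    hcK.of_residual_le habU (by rw [Subgroup.normalizer_eq_top]; exact le_top) inf_le_left hres
  have hgH : f g ∈ H := ⟨Subgroup.mem_map_of_mem f (Subgroup.subset_normalClosure hgB),
    Subgroup.le_normalizer_map f (Subgroup.mem_map_of_mem f (hBY hgB))⟩
  obtain ⟨W, hWU, hHW, hsup, hinf⟩ := hcH (Y.map f) (Subgroup.map_mono hYU) inf_le_right
  set Γ := Subgroup.zpowers (f g) with hΓ
  have hΓW : Γ ≤ Subgroup.normalizer (W : Set (G ⧸ V)) := Subgroup.zpowers_le.mpr (hHW hgH)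
  have hWΓ : ⁅W, Γ⁆ ≤ W := Coprime.commutator_le_left_of_le_normalizer hΓW
  have hΓmap : (Subgroup.zpowers g).map f = Γ := MonoidHom.map_zpowers f g
  have hYΓ2 : ⁅⁅Y.map f, Γ⁆, Γ⁆ = ⊥ := by
    rw [← hΓmap, ← Subgroup.map_commutator, ← Subgroup.map_commutator, hY2, Subgroup.map_bot]
  have hWΓ2 : ⁅⁅W, Γ⁆, Γ⁆ = ⊥ := by
    rw [eq_bot_iff, ← hinf]
    refine le_inf ?_ ((Subgroup.commutator_mono hWΓ le_rfl).trans hWΓ)
    refine (Subgroup.commutator_mono (Subgroup.commutator_mono (hWU : W ≤ U.map f) le_rfl) le_rfl).trans ?_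
    rw [← hΓmap, ← Subgroup.map_commutator, ← Subgroup.map_commutator]
    exact Subgroup.map_mono hDY
  have hYΓ : ⁅Y.map f, Γ⁆ ≤ Ub := (Subgroup.commutator_mono (Subgroup.map_mono hYU) le_rfl).trans
    (Subgroup.commutator_le_left Ub _)
  have hfin : ⁅⁅Ub, Γ⁆, Γ⁆ = ⊥ := by
    have h1 : ⁅Ub, Γ⁆ ≤ ⁅Y.map f, Γ⁆ ⊔ ⁅W, Γ⁆ := by
      conv_lhs => rw [← hsup]
      exact commutator_sup_le_of_comm habU (Subgroup.map_mono hYU) hWU (hWΓ.trans hWU) le_rfl le_rfl
    have h2 : ⁅⁅Y.map f, Γ⁆ ⊔ ⁅W, Γ⁆, Γ⁆ ≤ ⊥ ⊔ ⊥ :=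
      commutator_sup_le_of_comm habU hYΓ (hWΓ.trans hWU)
        ((Subgroup.commutator_mono hWΓ le_rfl).trans (hWΓ.trans hWU)) hYΓ2.le hWΓ2.le
    rw [sup_bot_eq] at h2
    exact le_bot_iff.mp ((Subgroup.commutator_mono h1 le_rfl).trans h2)
  have h3 : (⁅⁅U, Subgroup.zpowers g⁆, Subgroup.zpowers g⁆).map f = ⊥ := by
    rw [Subgroup.map_commutator, Subgroup.map_commutator, hΓmap]
    exact hfin
  rw [Subgroup.map_eq_bot_iff, hf, QuotientGroup.ker_mk'] at h3
  exact h3

include hAT hA2 hA3 hA5 hno in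
theorem seq_le (n : ℕ) :
    A.subgroupOf (S : Subgroup G) ≤ Cfsg.kSeqOdd (S : Subgroup G) n ∧
    Cfsg.kSeqEven (S : Subgroup G) n ≤ (Cfsg.pCore p G).subgroupOf (S : Subgroup G) ∧
    Cfsg.kSeqOdd (S : Subgroup G) (n + 1) ≤ (Cfsg.pCore p G).subgroupOf (S : Subgroup G) := by
  haveI := Fitting.pCore_normal (G := G) p
  have hAS : A ≤ (S : Subgroup G) :=
    hAT.trans (IsPGroup.le_sylow_of_normal (Fitting.pCore_isPGroup p) S)
  set P := (S : Subgroup G) with hP
  have hinj : Function.Injective P.subtype := P.subtype_injective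
  have hA' : (A.subgroupOf P).map P.subtype = A := Subgroup.map_subgroupOf_eq_of_le hAS
  -- the lower family at a term containing `A`, then the upper one
  have hev : A.subgroupOf P ≤ Cfsg.kSeqOdd P n →
      Cfsg.kSeqEven P n ≤ (Cfsg.pCore p G).subgroupOf P := fun hA => by
    refine sSup_le fun B hB => Subgroup.map_le_iff_le_comap.mp ?_
    exact lower_le S A hAT hA2 hA3 hA5 hno (Subgroup.map_subtype_le _)
      ((map_lower_subset P.subtype hinj _ B).mpr hB) (hA' ▸ Subgroup.map_mono hA)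
  have hAev : ∀ m, A.subgroupOf P ≤ Cfsg.kSeqEven P m := fun m => le_sSup
    ((map_lower_subset P.subtype hinj _ _).mp (by
      rw [hA']; exact mem_lower S A hAT hA2 hA3 hA5 hno (Subgroup.map_subtype_le _)))
  have hodd : Cfsg.kSeqOdd P (n + 1) ≤ (Cfsg.pCore p G).subgroupOf P := by
    refine sSup_le fun B hB => Subgroup.map_le_iff_le_comap.mp ?_
    exact upper_le S A hAT hA5 hno (Subgroup.map_subtype_le _)
      ((map_upper_iff P.subtype hinj _ B).mpr hB) (hA' ▸ Subgroup.map_mono (hAev n))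
  induction n with
  | zero => exact ⟨le_top, hev le_top, hodd⟩
  | succ n ih =>
    have hev' : A.subgroupOf P ≤ Cfsg.kSeqOdd P n →
        Cfsg.kSeqEven P n ≤ (Cfsg.pCore p G).subgroupOf P := fun hA => by
      refine sSup_le fun B hB => Subgroup.map_le_iff_le_comap.mp ?_
      exact lower_le S A hAT hA2 hA3 hA5 hno (Subgroup.map_subtype_le _)
        ((map_lower_subset P.subtype hinj _ B).mpr hB) (hA' ▸ Subgroup.map_mono hA)
    have hodd' : Cfsg.kSeqOdd P (n + 1) ≤ (Cfsg.pCore p G).subgroupOf P := by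
      refine sSup_le fun B hB => Subgroup.map_le_iff_le_comap.mp ?_
      exact upper_le S A hAT hA5 hno (Subgroup.map_subtype_le _)
        ((map_upper_iff P.subtype hinj _ B).mpr hB) (hA' ▸ Subgroup.map_mono (hAev n))
    obtain ⟨h1, h2, -⟩ := ih hev' hodd'
    have hA1 : A.subgroupOf P ≤ Cfsg.kSeqOdd P (n + 1) := by
      refine le_sSup ((map_upper_iff P.subtype hinj _ _).mp ?_)
      rw [hA']
      refine ⟨hA2, le_trans (Subgroup.commutator_mono le_rfl ?_) ((Subgroup.commutator_comm A _).le.trans hA3)⟩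
      exact Subgroup.map_le_iff_le_comap.mpr h2
    exact ⟨hA1, hev hA1, hodd⟩

include hAT hA2 hA3 hA5 in
/-- A good element exists unless both K-infinity subgroups are normal. -/
theorem exists_goodElt
    (hK : ¬ (Cfsg.inducedFunctor Cfsg.kInfLower (S : Subgroup G)).Normal ∨
      ¬ (Cfsg.inducedFunctor Cfsg.kInfUpper (S : Subgroup G)).Normal) : ∃ g, GoodElt S A g := by
  by_contra hno
  push Not at hno
  haveI := Fitting.pCore_normal (G := G) p
  set T := Cfsg.pCore p G with hT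
  have hTS : T ≤ (S : Subgroup G) := IsPGroup.le_sylow_of_normal (Fitting.pCore_isPGroup p) S
  have hrange : (Subgroup.inclusion hTS).range = T.subgroupOf (S : Subgroup G) :=
    Subgroup.inclusion_range hTS
  have hseq := seq_le S A hAT hA2 hA3 hA5 hno
  obtain ⟨hlo, hup⟩ := kInf_subgroup (Subgroup.inclusion hTS) (Subgroup.inclusion_injective hTS)
    fun n => by rw [hrange]; exact ⟨(hseq n).2.1, (hseq n).2.2⟩
  have hcomp : (S : Subgroup G).subtype.comp (Subgroup.inclusion hTS) = T.subtype := rfl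
  have key : ∀ W : ∀ (Q : Type u) [Group Q], Subgroup Q, Cfsg.IsCharPFunctor.{u} p W →
      (W T).map (Subgroup.inclusion hTS) = W (S : Subgroup G) →
      (Cfsg.inducedFunctor W (S : Subgroup G)).Normal := by
    intro W hW he
    have e : Cfsg.inducedFunctor W (S : Subgroup G) = Cfsg.inducedFunctor W T := by
      show (W (S : Subgroup G)).map (S : Subgroup G).subtype = (W T).map T.subtype
      rw [← he, Subgroup.map_map, hcomp]
    rw [e, ← Subgroup.normalizer_eq_top_iff, ← top_le_iff, ← Subgroup.normalizer_eq_top T]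
    exact normalizer_le hW (Fitting.pCore_isPGroup p)
  rcases hK with h | h
  · exact h (key _ (isCharPFunctor_kInfLower p) hlo)
  · exact h (key _ (isCharPFunctor_kInfUpper p) hup)

end element

end CfsgLib.Conjugacy
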