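import Mathlib
import Cfsg.Prelude.Def_LocalEven
import Cfsg.Agent.Lib.Conjugacy.TransferSections
import Cfsg.Agent.Lib.Conjugacy.TransferAverage

/-!
A minimal failure of control of transfer has a unique maximal overgroup of a Sylow subgroup and no
Engel elements of degree `p - 1` on the chief factors inside `O_p`.
-/

set_option autoImplicit false
set_option linter.style.haveILetI false
set_option linter.unusedSectionVars false

open scoped commutatorElement

namespace CfsgLib.Conjugacy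

open CfsgLib.Transfer

universe u

variable {p : ℕ} [hp : Fact p.Prime] {𝓦 : Set (∀ (Q : Type u) [Group Q], Subgroup Q)}

theorem pow_mem_of_chief {G : Type*} [Group G] [Finite G] {P U V : Subgroup G} [P.Normal]
    (hP : IsPGroup p P) (hUP : U ≤ P) (hc : Cfsg.IsChiefFactor U V) {x : G} (hx : x ∈ U) :
    x ^ p ∈ V := by
  have hUV := PStable.commutator_chief_le hP hUP hc
  obtain ⟨hlt, hUn, hVn, hmin⟩ := hc
  haveI := hVn
  set f := QuotientGroup.mk' V with hf
  have hmem : ∀ y : G, y ∈ V ↔ f y = 1 := fun y => (QuotientGroup.eq_one_iff y).symm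
  have hcomm : ∀ a ∈ U, ∀ b ∈ U, Commute (f a) (f b) := fun a ha b hb => by
    rw [commute_iff_eq, ← commutatorElement_eq_one_iff_mul_comm, ← map_commutatorElement, ← hmem]
    exact hUV (Subgroup.commutator_mem_commutator (hUP ha) hb)
  let W : Subgroup G :=
    { carrier := {y | y ∈ U ∧ y ^ p ∈ V}
      one_mem' := ⟨U.one_mem, by rw [one_pow]; exact V.one_mem⟩
      mul_mem' := fun {a b} ha hb => ⟨U.mul_mem ha.1 hb.1, by
        rw [hmem, map_pow, map_mul, (hcomm a ha.1 b hb.1).mul_pow, ← map_pow, ← map_pow,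
          (hmem _).mp ha.2, (hmem _).mp hb.2, one_mul]⟩
      inv_mem' := fun {a} ha => ⟨U.inv_mem ha.1, by rw [inv_pow]; exact V.inv_mem ha.2⟩ }
  have hWn : W.Normal := ⟨fun a ha g => ⟨hUn.conj_mem a ha.1 g, by
    rw [conj_pow]; exact hVn.conj_mem _ ha.2 g⟩⟩
  have hVW : V ≤ W := fun v hv => ⟨hlt.le hv, V.pow_mem hv p⟩
  rcases hmin W hWn hVW (fun a ha => ha.1) with e | e
  · exfalso
    obtain ⟨y, hy, hyV⟩ := SetLike.exists_of_lt hlt
    obtain ⟨k, hk⟩ := hP ⟨y, hUP hy⟩
    have hk' : y ^ p ^ k = 1 := congrArg Subtype.val hk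
    have h : ∀ j, y ^ p ^ j ∈ V → False := by
      intro j
      induction j with
      | zero => intro h; exact hyV (by simpa using h)
      | succ j ih =>
        intro h
        refine ih (e.le ⟨U.pow_mem hy _, ?_⟩)
        rw [← pow_mul, ← pow_succ]
        exact h
    exact h k (by rw [hk']; exact V.one_mem)
  · exact (e.ge hx).2

section structure'

variable {G : Type u} [Group G] [Finite G] (h𝓦 : ∀ W ∈ 𝓦, Cfsg.IsCharPFunctor.{u} p W)
  (hne : 𝓦.Nonempty) (hIH : SmallerOk p 𝓦 G) (S : Sylow p G)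
  (hbad : ¬ ⁅Cfsg.pCore p G, (⊤ : Subgroup G)⁆ ≤ focalJoin 𝓦 (S : Subgroup G))

include h𝓦 hIH in
/-- Proper overgroups of `S` centralize `O_p` modulo `T₀`. -/
theorem commutator_mem_of_overgroup {H : Subgroup G} (hSH : (S : Subgroup G) ≤ H) (hH : H ≠ ⊤)
    {d h : G} (hd : d ∈ Cfsg.pCore p G) (hh : h ∈ H) :
    ⁅d, h⁆ ∈ focalJoin 𝓦 (S : Subgroup G) ⊓ Cfsg.pCore p G := by
  haveI := Fitting.pCore_normal (G := G) p
  have hDS : Cfsg.pCore p G ≤ (S : Subgroup G) :=
    IsPGroup.le_sylow_of_normal (Fitting.pCore_isPGroup p) S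
  have hdh : ⁅d, h⁆ ∈ Cfsg.pCore p G := Subgroup.commutator_le_left _ ⊤
    (Subgroup.commutator_mem_commutator hd (Subgroup.mem_top h))
  exact ⟨inf_commutator_le_sylow h𝓦 S hSH (hIH.1 H hH)
    ⟨hDS hdh, Subgroup.commutator_mem_commutator (hSH (hDS hd)) hh⟩, hdh⟩

include h𝓦 hIH in
theorem le_normalizer_of_overgroup {H : Subgroup G} (hSH : (S : Subgroup G) ≤ H) (hH : H ≠ ⊤) :
    H ≤ Subgroup.normalizer
      ((focalJoin 𝓦 (S : Subgroup G) ⊓ Cfsg.pCore p G : Subgroup G) : Set G) := by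
  set A := focalJoin 𝓦 (S : Subgroup G) ⊓ Cfsg.pCore p G with hA
  have h : ∀ g ∈ H, ∀ a ∈ A, g * a * g⁻¹ ∈ A := fun g hg a ha => by
    rw [show g * a * g⁻¹ = a * ⁅a⁻¹, g⁆ by simp [commutatorElement_def, mul_assoc]]
    exact A.mul_mem ha (commutator_mem_of_overgroup h𝓦 hIH S hSH hH (inv_mem ha.2) hg)
  intro g hg
  refine Subgroup.mem_normalizer_iff.mpr fun a => ⟨h g hg a, fun ha => ?_⟩
  simpa [mul_assoc] using h g⁻¹ (H.inv_mem hg) _ ha

include h𝓦 hne hIH hbad in
theorem normalizer_ne_top : Subgroup.normalizer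
    ((focalJoin 𝓦 (S : Subgroup G) ⊓ Cfsg.pCore p G : Subgroup G) : Set G) ≠ ⊤ := by
  intro htop
  haveI := Fitting.pCore_normal (G := G) p
  set D := Cfsg.pCore p G with hD
  have hDS : D ≤ (S : Subgroup G) := IsPGroup.le_sylow_of_normal (Fitting.pCore_isPGroup p) S
  set A := focalJoin 𝓦 (S : Subgroup G) ⊓ D with hA
  haveI hAn : A.Normal := Subgroup.normalizer_eq_top_iff.mp htop
  by_cases hSn : Subgroup.normalizer ((S : Subgroup G) : Set G) = ⊤
  · obtain ⟨W, hW⟩ := hne
    have hN : Subgroup.normalizer (Cfsg.inducedFunctor W (S : Subgroup G) : Set G) = ⊤ :=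
      top_le_iff.mp (hSn.ge.trans (normalizer_le (h𝓦 W hW) S.2))
    refine hbad (le_trans ?_ (le_focalJoin hW _))
    rw [hN]
    exact le_inf ((Subgroup.commutator_le_left D ⊤).trans hDS) (Subgroup.commutator_mono le_top le_rfl)
  set f := QuotientGroup.mk' A with hf
  haveI : (D.map f).Normal := Subgroup.Normal.map inferInstance f (QuotientGroup.mk'_surjective A)
  set C := (Subgroup.centralizer ((D.map f : Subgroup (G ⧸ A)) : Set (G ⧸ A))).comap f with hC
  haveI hCn : C.Normal := Subgroup.Normal.comap inferInstance f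
  have hN : Subgroup.normalizer ((S : Subgroup G) : Set G) ≤ C := by
    intro g hg
    rintro _ ⟨d, hd, rfl⟩
    rw [← commutatorElement_eq_one_iff_mul_comm, ← map_commutatorElement, hf,
      QuotientGroup.mk'_apply, QuotientGroup.eq_one_iff]
    exact commutator_mem_of_overgroup h𝓦 hIH S Subgroup.le_normalizer hSn hd hg
  have hSC : (S : Subgroup G) ≤ C := Subgroup.le_normalizer.trans hN
  have htopC : C = ⊤ := by
    have hfr := Sylow.normalizer_sup_eq_top (S.subtype hSC)
    rw [Sylow.coe_subtype, Subgroup.map_subgroupOf_eq_of_le hSC] at hfr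
    exact top_le_iff.mp (hfr.ge.trans (sup_le hN le_rfl))
  refine hbad ?_
  rw [Subgroup.commutator_le]
  intro d hd g _
  have hg : g ∈ C := htopC ▸ Subgroup.mem_top g
  have h1 := hg (f d) (Subgroup.mem_map_of_mem f hd)
  rw [← commutatorElement_eq_one_iff_mul_comm, ← map_commutatorElement, hf,
    QuotientGroup.mk'_apply, QuotientGroup.eq_one_iff] at h1
  exact h1.1

include h𝓦 hne hIH hbad in
/-- No Engel elements of degree `p - 1`. -/
theorem no_engel {u : G} (huS : u ∈ (S : Subgroup G)) (huD : u ∉ Cfsg.pCore p G)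
    (hu : ∀ U V : Subgroup G, Cfsg.IsChiefFactor U V → U ≤ Cfsg.pCore p G →
      Cfsg.iterCommutator U (Subgroup.zpowers u) (p - 1) ≤ V) : False := by
  classical
  haveI hDn := Fitting.pCore_normal (G := G) p
  set D := Cfsg.pCore p G with hD
  have hDp : IsPGroup p D := Fitting.pCore_isPGroup p
  have hDS : D ≤ (S : Subgroup G) := IsPGroup.le_sylow_of_normal hDp S
  set T := focalJoin 𝓦 (S : Subgroup G) with hT
  set A := T ⊓ D with hA
  set M := Subgroup.normalizer (A : Set G) with hM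
  have hMtop : M ≠ ⊤ := normalizer_ne_top h𝓦 hne hIH S hbad
  have hSS : ⁅(S : Subgroup G), (S : Subgroup G)⁆ ≤ T := derived_le_focalJoin h𝓦 hne S.2
  have hSM : (S : Subgroup G) ≤ M := fun s hs => Coprime.le_normalizer_inf_of_le
    (normalizer_le_focalJoin h𝓦 S.2) Subgroup.le_normalizer_of_normal (Subgroup.le_normalizer hs)
  -- the Engel elements
  set E : Set G := {e | e ∈ (S : Subgroup G) ∧ e ∉ D ∧ ∀ U V : Subgroup G,
    Cfsg.IsChiefFactor U V → U ≤ D → PStable.itc e U (p - 1) ≤ V} with hE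
  have hEconj : ∀ e ∈ E, ∀ y : G, y * e * y⁻¹ ∈ (S : Subgroup G) → y * e * y⁻¹ ∈ E := by
    rintro e ⟨-, heD, he⟩ y hy
    refine ⟨hy, fun h => heD ?_, fun U V hc hUD => ?_⟩
    · simpa [mul_assoc] using hDn.conj_mem _ h y⁻¹
    · haveI := hc.2.1
      haveI := hc.2.2.1
      have h1 := Subgroup.map_mono (f := (MulAut.conj y).toMonoidHom) (he U V hc hUD)
      rw [PStable.map_iterCommutator, MonoidHom.map_zpowers] at h1
      rw [show U.map (MulAut.conj y).toMonoidHom = U from cj_eq_of_mem_normalizer (by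
          rw [Subgroup.normalizer_eq_top]; trivial),
        show V.map (MulAut.conj y).toMonoidHom = V from cj_eq_of_mem_normalizer (by
          rw [Subgroup.normalizer_eq_top]; trivial)] at h1
      exact h1
  set J := Subgroup.closure E with hJ
  have hJS : J ≤ (S : Subgroup G) := (Subgroup.closure_le _).mpr fun e he => he.1
  have hSJ : (S : Subgroup G) ≤ Subgroup.normalizer (J : Set G) := by
    intro s hs
    refine Subgroup.mem_normalizer_iff_map_conj_eq.mpr (Subgroup.eq_of_le_of_card_ge ?_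
      (card_cj s J).ge)
    rw [hJ, MonoidHom.map_closure, Subgroup.closure_le]
    rintro _ ⟨e, he, rfl⟩
    exact Subgroup.subset_closure (hEconj e he s
      (Subgroup.mul_mem _ (Subgroup.mul_mem _ hs he.1) (Subgroup.inv_mem _ hs)))
  have hJtop : Subgroup.normalizer (J : Set G) ≠ ⊤ := fun e => huD
    (Fitting.le_pCore (Subgroup.normalizer_eq_top_iff.mp e) (S.2.to_le hJS)
      (Subgroup.subset_closure (show u ∈ E from ⟨huS, huD, hu⟩)))
  have hJM : Subgroup.normalizer (J : Set G) ≤ M := le_normalizer_of_overgroup h𝓦 hIH S hSJ hJtop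
  have hidx : ¬ p ∣ (S : Subgroup G).relIndex M := (S.subtype hSM).not_dvd_index
  have hfix : ∀ g : G, (∀ e ∈ E, g⁻¹ * e * g ∈ M) → g ∈ M := by
    intro g hg
    have hle : cj g⁻¹ J ≤ M := by
      rw [hJ, cj, MonoidHom.map_closure, Subgroup.closure_le]
      rintro _ ⟨e, he, rfl⟩
      simpa using hg e he
    obtain ⟨m, hm, hm'⟩ := exists_cj_le_of_relIndex hSM S.2 hidx hle ((S.2.to_le hJS).map _)
    rw [cj_cj] at hm'
    have h1 : m * g⁻¹ ∈ Subgroup.normalizer (J : Set G) := by
      refine Subgroup.mem_normalizer_iff_map_conj_eq.mpr (Subgroup.eq_of_le_of_card_ge ?_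
        (card_cj _ J).ge)
      rw [hJ, MonoidHom.map_closure, Subgroup.closure_le]
      rintro _ ⟨e, he, rfl⟩
      exact Subgroup.subset_closure (hEconj e he _ (hm' (conj_mem_cj (Subgroup.subset_closure he))))
    have h2 := M.mul_mem (M.inv_mem (hJM h1)) hm
    simpa [mul_assoc] using h2
  -- the homomorphism `D → S / T₀`
  haveI hTn : (T.subgroupOf (S : Subgroup G)).Normal :=
    Subgroup.normal_subgroupOf_of_le_normalizer
      (Subgroup.le_normalizer.trans (normalizer_le_focalJoin h𝓦 S.2))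
  letI : CommGroup ((S : Subgroup G) ⧸ T.subgroupOf (S : Subgroup G)) :=
    { (inferInstance : Group ((S : Subgroup G) ⧸ T.subgroupOf (S : Subgroup G))) with
      mul_comm := fun a b => by
        obtain ⟨a, rfl⟩ := QuotientGroup.mk_surjective a
        obtain ⟨b, rfl⟩ := QuotientGroup.mk_surjective b
        refine QuotientGroup.eq.mpr (hSS ?_)
        show (((a * b)⁻¹ * (b * a) : (S : Subgroup G)) : G) ∈ _
        have := Subgroup.commutator_mem_commutator (b⁻¹).2 (a⁻¹).2
        simpa [commutatorElement_def, mul_assoc] using this }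
  set φ : D →* (S : Subgroup G) ⧸ T.subgroupOf (S : Subgroup G) :=
    (QuotientGroup.mk' (T.subgroupOf (S : Subgroup G))).comp (Subgroup.inclusion hDS) with hφ
  have hφ1 : ∀ d : D, φ d = 1 ↔ (d : G) ∈ T := fun d =>
    QuotientGroup.eq_one_iff (N := T.subgroupOf (S : Subgroup G)) (Subgroup.inclusion hDS d)
  have hφeq : ∀ (g : G) (d : D), ⁅(d : G), g⁆ ∈ T →
      φ ((MulAut.conjNormal g : MulAut D) d) = φ d := by
    intro g d hd
    have hmem : (d : G) * g * (d : G)⁻¹ * g⁻¹ ∈ D :=
      Subgroup.commutator_le_left D ⊤ (Subgroup.commutator_mem_commutator d.2 (Subgroup.mem_top g))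
    have e : d = ⟨(d : G) * g * (d : G)⁻¹ * g⁻¹, hmem⟩ * (MulAut.conjNormal g : MulAut D) d :=
      Subtype.ext (by rw [Subgroup.coe_mul, MulAut.conjNormal_apply]; group)
    conv_rhs => rw [e, map_mul, (hφ1 ⟨(d : G) * g * (d : G)⁻¹ * g⁻¹, hmem⟩).mpr hd, one_mul]
  have hφM : ∀ m ∈ M, ∀ d : D, φ ((MulAut.conjNormal m : MulAut D) d) = φ d := fun m hm d =>
    hφeq m d (commutator_mem_of_overgroup h𝓦 hIH S hSM hMtop d.2 hm).1
  haveI := Fintype.ofFinite (G ⧸ M)
  set τ := avg M φ with hτ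
  have hτcomm : ∀ U : Subgroup G, U ≤ D → ∀ c : D, (c : G) ∈ ⁅U, (⊤ : Subgroup G)⁆ → τ c = 1 := by
    intro U hUD c hc
    have hle : ⁅U, (⊤ : Subgroup G)⁆ ≤ τ.ker.map D.subtype := by
      rw [Subgroup.commutator_le]
      intro a ha g _
      have hga : g * a⁻¹ * g⁻¹ ∈ D := hDn.conj_mem _ (D.inv_mem (hUD ha)) g
      refine ⟨⟨a, hUD ha⟩ * ⟨g * a⁻¹ * g⁻¹, hga⟩, ?_, by simp [commutatorElement_def, mul_assoc]⟩
      rw [SetLike.mem_coe, MonoidHom.mem_ker, map_mul,
        show (⟨g * a⁻¹ * g⁻¹, hga⟩ : D) = (MulAut.conjNormal g : MulAut D) ⟨a, hUD ha⟩⁻¹ from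
          Subtype.ext (by rw [MulAut.conjNormal_apply]; rfl),
        avg_conj hφM, map_inv, mul_inv_cancel]
    obtain ⟨c', hc', he⟩ := hle hc
    rw [← Subtype.ext he]
    exact hc'
  have hMcop : M.index.Coprime p := (hp.out.coprime_iff_not_dvd.mpr fun h =>
    S.not_dvd_index (h.trans (Subgroup.index_dvd_of_le hSM))).symm
  have hroot : ∀ d : D, φ d ^ M.index = 1 → φ d = 1 := fun d hd => by
    obtain ⟨k, hk⟩ := hDp d
    have h2 : φ d ^ p ^ k = 1 := by rw [← map_pow, hk, map_one]
    exact orderOf_eq_one_iff.mp (Nat.eq_one_of_dvd_coprimes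
      (hMcop.pow_right k) (orderOf_dvd_of_pow_eq_one hd) (orderOf_dvd_of_pow_eq_one h2))
  have hcentral : ∀ X : Subgroup G, X ≤ D → ⁅X, (⊤ : Subgroup G)⁆ ≤ T → ∀ c : D, (c : G) ∈ X →
      τ c = φ c ^ M.index := fun X _ hXT c hc =>
    avg_of_invariant hφM c fun g =>
      hφeq g c (hXT (Subgroup.commutator_mem_commutator hc (Subgroup.mem_top g)))
  -- all commutators lie in `T₀`
  have hall : ∀ (k : ℕ) (U : Subgroup G), U.Normal → U ≤ D → Nat.card U ≤ k →
      ⁅U, (⊤ : Subgroup G)⁆ ≤ T := by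
    intro k
    induction k with
    | zero => exact fun U _ _ h => absurd h (Nat.not_le.mpr Nat.card_pos)
    | succ k ih =>
      intro U hU hUD hk
      haveI := hU
      by_cases hperf : ⁅U, (⊤ : Subgroup G)⁆ = U
      swap
      · have hlt : ⁅U, (⊤ : Subgroup G)⁆ < U := lt_of_le_of_ne (Subgroup.commutator_le_left U ⊤) hperf
        have hsub := ih _ inferInstance (hlt.le.trans hUD) (by have := card_lt_card hlt; omega)
        intro c hc
        have hcD : c ∈ D := hUD (hlt.le hc)
        refine (hφ1 ⟨c, hcD⟩).mp (hroot _ ?_)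
        rw [← hcentral _ (hlt.le.trans hUD) hsub ⟨c, hcD⟩ hc]
        exact hτcomm U hUD _ hc
      rcases eq_or_ne U ⊥ with rfl | hU1
      · rw [Subgroup.commutator_bot_left]; exact bot_le
      obtain ⟨U', hc, hlt⟩ := PStable.exists_chief_below hU hU1
      haveI := hc.2.2.1
      have hU'D : U' ≤ D := hc.1.le.trans hUD
      have hsub := ih U' hc.2.2.1 hU'D (by omega)
      have hU'T : ∀ c : D, (c : G) ∈ U' → φ c = 1 := fun c hcU => hroot c (by
        rw [← hcentral U' hU'D hsub c hcU]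
        exact hτcomm U hUD c (by rw [hperf]; exact hc.1.le hcU))
      rw [hperf]
      intro x hx
      set d : D := ⟨x, hUD hx⟩ with hd
      refine (hφ1 d).mp ?_
      have h1 : τ d * (φ d)⁻¹ ∈ (⊥ : Subgroup ((S : Subgroup G) ⧸ T.subgroupOf (S : Subgroup G))) := by
        refine avg_mul_inv_mem hφM S.2 hSM (E := E) (fun e he => he.1) d (fun e he g => ?_) hfix
        rw [Subgroup.mem_bot]
        set e' := g⁻¹ * e⁻¹ * g with he'
        set d' : U := ⟨g⁻¹ * x * g, by simpa using hU.conj_mem x hx g⁻¹⟩ with hd'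
        have hψ := prod_conj_eq_one (p := p) (U := U) (φ.comp (Subgroup.inclusion hUD)) e'
          (fun v => ?_) (fun v hv => ?_) d'
        · rw [← hψ]
          refine Finset.prod_congr rfl fun i _ => ?_
          rw [MulAction.Quotient.smul_coe, smul_eq_mul, avgTerm_mk hφM]
          refine congrArg φ (Subtype.ext ?_)
          rw [MulAut.conjNormal_apply, Subgroup.coe_inclusion, MulAut.conjNormal_apply]
          have hpow : e' ^ i = g⁻¹ * (e ^ i)⁻¹ * g := by
            rw [he', show g⁻¹ * e⁻¹ * g = g⁻¹ * e⁻¹ * g⁻¹⁻¹ by rw [inv_inv], conj_pow, inv_inv, inv_pow]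
          rw [hpow]
          show (e ^ i * g)⁻¹ * x * (e ^ i * g)⁻¹⁻¹ = _
          rw [hd']
          group
        · rw [← map_pow]
          exact hU'T _ (by simpa using pow_mem_of_chief hDp hUD hc v.2)
        · refine hU'T _ ?_
          have h2 := Subgroup.map_mono (f := (MulAut.conj g⁻¹).toMonoidHom) (he.2.2 U U' hc hUD)
          rw [PStable.map_iterCommutator, MonoidHom.map_zpowers,
            show U.map (MulAut.conj g⁻¹).toMonoidHom = U from cj_eq_of_mem_normalizer (by
              rw [Subgroup.normalizer_eq_top]; trivial),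
            show U'.map (MulAut.conj g⁻¹).toMonoidHom = U' from cj_eq_of_mem_normalizer (by
              rw [Subgroup.normalizer_eq_top]; trivial)] at h2
          refine h2 ?_
          have he'' : (MulAut.conj g⁻¹).toMonoidHom e = e'⁻¹ := by
            rw [he']
            simp [mul_assoc]
          rw [he'', Subgroup.zpowers_inv]
          exact hv
      rw [Subgroup.mem_bot, hτcomm U hUD d (by rw [hperf]; exact hx), one_mul, inv_eq_one] at h1
      exact h1
  exact hbad (hall _ D inferInstance le_rfl le_rfl)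

end structure'

end CfsgLib.Conjugacy
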