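import Mathlib
import Cfsg.Prelude.Def_ConjugacyFunctors
import Cfsg.Agent.Lib.Conjugacy.WellPlaced
import Cfsg.Agent.Lib.Transfer.Focal
import Cfsg.Agent.Lib.PStable.Semisimple

/-!
A conjugacy functor above the centre together with a central functor: control of fusion and of
transfer reduces to the normalizers of subgroups between `Z(P)` and `P`.
-/

set_option autoImplicit false
set_option linter.style.haveILetI false
set_option linter.unusedSectionVars false

open scoped commutatorElement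

namespace CfsgLib.Conjugacy

open CfsgLib.Transfer

variable {G : Type*} [Group G]

/-- Properties of a relation "the map `g` on `P` is good". -/
structure StepRel (S : Subgroup G) (R : Subgroup G → G → Prop) : Prop where
  refl : ∀ P, P ≤ S → R P 1
  comp : ∀ P g h, R P g → R (cj g P) h → R P (h * g)
  congr : ∀ P g h, R P g → (∀ a ∈ P, g * a * g⁻¹ = h * a * h⁻¹) → R P h
  mono : ∀ P Q g, R P g → Q ≤ P → R Q g

theorem stepRel_ctl (S : Subgroup G) (Ns : Set (Subgroup G)) : StepRel S (Ctl S Ns) :=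
  ⟨fun _ h => .refl h, fun _ _ _ h₁ h₂ => h₁.comp h₂, fun _ _ _ h e => h.congr e,
    fun _ _ _ h hQ => h.mono hQ⟩

/-- All moves of members of `P` differ from them by members of `F`. -/
def Focal (F : Subgroup G) (P : Subgroup G) (g : G) : Prop :=
  ∀ a ∈ P, a⁻¹ * (g * a * g⁻¹) ∈ F

theorem stepRel_focal (S F : Subgroup G) : StepRel S (Focal F) := by
  refine ⟨fun P _ a _ => by simp, fun P g h hg hh a ha => ?_, fun P g h hg e a ha => e a ha ▸ hg a ha,
    fun P Q g hg hQ a ha => hg a (hQ ha)⟩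
  rw [show a⁻¹ * (h * g * a * (h * g)⁻¹) = a⁻¹ * (g * a * g⁻¹) *
    ((g * a * g⁻¹)⁻¹ * (h * (g * a * g⁻¹) * h⁻¹)) by group]
  exact F.mul_mem (hg a ha) (hh _ (conj_mem_cj ha))

variable [Finite G] {p : ℕ} [hp : Fact p.Prime] (S : Sylow p G) {W : Subgroup G → Subgroup G}
  {R : Subgroup G → G → Prop} (hR : StepRel (S : Subgroup G) R)

include hR in
theorem rel_of_famChain {k : ℕ}
    (h : ∀ U, Cfsg.IsWellPlaced p W (S : Subgroup G) U → k ≤ Nat.card U →
      ∀ x ∈ Subgroup.normalizer (U : Set G), R U x) :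
    ∀ (l : List (Subgroup G × G)) (P : Subgroup G),
      FamChain {U | Cfsg.IsWellPlaced p W (S : Subgroup G) U} P l → k ≤ Nat.card P →
      P ≤ (S : Subgroup G) → R P (l.map Prod.snd).prod⁻¹
  | [], P, _, _, hP => by simpa using hR.refl P hP
  | (U, x) :: l, P, hl, hk, hP => by
    have hU : k ≤ Nat.card U := hk.trans (Subgroup.card_le_of_le hl.2.2.1)
    have h1 : R P x⁻¹ := hR.mono U P _ (h U hl.1 hU x⁻¹ (Subgroup.inv_mem _ hl.2.1)) hl.2.2.1
    have hcard : k ≤ Nat.card ↥(cj x⁻¹ P) := by rwa [card_cj]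
    have hle : cj x⁻¹ P ≤ U := (cj_mono _ hl.2.2.1).trans
      (cj_eq_of_mem_normalizer (Subgroup.inv_mem _ hl.2.1)).le
    have h2 := rel_of_famChain h l _ hl.2.2.2 hcard (hle.trans hl.1.1)
    simpa [mul_inv_rev] using hR.comp P _ _ h1 h2

variable (hW : Cfsg.IsConjugacyFunctor p W)

include hR hW in
theorem rel_of_normalizers {k : ℕ}
    (h : ∀ U, Cfsg.IsWellPlaced p W (S : Subgroup G) U → k ≤ Nat.card U →
      ∀ x ∈ Subgroup.normalizer (U : Set G), R U x)
    {P : Subgroup G} {g : G} (hk : k ≤ Nat.card P) (hP : P ≤ (S : Subgroup G))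
    (hgP : cj g P ≤ (S : Subgroup G)) : R P g := by
  obtain ⟨l, hl, hprod⟩ := fam_of_fullyNorm (𝓕 := {U | Cfsg.IsWellPlaced p W (S : Subgroup G) U}) S
    (fun T hT => by
      obtain ⟨t, ht⟩ := exists_wellPlaced hW S hT
      exact ⟨_, ht, ⟨t, rfl⟩, ht.2 0⟩)
    (fun U hU => hU.1) (Nat.card (S : Subgroup G) + 1) P (by omega) g⁻¹ hP (by rwa [inv_inv])
  have h1 := rel_of_famChain S hR h l P hl hk hP
  rwa [hprod, inv_inv] at h1

include hR hW in
/-- Only well placed subgroups containing `Z(S)` matter. -/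
theorem rel_of_large
    (hloc : ∀ U, Cfsg.IsWellPlaced p W (S : Subgroup G) U →
      (S : Subgroup G) ⊓ Subgroup.centralizer ((S : Subgroup G) : Set G) ≤ U →
      ∀ x ∈ Subgroup.normalizer (U : Set G), R U x)
    {P : Subgroup G} {g : G} (hP : P ≤ (S : Subgroup G)) (hgP : cj g P ≤ (S : Subgroup G)) :
    R P g := by
  suffices ∀ (n : ℕ) U, Cfsg.IsWellPlaced p W (S : Subgroup G) U →
      Nat.card (S : Subgroup G) < Nat.card U + n → ∀ x ∈ Subgroup.normalizer (U : Set G), R U x from
    rel_of_normalizers S hR hW (k := 0)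
      (fun U hU _ => this (Nat.card (S : Subgroup G) + 1) U hU (by omega)) (Nat.zero_le _) hP hgP
  intro n
  induction n with
  | zero => exact fun U hU hlt => absurd hlt (by simpa using Subgroup.card_le_of_le hU.1)
  | succ n ih =>
    intro U hU hlt x hx
    by_cases hZ : (S : Subgroup G) ⊓ Subgroup.centralizer ((S : Subgroup G) : Set G) ≤ U
    · exact hloc U hU hZ x hx
    set N := Subgroup.normalizer (U : Set G) with hN
    set C := Subgroup.centralizer (U : Set G) with hC
    have hCN : C ≤ N := Subgroup.centralizer_le_normalizer _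
    set T := (S : Subgroup G) ⊓ C with hT
    -- `T` is Sylow in `C`
    haveI : (C.subgroupOf N).Normal := (Subgroup.normal_subgroupOf_iff_le_normalizer hCN).mpr (Coprime.le_normalizer_centralizer le_rfl)
    have hTidx : ¬ p ∣ T.relIndex C := by
      intro hd
      refine hU.2 0 ?_
      have h1 := relIndex_dvd_index_of_normal (((S : Subgroup G) ⊓ N).subgroupOf N) (C.subgroupOf N)
      rw [Subgroup.relIndex_subgroupOf hCN] at h1
      refine hd.trans ?_
      rw [show T.relIndex C = ((S : Subgroup G) ⊓ N).relIndex C by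
        rw [hT, Subgroup.inf_relIndex_right, ← Subgroup.inf_relIndex_right ((S : Subgroup G) ⊓ N),
          inf_assoc, inf_eq_right.mpr hCN, Subgroup.inf_relIndex_right]]
      exact h1
    have hTp : IsPGroup p T := S.2.to_le inf_le_left
    obtain ⟨c, hc, hcT⟩ := exists_cj_le_of_relIndex (inf_le_right : T ≤ C) hTp hTidx
      (Q := cj x T) (by
        rintro _ ⟨t, ht, rfl⟩
        intro u hu
        have hu' : x⁻¹ * u * x ∈ U := (Subgroup.mem_normalizer_iff''.mp hx u).mp hu
        show u * (x * t * x⁻¹) = x * t * x⁻¹ * u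
        calc u * (x * t * x⁻¹) = x * ((x⁻¹ * u * x) * t) * x⁻¹ := by group
          _ = x * (t * (x⁻¹ * u * x)) * x⁻¹ := by rw [ht.2 _ hu']
          _ = x * t * x⁻¹ * u := by group)
      (hTp.map _)
    set y := c * x with hy
    have hyT : cj y T = T := Subgroup.eq_of_le_of_card_ge
      ((cj_cj x c T).symm.le.trans hcT) (card_cj _ _).ge
    have hyU : cj y U = U := cj_eq_of_mem_normalizer (N.mul_mem (hCN hc) hx)
    set H := U ⊔ T with hH
    have hHS : H ≤ (S : Subgroup G) := sup_le hU.1 inf_le_left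
    have hyH : cj y H = H := by
      rw [hH, cj, Subgroup.map_sup]
      exact congrArg₂ _ hyU hyT
    have hUH : U < H := lt_of_le_of_ne le_sup_left fun e => hZ (by
      refine le_trans ?_ (le_sup_right.trans e.ge : T ≤ U)
      exact le_inf inf_le_left (inf_le_right.trans (Subgroup.centralizer_le hU.1)))
    have hcard : Nat.card U < Nat.card H := lt_of_le_of_ne (Subgroup.card_le_of_le hUH.le)
      fun e => hUH.ne (Subgroup.eq_of_le_of_card_ge hUH.le e.ge)
    have hyR : R H y := rel_of_normalizers S hR hW (k := Nat.card H)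
      (fun U' hU' hk => ih U' hU' (by omega)) le_rfl hHS (hyH.le.trans hHS)
    refine hR.congr U y x (hR.mono H U y hyR le_sup_left) fun a ha => ?_
    have hxa : x * a * x⁻¹ ∈ U := (Subgroup.mem_normalizer_iff.mp hx a).mp ha
    rw [hy, show c * x * a * (c * x)⁻¹ = c * (x * a * x⁻¹) * c⁻¹ by group, ← hc _ hxa,
      mul_inv_cancel_right]

section local'

variable {V : Subgroup G → Subgroup G} (hV : Cfsg.IsConjugacyFunctor p V)
  (hWZ : ∀ H : Subgroup G, IsPGroup p H → H ⊓ Subgroup.centralizer (H : Set G) ≤ W H)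
  (hVmono : ∀ H K : Subgroup G, IsPGroup p H → IsPGroup p K → H ≠ ⊥ → K ≠ ⊥ →
    H ⊓ Subgroup.centralizer (H : Set G) ≤ K ⊓ Subgroup.centralizer (K : Set G) → V H ≤ V K)
  (hdiv : p ∣ Nat.card G)

include hdiv in
theorem center_ne_bot_of_dvd :
    (S : Subgroup G) ⊓ Subgroup.centralizer ((S : Subgroup G) : Set G) ≠ ⊥ := by
  haveI : Nontrivial (S : Subgroup G) :=
    (Subgroup.nontrivial_iff_ne_bot _).mpr (S.ne_bot_of_dvd_card hdiv)
  haveI := S.2.center_nontrivial
  obtain ⟨z, hz⟩ := exists_ne (1 : Subgroup.center (S : Subgroup G))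
  intro e
  refine hz (Subtype.ext (Subtype.ext (Subgroup.mem_bot.mp (e.le ?_))))
  exact ⟨(z : (S : Subgroup G)).2, fun s hs =>
    congrArg Subtype.val (Subgroup.mem_center_iff.mp z.2 ⟨s, hs⟩)⟩

include hW hWZ hVmono hdiv in
/-- The descent along the tower: what happens at `U` is controlled at `S`. -/
theorem descend (Ψ : Subgroup G → Prop)
    (hstep : ∀ U : Subgroup G, Cfsg.IsWellPlaced p W (S : Subgroup G) U →
      (S : Subgroup G) ⊓ Subgroup.centralizer ((S : Subgroup G) : Set G) ≤ U →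
      Subgroup.centralizer (V ((S : Subgroup G) ⊓ Subgroup.normalizer (U : Set G)) : Set G) ≤
        Subgroup.centralizer (V (S : Subgroup G) : Set G) →
      ((S : Subgroup G) ⊓ Subgroup.normalizer (U : Set G) = (S : Subgroup G) ∨
        ((S : Subgroup G) ⊓ Subgroup.normalizer (U : Set G) ≤ (S : Subgroup G) ⊓
            Subgroup.normalizer (W ((S : Subgroup G) ⊓ Subgroup.normalizer (U : Set G)) : Set G) ∧
          Ψ (W ((S : Subgroup G) ⊓ Subgroup.normalizer (U : Set G))))) →
      Ψ U) :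
    ∀ U : Subgroup G, Cfsg.IsWellPlaced p W (S : Subgroup G) U →
      (S : Subgroup G) ⊓ Subgroup.centralizer ((S : Subgroup G) : Set G) ≤ U → Ψ U := by
  suffices ∀ (n : ℕ) (U : Subgroup G), Cfsg.IsWellPlaced p W (S : Subgroup G) U →
      (S : Subgroup G) ⊓ Subgroup.centralizer ((S : Subgroup G) : Set G) ≤ U →
      Nat.card (S : Subgroup G) <
        Nat.card ↥((S : Subgroup G) ⊓ Subgroup.normalizer (U : Set G)) + n → Ψ U from
    fun U hU hZ => this (Nat.card (S : Subgroup G) + 1) U hU hZ (by omega)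
  intro n
  induction n with
  | zero => exact fun U _ _ hlt => absurd hlt (by
      simpa using Subgroup.card_le_of_le (inf_le_left :
        (S : Subgroup G) ⊓ Subgroup.normalizer (U : Set G) ≤ S))
  | succ n ih =>
    intro U hU hZ hlt
    set Zs := (S : Subgroup G) ⊓ Subgroup.centralizer ((S : Subgroup G) : Set G) with hZs
    set M := (S : Subgroup G) ⊓ Subgroup.normalizer (U : Set G) with hMdef
    have hMp : IsPGroup p M := S.2.to_le inf_le_left
    have hZM : Zs ≤ M ⊓ Subgroup.centralizer (M : Set G) :=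
      le_inf (le_inf inf_le_left (hZ.trans Subgroup.le_normalizer))
        (inf_le_right.trans (Subgroup.centralizer_le inf_le_left))
    have hne := center_ne_bot_of_dvd S hdiv
    have hVle : V (S : Subgroup G) ≤ V M := hVmono _ _ S.2 hMp
      (fun e => hne (le_bot_iff.mp (inf_le_left.trans e.le)))
      (fun e => hne (le_bot_iff.mp (hZM.trans (inf_le_left.trans e.le)))) hZM
    refine hstep U hU hZ (Subgroup.centralizer_le hVle) ?_
    by_cases hMS : M = (S : Subgroup G)
    · exact Or.inl hMS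
    have hshift : ∀ i, Cfsg.functorTower W (S : Subgroup G) (W M) i =
        Cfsg.functorTower W (S : Subgroup G) U (i + 1) := by
      intro i
      induction i with
      | zero => rfl
      | succ i ih' =>
        show W _ = W _
        rw [ih']
    have hWM : Cfsg.IsWellPlaced p W (S : Subgroup G) (W M) :=
      ⟨(hW M hMp).1.trans inf_le_left, fun i => by rw [hshift i]; exact hU.2 (i + 1)⟩
    have hlt' : M < (S : Subgroup G) ⊓ Subgroup.normalizer (W M : Set G) := by
      refine lt_of_lt_of_le (lt_inf_normalizer S.2 (lt_of_le_of_ne inf_le_left hMS))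
        (inf_le_inf_left _ fun y hy => ?_)
      have h1 := (hW M hMp).2.2 y
      rw [show M.map (MulAut.conj y).toMonoidHom = M from cj_eq_of_mem_normalizer hy] at h1
      exact Subgroup.mem_normalizer_iff_map_conj_eq.mpr h1.symm
    have hc : Nat.card M < Nat.card ↥((S : Subgroup G) ⊓ Subgroup.normalizer (W M : Set G)) :=
      lt_of_le_of_ne (Subgroup.card_le_of_le hlt'.le)
        fun e => hlt'.ne (Subgroup.eq_of_le_of_card_ge hlt'.le e.ge)
    exact Or.inr ⟨hlt'.le, ih (W M) hWM (hZM.trans (hWZ M hMp)) (by omega)⟩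

/-- Conjugating a Sylow subgroup of `N(U)` onto `N_S(U)`. -/
theorem exists_conj_eq {U Q : Subgroup G} (hU : Cfsg.IsWellPlaced p W (S : Subgroup G) U)
    (hQN : Q ≤ Subgroup.normalizer (U : Set G)) (hQp : IsPGroup p Q)
    (hidx : ¬ p ∣ Q.relIndex (Subgroup.normalizer (U : Set G))) :
    ∃ m ∈ Subgroup.normalizer (U : Set G),
      cj m Q = (S : Subgroup G) ⊓ Subgroup.normalizer (U : Set G) := by
  set M := (S : Subgroup G) ⊓ Subgroup.normalizer (U : Set G) with hM
  have hMp : IsPGroup p M := S.2.to_le inf_le_left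
  obtain ⟨m, hm, hle⟩ := exists_cj_le_of_relIndex (inf_le_right : M ≤ _) hMp (hU.2 0) hQN hQp
  obtain ⟨m', -, hle'⟩ := exists_cj_le_of_relIndex hQN hQp hidx (inf_le_right : M ≤ _) hMp
  refine ⟨m, hm, Subgroup.eq_of_le_of_card_ge hle ?_⟩
  have h := Subgroup.card_le_of_le hle'
  rw [card_cj] at h ⊢
  exact h

/-- Conjugation carries the two local generators along. -/
theorem cj_normalizer_inf {m : G} {U Q : Subgroup G} {F : Subgroup G → Subgroup G}
    (hF : Cfsg.IsConjugacyFunctor p F) (hQ : IsPGroup p Q)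
    (hm : m ∈ Subgroup.normalizer (U : Set G)) :
    cj m (Subgroup.normalizer (U : Set G) ⊓ Subgroup.normalizer (F Q : Set G)) ≤
        Subgroup.normalizer (U : Set G) ⊓ Subgroup.normalizer (F (cj m Q) : Set G) ∧
      cj m (Subgroup.normalizer (U : Set G) ⊓ Subgroup.centralizer (F Q : Set G)) ≤
        Subgroup.normalizer (U : Set G) ⊓ Subgroup.centralizer (F (cj m Q) : Set G) := by
  have hN : cj m (Subgroup.normalizer (U : Set G)) ≤ Subgroup.normalizer (U : Set G) :=
    (cj_eq_of_mem_normalizer (Subgroup.le_normalizer hm)).le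
  have he : F (cj m Q) = cj m (F Q) := (hF Q hQ).2.2 m
  refine ⟨le_inf ((cj_mono m inf_le_left).trans hN) ?_, le_inf ((cj_mono m inf_le_left).trans hN) ?_⟩
  · rw [he]
    exact (cj_mono m inf_le_right).trans (Subgroup.le_normalizer_map _)
  · rw [he]
    rintro _ ⟨x, hx, rfl⟩ _ ⟨a, ha, rfl⟩
    rw [← map_mul, hx.2 a ha, map_mul]

include hW hV hWZ hVmono hdiv in
/-- Fusion. -/
theorem ctl_of_local
    (hloc : ∀ H : Subgroup G,
      (S : Subgroup G) ⊓ Subgroup.centralizer ((S : Subgroup G) : Set G) ≤ H → H ≤ (S : Subgroup G) →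
      ∃ Q : Subgroup G, Q ≤ Subgroup.normalizer (H : Set G) ∧ IsPGroup p Q ∧
        ¬ p ∣ Q.relIndex (Subgroup.normalizer (H : Set G)) ∧
        ∀ (P : Subgroup G) (g : G), P ≤ Q → g ∈ Subgroup.normalizer (H : Set G) → cj g P ≤ Q →
          Ctl Q {Subgroup.normalizer (H : Set G) ⊓ Subgroup.normalizer (W Q : Set G),
            Subgroup.normalizer (H : Set G) ⊓ Subgroup.centralizer (V Q : Set G)} P g)
    {P : Subgroup G} {g : G} (hP : P ≤ (S : Subgroup G)) (hgP : cj g P ≤ (S : Subgroup G)) :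
    Ctl (S : Subgroup G) {Subgroup.normalizer (W (S : Subgroup G) : Set G),
      Subgroup.centralizer (V (S : Subgroup G) : Set G)} P g := by
  set Ns : Set (Subgroup G) := {Subgroup.normalizer (W (S : Subgroup G) : Set G),
    Subgroup.centralizer (V (S : Subgroup G) : Set G)} with hNs
  refine rel_of_large S (stepRel_ctl _ Ns) hW (fun U hU hZ x hx => ?_) hP hgP
  refine descend S hW hWZ hVmono hdiv (V := V) (fun U => ∀ Q n, n ∈ Subgroup.normalizer (U : Set G) →
      Q ≤ (S : Subgroup G) ⊓ Subgroup.normalizer (U : Set G) →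
      cj n Q ≤ (S : Subgroup G) ⊓ Subgroup.normalizer (U : Set G) →
      Ctl (S : Subgroup G) Ns Q n) (fun U hU hZ hC hup Q n hn hQ hnQ => ?_) U hU hZ U x hx
    (le_inf hU.1 Subgroup.le_normalizer)
    ((cj_eq_of_mem_normalizer hx).le.trans (le_inf hU.1 Subgroup.le_normalizer))
  set N := Subgroup.normalizer (U : Set G) with hN
  set M := (S : Subgroup G) ⊓ N with hM
  obtain ⟨Q₀, hQ₀N, hQ₀p, hQ₀i, hctl⟩ := hloc U hZ hU.1
  obtain ⟨m, hm, hmM⟩ := exists_conj_eq S hU hQ₀N hQ₀p hQ₀i
  have hback : cj m⁻¹ M = Q₀ := by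
    show cj m⁻¹ ((S : Subgroup G) ⊓ Subgroup.normalizer (U : Set G)) = Q₀
    rw [← hmM, cj_cj, inv_mul_cancel, cj_one]
  have h0 := hctl (cj m⁻¹ Q) (m⁻¹ * n * m) ((cj_mono _ hQ).trans hback.le)
    (N.mul_mem (N.mul_mem (N.inv_mem hm) hn) hm) (by
      rw [cj_cj, show m⁻¹ * n * m * m⁻¹ = m⁻¹ * n by group, ← cj_cj]
      exact (cj_mono _ hnQ).trans hback.le)
  have h1 := h0.map (S' := M) (Ns' := {N ⊓ Subgroup.normalizer (W M : Set G),
    N ⊓ Subgroup.centralizer (V M : Set G)}) (MulAut.conj m).toMonoidHom hmM.le (by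
    rintro _ (rfl | rfl)
    · exact ⟨_, Or.inl rfl, (cj_normalizer_inf hW hQ₀p hm).1.trans (le_of_eq (by rw [hmM]))⟩
    · exact ⟨_, Or.inr rfl, (cj_normalizer_inf hV hQ₀p hm).2.trans (le_of_eq (by rw [hmM]))⟩)
  rw [show (cj m⁻¹ Q).map (MulAut.conj m).toMonoidHom = Q by
      show cj m (cj m⁻¹ Q) = Q
      rw [cj_cj, mul_inv_cancel, cj_one],
    show (MulAut.conj m).toMonoidHom (m⁻¹ * n * m) = n by simp [mul_assoc]] at h1
  refine h1.bind ?_ inf_le_left
  rintro _ (rfl | rfl) Q' n' hn' hQ' hnQ'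
  · rcases hup with e | ⟨hle, hrec⟩
    · exact .step _ (Or.inl rfl) (e ▸ hn'.2) (hQ'.trans inf_le_left) (hnQ'.trans inf_le_left)
    · exact hrec Q' n' hn'.2 (hQ'.trans hle) (hnQ'.trans hle)
  · exact .step _ (Or.inr rfl) (hC hn'.2) (hQ'.trans inf_le_left) (hnQ'.trans inf_le_left)

include hW hV hWZ hVmono hdiv in
/-- Transfer. -/
theorem focal_of_local (hVZ : ∀ H : Subgroup G, IsPGroup p H →
      V H ≤ H ⊓ Subgroup.centralizer (H : Set G))
    (hloc : ∀ H : Subgroup G,
      (S : Subgroup G) ⊓ Subgroup.centralizer ((S : Subgroup G) : Set G) ≤ H → H ≤ (S : Subgroup G) →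
      ∃ Q : Subgroup G, Q ≤ Subgroup.normalizer (H : Set G) ∧ IsPGroup p Q ∧
        ¬ p ∣ Q.relIndex (Subgroup.normalizer (H : Set G)) ∧
        Q ⊓ ⁅Subgroup.normalizer (H : Set G), Subgroup.normalizer (H : Set G)⁆ ≤
          (Q ⊓ ⁅Subgroup.normalizer (H : Set G) ⊓ Subgroup.normalizer (W Q : Set G),
              Subgroup.normalizer (H : Set G) ⊓ Subgroup.normalizer (W Q : Set G)⁆) ⊔
          (Q ⊓ ⁅Subgroup.normalizer (H : Set G) ⊓ Subgroup.centralizer (V Q : Set G),
              Subgroup.normalizer (H : Set G) ⊓ Subgroup.centralizer (V Q : Set G)⁆)) :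
    ∀ x : G, x ∈ (S : Subgroup G) ⊓ commutator G ↔
      ∃ a ∈ (S : Subgroup G) ⊓ ⁅Subgroup.normalizer (W (S : Subgroup G) : Set G),
          Subgroup.normalizer (W (S : Subgroup G) : Set G)⁆,
        ∃ b ∈ (S : Subgroup G) ⊓ ⁅Subgroup.centralizer (V (S : Subgroup G) : Set G),
            Subgroup.centralizer (V (S : Subgroup G) : Set G)⁆, x = a * b := by
  set NW := Subgroup.normalizer (W (S : Subgroup G) : Set G) with hNW
  set CV := Subgroup.centralizer (V (S : Subgroup G) : Set G) with hCV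
  set A := (S : Subgroup G) ⊓ ⁅NW, NW⁆ with hA
  set B := (S : Subgroup G) ⊓ ⁅CV, CV⁆ with hB
  set F := A ⊔ B with hF
  have hall : (S : Subgroup G) ⊓ commutator G ≤ F := by
    rw [inf_comm, Subgroup.commutator_inf_eq_focalSubgroup S, Subgroup.focalSubgroup_def,
      Subgroup.closure_le]
    rintro z ⟨hzS, x, hxS, u, rfl⟩
    have e : ⁅x, u⁆ = x⁻¹⁻¹ * (u * x⁻¹ * u⁻¹) := by rw [commutatorElement_def]; group
    have hux : u * x⁻¹ * u⁻¹ ∈ (S : Subgroup G) := by
      have h1 := (S : Subgroup G).mul_mem ((S : Subgroup G).inv_mem hxS) hzS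
      rwa [show x⁻¹ * ⁅x, u⁆ = u * x⁻¹ * u⁻¹ by rw [commutatorElement_def]; group] at h1
    rw [SetLike.mem_coe, e]
    refine rel_of_large S (stepRel_focal _ F) hW (fun U hU hZ n hn => ?_)
      (P := Subgroup.zpowers x⁻¹) (Subgroup.zpowers_le.mpr ((S : Subgroup G).inv_mem hxS))
      (by rw [cj, MonoidHom.map_zpowers, Subgroup.zpowers_le]; exact hux)
      x⁻¹ (Subgroup.mem_zpowers _)
    intro a ha
    refine descend S hW hWZ hVmono hdiv (V := V)
      (fun U => (S : Subgroup G) ⊓ Subgroup.normalizer (U : Set G) ⊓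
        ⁅Subgroup.normalizer (U : Set G), Subgroup.normalizer (U : Set G)⁆ ≤ F)
      (fun U hU hZ hC hup => ?_) U hU hZ ⟨?_, ?_⟩
    · set N := Subgroup.normalizer (U : Set G) with hN
      set M := (S : Subgroup G) ⊓ N with hM
      obtain ⟨Q, hQN, hQp, hQi, hle⟩ := hloc U hZ hU.1
      obtain ⟨m, hm, hmM⟩ := exists_conj_eq S hU hQN hQp hQi
      have h1 := cj_mono m hle
      have hinf : ∀ X Y : Subgroup G, (X ⊓ Y).map (MulAut.conj m).toMonoidHom =
          X.map (MulAut.conj m).toMonoidHom ⊓ Y.map (MulAut.conj m).toMonoidHom := fun X Y =>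
        Subgroup.map_inf X Y _ (MulAut.conj m).injective
      simp only [cj, hinf Q, Subgroup.map_sup, Subgroup.map_commutator] at h1
      rw [show Q.map (MulAut.conj m).toMonoidHom = M from hmM,
        show N.map (MulAut.conj m).toMonoidHom = N from
          cj_eq_of_mem_normalizer (Subgroup.le_normalizer hm)] at h1
      refine h1.trans (sup_le ?_ ?_)
      · have h2 := (cj_normalizer_inf hW hQp hm).1
        rw [show cj m Q = M from hmM] at h2
        refine (inf_le_inf_left _ (Subgroup.commutator_mono (h2.trans inf_le_right)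
          (h2.trans inf_le_right))).trans ?_
        rcases hup with e | ⟨hle', hrec⟩
        · rw [e]
          exact le_sup_left
        · exact (inf_le_inf_right _ hle').trans hrec
      · have h2 := (cj_normalizer_inf hV hQp hm).2
        rw [show cj m Q = M from hmM] at h2
        refine le_trans ?_ (le_sup_right : B ≤ F)
        exact inf_le_inf inf_le_left (Subgroup.commutator_mono ((h2.trans inf_le_right).trans hC)
          ((h2.trans inf_le_right).trans hC))
    · exact Subgroup.mul_mem _ ((Subgroup.inv_mem _ ⟨hU.1 ha, Subgroup.le_normalizer ha⟩))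
        ⟨hU.1 ((Subgroup.mem_normalizer_iff.mp hn a).mp ha),
          Subgroup.le_normalizer ((Subgroup.mem_normalizer_iff.mp hn a).mp ha)⟩
    · rw [show a⁻¹ * (n * a * n⁻¹) = ⁅a⁻¹, n⁆ by simp [commutatorElement_def, mul_assoc]]
      exact Subgroup.commutator_mem_commutator (Subgroup.le_normalizer (U.inv_mem ha)) hn
  have hle : F ≤ (S : Subgroup G) ⊓ commutator G :=
    sup_le (inf_le_inf_left _ (Subgroup.commutator_mono le_top le_top))
      (inf_le_inf_left _ (Subgroup.commutator_mono le_top le_top))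
  have hSCV : (S : Subgroup G) ≤ CV := by
    intro s hs v hv
    exact ((hVZ _ S.2 hv).2 s hs).symm
  have hnorm : A ≤ Subgroup.normalizer (B : Set G) := fun a ha =>
    Coprime.le_normalizer_inf_of_le Subgroup.le_normalizer
      (hSCV.trans (Subgroup.normalizer_commutator_ge_left CV CV)) ha.1
  intro x
  rw [le_antisymm hall hle]
  constructor
  · intro hx
    exact PStable.exists_mul_of_mem_sup hnorm hx
  · rintro ⟨a, ha, b, hb, rfl⟩
    exact Subgroup.mul_mem _ (Subgroup.mem_sup_left ha) (Subgroup.mem_sup_right hb)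

end local'

end CfsgLib.Conjugacy

namespace CfsgLib.Conjugacy

variable {G : Type*} [Group G]

theorem prod_take_ofFn {n : ℕ} (f : ℕ → G) (c : ℕ → G) (c0 : c 0 = 1)
    (hstep : ∀ i < n, (c i)⁻¹ * f i = (c (i + 1))⁻¹) :
    ∀ k ≤ n, ((List.ofFn fun i : Fin n => f i).take k).prod = (c k)⁻¹
  | 0, _ => by simp [c0]
  | k + 1, hk => by
    rw [List.prod_take_succ _ _ (by simp; omega), prod_take_ofFn f c c0 hstep k (by omega),
      List.getElem_ofFn]
    exact hstep k (by omega)

/-- A chain of right conjugations is a `Ctl` map. -/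
theorem ctl_of_list {Q : Subgroup G} {Gens : Set (Subgroup G)} {X : Set G} {a c : G} {n : ℕ}
    (b : Fin n → G) (hb : ∀ i, ∃ N ∈ Gens, b i ∈ N) (hc : c ∈ Subgroup.centralizer X)
    (ha : a = c * (List.ofFn b).prod)
    (hle : ∀ k : ℕ, k ≤ n → (fun x => (((List.ofFn b).take k).prod)⁻¹ * x *
      ((List.ofFn b).take k).prod) '' ((fun x => c⁻¹ * x * c) '' X) ⊆ Q) :
    Ctl Q Gens (Subgroup.closure X) a⁻¹ := by
  have hfix : ∀ x ∈ X, c⁻¹ * x * c = x := fun x hx => by
    rw [mul_assoc, hc x hx, inv_mul_cancel_left]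
  set pk : ℕ → G := fun k => ((List.ofFn b).take k).prod with hpk
  have h1 : Ctl Q Gens (Subgroup.closure X) ((fun k => (pk k)⁻¹) n) := by
    refine Ctl.of_chain n (fun k => (pk k)⁻¹) (by simp [hpk]) (fun i hi => ?_) fun i hi => ?_
    · obtain ⟨N, hN, hbN⟩ := hb ⟨i, hi⟩
      refine ⟨N, hN, ?_⟩
      show (pk (i + 1))⁻¹ * (pk i)⁻¹⁻¹ ∈ N
      rw [show pk (i + 1) = pk i * b ⟨i, hi⟩ by
        simp only [hpk]
        rw [List.prod_take_succ _ _ (by simpa using hi), List.getElem_ofFn], mul_inv_rev, inv_inv,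
        inv_mul_cancel_right]
      exact N.inv_mem hbN
    · rw [cj, MonoidHom.map_closure, Subgroup.closure_le]
      rintro _ ⟨x, hx, rfl⟩
      have h2 := hle i hi ⟨c⁻¹ * x * c, ⟨x, hx, rfl⟩, rfl⟩
      rw [hfix x hx] at h2
      show (pk i)⁻¹ * x * (pk i)⁻¹⁻¹ ∈ Q
      rw [inv_inv]
      exact h2
  refine h1.congr fun y hy => ?_
  have hlast : pk n = (List.ofFn b).prod := by
    simp only [hpk]
    rw [List.take_of_length_le (by simp)]
  have hcy : c * y = y * c := by
    have : Subgroup.closure X ≤ Subgroup.centralizer ({c} : Set G) := (Subgroup.closure_le _).mpr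
      fun x hx z hz => by obtain rfl : z = c := hz; exact (hc x hx).symm
    exact this hy c rfl
  show (pk n)⁻¹ * y * (pk n)⁻¹⁻¹ = a⁻¹ * y * a⁻¹⁻¹
  rw [ha, hlast, inv_inv, inv_inv]
  calc (List.ofFn b).prod⁻¹ * y * (List.ofFn b).prod
      = (List.ofFn b).prod⁻¹ * (c⁻¹ * (c * y)) * (List.ofFn b).prod := by group
    _ = (c * (List.ofFn b).prod)⁻¹ * y * (c * (List.ofFn b).prod) := by rw [hcy]; group

/-- A `Ctl` map as a chain of right conjugations. -/
theorem exists_list_of_ctl {Q : Subgroup G} {Gens : Set (Subgroup G)} {X : Set G} {a : G}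
    (h : Ctl Q Gens (Subgroup.closure X) a⁻¹) :
    ∃ c ∈ Subgroup.centralizer X, ∃ (n : ℕ) (b : Fin n → G), (∀ i, ∃ N ∈ Gens, b i ∈ N) ∧
      a = c * (List.ofFn b).prod ∧
      ∀ k : ℕ, k ≤ n → (fun x => (((List.ofFn b).take k).prod)⁻¹ * x *
        ((List.ofFn b).take k).prod) '' ((fun x => c⁻¹ * x * c) '' X) ⊆ Q := by
  obtain ⟨n, d, d0, ds, di, dl⟩ := h.exists_chain
  set f : ℕ → G := fun i => d i * (d (i + 1))⁻¹ with hf
  have hprod := prod_take_ofFn (n := n) f d d0 fun i _ => by simp [hf]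
  have hfull : (List.ofFn fun i : Fin n => f i).prod = (d n)⁻¹ := by
    have := hprod n le_rfl
    rwa [List.take_of_length_le (by simp)] at this
  have hc : a * d n ∈ Subgroup.centralizer X := fun x hx => by
    have h1 := dl x (Subgroup.subset_closure hx)
    rw [inv_inv] at h1
    calc x * (a * d n) = a * (a⁻¹ * x * a) * d n := by group
      _ = a * (d n * x * (d n)⁻¹) * d n := by rw [h1]
      _ = a * d n * x := by group
  refine ⟨_, hc, n, fun i => f i, fun i => ?_, by rw [hfull, mul_inv_cancel_right], fun k hk => ?_⟩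
  · obtain ⟨N, hN, hm⟩ := ds i i.2
    exact ⟨N, hN, by simpa [hf] using N.inv_mem hm⟩
  · rw [hprod k hk]
    rintro _ ⟨_, ⟨x, hx, rfl⟩, rfl⟩
    have h2 : (a * d n)⁻¹ * x * (a * d n) = x := by rw [mul_assoc, hc x hx, inv_mul_cancel_left]
    show (d k)⁻¹⁻¹ * ((a * d n)⁻¹ * x * (a * d n)) * (d k)⁻¹ ∈ Q
    rw [h2, inv_inv]
    exact di k hk (conj_mem_cj (Subgroup.subset_closure hx))

end CfsgLib.Conjugacy
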