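import Mathlib
import Cfsg.Prelude.Def_LocalEven
import Cfsg.Agent.Lib.ZJ.Centers
import Cfsg.Agent.Lib.Conjugacy.FusionSections

/-!
Factorizations of constrained sections by normalizers of functor values, and their effect on fusion.
-/

set_option autoImplicit false
set_option linter.style.haveILetI false
set_option linter.unusedSectionVars false

namespace CfsgLib.Conjugacy

open CfsgLib.Transfer

universe u

variable {p : ℕ} [hp : Fact p.Prime]

/-- Two functors whose normalizers factor every constrained section control strong fusion. -/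
theorem controlled_of_pair_factor {W₁ W₂ : ∀ (Q : Type u) [Group Q], Subgroup Q}
    (hW₁ : Cfsg.IsCharPFunctor.{u} p W₁) (hW₂ : Cfsg.IsCharPFunctor.{u} p W₂) {X : Type u} [Group X]
    [Finite X] (hfac : ∀ (T : Sylow p X) (x : X),
      ∃ a ∈ Subgroup.normalizer (Cfsg.inducedFunctor W₁ (T : Subgroup X) : Set X),
      ∃ b ∈ Subgroup.normalizer (Cfsg.inducedFunctor W₂ (T : Subgroup X) : Set X), x = a * b) :
    Controlled p {W₁, W₂} X := by
  intro S P g hP hgP
  obtain ⟨a, ha, b, hb, rfl⟩ := hfac S g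
  set N₁ := Subgroup.normalizer (Cfsg.inducedFunctor W₁ (S : Subgroup X) : Set X) with hN₁
  set N₂ := Subgroup.normalizer (Cfsg.inducedFunctor W₂ (S : Subgroup X) : Set X) with hN₂
  have h₁ : (S : Subgroup X) ≤ N₁ := Subgroup.le_normalizer.trans (normalizer_le hW₁ S.2)
  have h₂ : (S : Subgroup X) ≤ N₂ := Subgroup.le_normalizer.trans (normalizer_le hW₂ S.2)
  have hQ : cj b P ≤ N₁ ⊓ N₂ := by
    refine le_inf ?_ ?_
    · intro z hz
      have h : a * z * a⁻¹ ∈ (S : Subgroup X) := hgP (by rw [← cj_cj]; exact conj_mem_cj hz)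
      simpa [mul_assoc] using N₁.mul_mem (N₁.mul_mem (N₁.inv_mem ha) (h₁ h)) ha
    · rintro _ ⟨z, hz, rfl⟩
      exact N₂.mul_mem (N₂.mul_mem hb (h₂ (hP hz))) (N₂.inv_mem hb)
  obtain ⟨y, hy, hyQ⟩ := exists_cj_le S (le_inf h₁ h₂) hQ ((S.2.to_le hP).map _)
  rw [cj_cj] at hyQ
  have hs2 : Ctl (S : Subgroup X) (Ns {W₁, W₂} (S : Subgroup X)) P (y * b) :=
    Ctl.step N₂ ⟨W₂, Or.inr rfl, rfl⟩ (N₂.mul_mem hy.2 hb) hP hyQ
  refine hs2.trans' ?_
  rw [show a * b * (y * b)⁻¹ = a * y⁻¹ by group]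
  exact Ctl.step N₁ ⟨W₁, Or.inl rfl, rfl⟩ (N₁.mul_mem ha (N₁.inv_mem hy.1)) hyQ
    (by rw [cj_cj, show a * y⁻¹ * (y * b) = a * b by group]; exact hgP)

/-- `Ω₁(Z(S))`. -/
abbrev zO (p : ℕ) {G : Type*} [Group G] (S : Subgroup G) : Subgroup G :=
  Cfsg.omegaOne p (S ⊓ Subgroup.centralizer (S : Set G))

theorem zO_le {G : Type*} [Group G] (S : Subgroup G) : zO p S ≤ S :=
  (ZJ.omegaOne_le p _).trans inf_le_left

theorem zO_comm {G : Type*} [Group G] {S : Subgroup G} {z s : G} (hz : z ∈ zO p S) (hs : s ∈ S) :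
    s * z = z * s :=
  Subgroup.mem_centralizer_iff.mp (ZJ.omegaOne_le p _ hz).2 s hs

theorem zO_pow {G : Type*} [Group G] {S : Subgroup G} {z : G} (hz : z ∈ zO p S) : z ^ p = 1 := by
  induction hz using Subgroup.closure_induction with
  | mem x hx => exact hx.2
  | one => exact one_pow p
  | mul x y hx hy hx' hy' =>
    have hc : Commute x y := zO_comm hy (zO_le S hx)
    rw [hc.mul_pow, hx', hy', one_mul]
  | inv x _ hx' => rw [inv_pow, hx', inv_one]

theorem map_zO {G H : Type*} [Group G] [Group H] (f : G →* H) {S : Subgroup G}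
    (hf : Set.InjOn f (S : Set G)) : (zO p S).map f = zO p (S.map f) := by
  rw [zO, ZJ.map_omegaOne p f (hf.mono inf_le_left), map_centerOf f hf]

/-- `X = N(W(T)) C(Ω₁(Z(T)))`. -/
def Fac (p : ℕ) (W : ∀ (Q : Type u) [Group Q], Subgroup Q) (X : Type u) [Group X] : Prop :=
  ∀ (T : Sylow p X) (x : X),
    ∃ n ∈ Subgroup.normalizer (Cfsg.inducedFunctor W (T : Subgroup X) : Set X),
    ∃ c ∈ Subgroup.centralizer (zO p (T : Subgroup X) : Set X), x = n * c

variable {W : ∀ (Q : Type u) [Group Q], Subgroup Q}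

theorem fac_congr (hW : Cfsg.IsCharPFunctor.{u} p W) {X Y : Type u} [Group X] [Group Y] [Finite X]
    [Finite Y] (e : X ≃* Y) (hY : Fac p W Y) : Fac p W X := by
  intro T x
  let T' : Sylow p Y := T.mapSurjective (f := e.toMonoidHom) e.surjective
  have hT' : (T' : Subgroup Y) = (T : Subgroup X).map e.toMonoidHom := rfl
  have hback : (T' : Subgroup Y).map e.symm.toMonoidHom = (T : Subgroup X) := by
    rw [hT', Subgroup.map_map, show e.symm.toMonoidHom.comp e.toMonoidHom = MonoidHom.id X from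
      MonoidHom.ext e.symm_apply_apply, Subgroup.map_id]
  obtain ⟨n, hn, c, hc, he⟩ := hY T' (e x)
  refine ⟨e.symm n, ?_, e.symm c, ?_, by rw [← map_mul, ← he, e.symm_apply_apply]⟩
  · rw [← hback, ← map hW e.symm.toMonoidHom T'.2 e.symm.injective.injOn]
    exact Subgroup.le_normalizer_map _ (Subgroup.mem_map_of_mem _ hn)
  · rw [← hback, ← map_zO e.symm.toMonoidHom e.symm.injective.injOn]
    rintro _ ⟨z, hz, rfl⟩
    exact ((map_mul e.symm z c).symm.trans (congrArg e.symm (hc z hz))).trans (map_mul e.symm c z)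

theorem exists_mul_aux (hW : Cfsg.IsCharPFunctor.{u} p W) {G₀ : Type u} [Group G₀]
    (hloc : ∀ (X : Type u) [Group X] [Finite X], Sect G₀ X →
      Subgroup.centralizer (Cfsg.pCore p X : Set X) ≤ Cfsg.pCore p X → Fac p W X) (k : ℕ) :
    ∀ (G : Type u) [Group G] [Finite G], Nat.card G = k → Sect G₀ G → ∀ S : Sylow p G,
      zO p (S : Subgroup G) ≤ Cfsg.pCore p G → ∀ x : G,
      ∃ n ∈ Subgroup.normalizer (Cfsg.inducedFunctor W (S : Subgroup G) : Set G),
      ∃ c ∈ Subgroup.centralizer (zO p (S : Subgroup G) : Set G), x = n * c := by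
  induction k using Nat.strong_induction_on with
  | _ k IH =>
  intro G _ _ hk hsec S hZD x
  set Z := zO p (S : Subgroup G) with hZ
  set D := Cfsg.pCore p G with hDdef
  haveI hDn : D.Normal := Fitting.pCore_normal p
  have hDp : IsPGroup p D := Fitting.pCore_isPGroup p
  have hDS : D ≤ (S : Subgroup G) := IsPGroup.le_sylow_of_normal hDp S
  set C := Subgroup.centralizer (D : Set G) with hC
  have hCZ : C ≤ Subgroup.centralizer (Z : Set G) := Subgroup.centralizer_le hZD
  by_cases hcore : (S : Subgroup G) ⊓ C ≤ D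
  · haveI := pPrimeCore_normal p G
    set O := Cfsg.pPrimeCore p G with hO
    set f := QuotientGroup.mk' O with hf
    have hfs : Function.Surjective f := QuotientGroup.mk'_surjective O
    have hker : (Nat.card f.ker).Coprime p := by
      rw [hf, QuotientGroup.ker_mk']; exact pPrimeCore_coprime p
    have hinj : Set.InjOn f ((S : Subgroup G) : Set G) := fun a ha b hb h =>
      inv_mul_eq_one.mp (PSolvable.eq_one_of_mem_of_mem S.2 hker (mul_mem (inv_mem ha) hb)
        (by rw [MonoidHom.mem_ker, map_mul, map_inv, h, inv_mul_cancel]))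
    obtain ⟨n, hn, c, hc, he⟩ :=
      hloc (G ⧸ O) (hsec.quotient f hfs) (constrained_quotient S hcore) (S.mapSurjective hfs) (f x)
    rw [Sylow.coe_mapSurjective, ← map hW f S.2 hinj,
      ← PSolvable.map_normalizer_eq hfs hker (S.2.to_le (le hW _))] at hn
    rw [Sylow.coe_mapSurjective, ← map_zO f hinj,
      ← PSolvable.map_centralizer_eq hfs hker (S.2.to_le (zO_le _))] at hc
    obtain ⟨n, hn, rfl⟩ := hn
    obtain ⟨c, hc, rfl⟩ := hc
    have ho : (n * c)⁻¹ * x ∈ O := by
      rw [← QuotientGroup.eq_one_iff, ← QuotientGroup.mk'_apply, ← hf, map_mul, map_inv, he,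
        map_mul, inv_mul_cancel]
    have hOC : O ≤ Subgroup.centralizer (Z : Set G) := by
      refine le_trans ?_ hCZ
      intro o ho d hd
      have hdisj : Disjoint D O := disjoint_iff.mpr (Coprime.inf_eq_bot_of_coprime_card
        (PSolvable.coprime_card_of_isPGroup hDp (pPrimeCore_coprime p)))
      exact Subgroup.commute_of_normal_of_disjoint D O hDn inferInstance hdisj d o hd ho
    exact ⟨n, hn, c * ((n * c)⁻¹ * x), Subgroup.mul_mem _ hc (hOC ho), by group⟩
  · haveI hCn : C.Normal := by rw [hC]; infer_instance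
    set L := C ⊔ D with hL
    haveI hLn : L.Normal := by rw [hL]; infer_instance
    have hLZ : L ≤ Subgroup.centralizer (Z : Set G) :=
      sup_le hCZ fun d hd z hz => (zO_comm hz (hDS hd)).symm
    set D' := (S : Subgroup G) ⊓ L with hD'
    set N := Subgroup.normalizer (D' : Set G) with hN
    have hNtop : N ≠ ⊤ := fun e => hcore
      ((le_inf inf_le_left (inf_le_right.trans le_sup_left) : (S : Subgroup G) ⊓ C ≤ D').trans
        (Fitting.le_pCore (Subgroup.normalizer_eq_top_iff.mp e) (S.2.to_le inf_le_left)))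
    have hS' : IsPGroup p ((S : Subgroup G).subgroupOf L) :=
      S.2.comap_of_injective L.subtype L.subtype_injective
    let PL : Sylow p L := IsPGroup.toSylow hS'
      fun h => S.not_dvd_index (h.trans (relIndex_dvd_index_of_normal (S : Subgroup G) L))
    have hfr := Sylow.normalizer_sup_eq_top PL
    rw [show (PL : Subgroup L).map L.subtype = D' from
      Subgroup.subgroupOf_map_subtype (S : Subgroup G) L] at hfr
    obtain ⟨n', hn', l, hl, rfl⟩ := Subgroup.mem_sup_of_normal_right.mp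
      (show x ∈ N ⊔ L from hfr.ge (Subgroup.mem_top x))
    have hSN : (S : Subgroup G) ≤ N :=
      Subgroup.le_normalizer.trans (fun s hs => Coprime.le_normalizer_inf_of_le le_rfl
        (Subgroup.le_normalizer_of_normal) hs)
    set T : Sylow p N := S.subtype hSN with hT
    have hTS : (T : Subgroup N).map N.subtype = (S : Subgroup G) := by
      rw [hT, Sylow.coe_subtype, Subgroup.map_subgroupOf_eq_of_le hSN]
    have hzT : (zO p (T : Subgroup N)).map N.subtype = Z := by
      rw [map_zO N.subtype N.subtype_injective.injOn, hTS]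
    have hcoreT : zO p (T : Subgroup N) ≤ Cfsg.pCore p N :=
      le_trans (fun z hz => hZD (hzT ▸ Subgroup.mem_map_of_mem _ hz))
        (Fitting.le_pCore (Subgroup.Normal.comap hDn N.subtype)
          (hDp.comap_of_injective N.subtype N.subtype_injective))
    obtain ⟨n, hn, c, hc, he⟩ := IH (Nat.card N)
      (hk ▸ lt_of_le_of_ne (Subgroup.card_le_card_group N)
        (fun h => hNtop (Subgroup.eq_top_of_card_eq N h)))
      N rfl (hsec.subgroup N) T hcoreT ⟨n', hn'⟩
    refine ⟨(n : G), ?_, (c : G) * l, Subgroup.mul_mem _ ?_ (hLZ hl), ?_⟩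
    · rw [← hTS, ← map hW N.subtype T.2 N.subtype_injective.injOn]
      exact Subgroup.le_normalizer_map _ (Subgroup.mem_map_of_mem _ hn)
    · rw [← hzT]
      rintro _ ⟨z, hz, rfl⟩
      exact congrArg Subtype.val (hc z hz)
    · rw [← mul_assoc]
      exact congrArg (· * l) (congrArg Subtype.val he)

/-- In a subgroup `H ≥ S` with `Ω₁Z(S) ≤ O_p(H)`. -/
theorem exists_mul_of_le (hW : Cfsg.IsCharPFunctor.{u} p W) {G : Type u} [Group G] [Finite G]
    (hloc : ∀ (X : Type u) [Group X] [Finite X], Sect G X →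
      Subgroup.centralizer (Cfsg.pCore p X : Set X) ≤ Cfsg.pCore p X → Fac p W X) (S : Sylow p G)
    {V : Subgroup G} (hVp : IsPGroup p V) (hZV : zO p (S : Subgroup G) ≤ V)
    (hSV : (S : Subgroup G) ≤ Subgroup.normalizer (V : Set G)) {x : G}
    (hx : x ∈ Subgroup.normalizer (V : Set G)) :
    ∃ n ∈ Subgroup.normalizer (Cfsg.inducedFunctor W (S : Subgroup G) : Set G),
      cj x (zO p (S : Subgroup G)) = cj n (zO p (S : Subgroup G)) := by
  set H := Subgroup.normalizer (V : Set G) with hH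
  set T : Sylow p H := S.subtype hSV with hT
  have hTS : (T : Subgroup H).map H.subtype = (S : Subgroup G) := by
    rw [hT, Sylow.coe_subtype, Subgroup.map_subgroupOf_eq_of_le hSV]
  have hzT : (zO p (T : Subgroup H)).map H.subtype = zO p (S : Subgroup G) := by
    rw [map_zO H.subtype H.subtype_injective.injOn, hTS]
  obtain ⟨n, hn, c, hc, he⟩ := exists_mul_aux hW hloc _ H rfl ((Sect.refl G).subgroup H) T
    (le_trans (fun z hz => hZV (hzT ▸ Subgroup.mem_map_of_mem _ hz))
      (Fitting.le_pCore Subgroup.normal_in_normalizer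
        (hVp.comap_of_injective H.subtype H.subtype_injective))) ⟨x, hx⟩
  refine ⟨(n : G), ?_, ?_⟩
  · rw [← hTS, ← map hW H.subtype T.2 H.subtype_injective.injOn]
    exact Subgroup.le_normalizer_map _ (Subgroup.mem_map_of_mem _ hn)
  · rw [show x = (n : G) * (c : G) from congrArg Subtype.val he, ← cj_cj]
    congr 1
    apply cj_eq_of_mem_normalizer
    refine Subgroup.centralizer_le_normalizer _ ?_
    rw [← hzT]
    rintro _ ⟨z, hz, rfl⟩
    exact congrArg Subtype.val (hc z hz)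

/-- The normal closure of `Z` in `N`, inside the whole group. -/
abbrev ncl {G : Type*} [Group G] (N Z : Subgroup G) : Subgroup G :=
  (Subgroup.normalClosure ((Z.subgroupOf N : Subgroup N) : Set N)).map N.subtype

theorem cj_le_ncl {G : Type*} [Group G] {N Z : Subgroup G} (hZ : Z ≤ N) {n : G} (hn : n ∈ N) :
    cj n Z ≤ ncl N Z := by
  rintro _ ⟨z, hz, rfl⟩
  exact ⟨⟨n, hn⟩ * ⟨z, hZ hz⟩ * ⟨n, hn⟩⁻¹, Subgroup.normalClosure_normal.conj_mem _
    (Subgroup.subset_normalClosure (show (⟨z, hZ hz⟩ : N) ∈ ((Z.subgroupOf N : Subgroup N) : Set N) from hz)) _, rfl⟩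

theorem ncl_le {G : Type*} [Group G] {N Z B : Subgroup G} (h : ∀ n ∈ N, cj n Z ≤ B) :
    ncl N Z ≤ B := by
  rw [ncl, Subgroup.map_le_iff_le_comap, Subgroup.normalClosure, Subgroup.closure_le]
  intro y hy
  obtain ⟨a, ha, hay⟩ := Group.mem_conjugatesOfSet_iff.mp hy
  obtain ⟨c, rfl⟩ := isConj_iff.mp hay
  exact h c c.2 (conj_mem_cj ha)

theorem le_normalizer_ncl {G : Type*} [Group G] (N Z : Subgroup G) :
    N ≤ Subgroup.normalizer (ncl N Z : Set G) := by
  intro n hn
  refine Subgroup.le_normalizer_map N.subtype ⟨⟨n, hn⟩, ?_, rfl⟩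
  rw [Subgroup.normalizer_eq_top (H := Subgroup.normalClosure ((Z.subgroupOf N : Subgroup N) : Set N))]
  trivial

theorem ncl_le_ncl {W₁ W₂ : ∀ (Q : Type u) [Group Q], Subgroup Q}
    (hW₁ : Cfsg.IsCharPFunctor.{u} p W₁) (hW₂ : Cfsg.IsCharPFunctor.{u} p W₂) {G : Type u} [Group G]
    [Finite G] (hloc : ∀ (X : Type u) [Group X] [Finite X], Sect G X →
      Subgroup.centralizer (Cfsg.pCore p X : Set X) ≤ Cfsg.pCore p X → Fac p W₁ X) (S : Sylow p G)
    (hZ : zO p (S : Subgroup G) ≤ Cfsg.inducedFunctor W₂ (S : Subgroup G)) :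
    ncl (Subgroup.normalizer (Cfsg.inducedFunctor W₂ (S : Subgroup G) : Set G)) (zO p (S : Subgroup G)) ≤
      ncl (Subgroup.normalizer (Cfsg.inducedFunctor W₁ (S : Subgroup G) : Set G)) (zO p (S : Subgroup G)) := by
  refine ncl_le fun x hx => ?_
  obtain ⟨n, hn, e⟩ := exists_mul_of_le hW₁ hloc S (S.2.to_le (le hW₂ _)) hZ
    (Subgroup.le_normalizer.trans (normalizer_le hW₂ S.2)) hx
  rw [e]
  exact cj_le_ncl ((zO_le _).trans (Subgroup.le_normalizer.trans (normalizer_le hW₁ S.2))) hn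

/-- The normal closure of `Ω₁Z(S)` in `N(W₁(S))` is abelian, strongly closed and controls fusion. -/
theorem triple_factorization {W₁ W₂ : ∀ (Q : Type u) [Group Q], Subgroup Q}
    (hW₁ : Cfsg.IsCharPFunctor.{u} p W₁) (hW₂ : Cfsg.IsCharPFunctor.{u} p W₂) {G : Type u} [Group G]
    [Finite G]
    (hl₁ : ∀ (X : Type u) [Group X] [Finite X], Sect G X →
      Subgroup.centralizer (Cfsg.pCore p X : Set X) ≤ Cfsg.pCore p X → Fac p W₁ X)
    (hl₂ : ∀ (X : Type u) [Group X] [Finite X], Sect G X →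
      Subgroup.centralizer (Cfsg.pCore p X : Set X) ≤ Cfsg.pCore p X → Fac p W₂ X)
    (hctl : Controlled p {W₁, W₂} G) (S : Sylow p G)
    (hZ : zO p (S : Subgroup G) ≤
      Cfsg.inducedFunctor W₁ (S : Subgroup G) ⊓ Cfsg.inducedFunctor W₂ (S : Subgroup G))
    (A : Subgroup G) (hA : A = ncl (Subgroup.normalizer (Cfsg.inducedFunctor W₁ (S : Subgroup G) : Set G))
      (zO p (S : Subgroup G))) :
    A ≤ (S : Subgroup G) ∧ Cfsg.IsElementaryAbelian p A ∧ Cfsg.IsStronglyClosed A (S : Subgroup G) ∧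
      Cfsg.ControlsStrongFusion p A := by
  set Z := zO p (S : Subgroup G) with hZdef
  set N₁ := Subgroup.normalizer (Cfsg.inducedFunctor W₁ (S : Subgroup G) : Set G) with hN₁
  have hAS : A ≤ (S : Subgroup G) := by
    rw [hA]
    refine ncl_le fun n hn => ?_
    exact ((cj_mono n (hZ.trans inf_le_left)).trans (cj_eq_of_mem_normalizer hn).le).trans (le hW₁ _)
  have hN₁A : N₁ ≤ Subgroup.normalizer (A : Set G) := hA ▸ le_normalizer_ncl _ _
  have hcomm : A ≤ Subgroup.centralizer (A : Set G) := by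
    conv_lhs => rw [hA]
    refine ncl_le fun n hn => ?_
    rintro _ ⟨z, hz, rfl⟩ a ha
    have h1 : n⁻¹ * a * n ∈ (S : Subgroup G) :=
      hAS ((Subgroup.mem_normalizer_iff''.mp (hN₁A hn) a).mp ha)
    have h2 := zO_comm hz h1
    simp only [MulEquiv.coe_toMonoidHom, MulAut.conj_apply]
    calc a * (n * z * n⁻¹) = n * (n⁻¹ * a * n * z) * n⁻¹ := by group
      _ = n * z * n⁻¹ * a := by rw [h2]; group
  have hexp : ∀ a ∈ A, a ^ p = 1 := by
    let B : Subgroup G :=
      { carrier := {x | x ∈ A ∧ x ^ p = 1}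
        one_mem' := ⟨A.one_mem, one_pow p⟩
        mul_mem' := fun {x y} hx hy => ⟨A.mul_mem hx.1 hy.1, by
          rw [(show Commute x y from hcomm hy.1 x hx.1).mul_pow, hx.2, hy.2, one_mul]⟩
        inv_mem' := fun {x} hx => ⟨A.inv_mem hx.1, by rw [inv_pow, hx.2, inv_one]⟩ }
    intro a ha
    have hAB : A ≤ B := by
      conv_lhs => rw [hA]
      refine ncl_le fun n hn => ?_
      rintro _ ⟨z, hz, rfl⟩
      refine ⟨hA ▸ cj_le_ncl ((zO_le _).trans (Subgroup.le_normalizer.trans (normalizer_le hW₁ S.2)))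
        hn (Subgroup.mem_map_of_mem _ hz), ?_⟩
      rw [← map_pow, zO_pow hz, map_one]
    exact (hAB ha).2
  have hA₂ : A = ncl (Subgroup.normalizer (Cfsg.inducedFunctor W₂ (S : Subgroup G) : Set G)) Z :=
    hA.trans (le_antisymm (ncl_le_ncl hW₂ hW₁ hl₂ S (hZ.trans inf_le_left))
      (ncl_le_ncl hW₁ hW₂ hl₁ S (hZ.trans inf_le_right)))
  have hNs : ∀ M ∈ Ns {W₁, W₂} (S : Subgroup G), M ≤ Subgroup.normalizer (A : Set G) := by
    rintro _ ⟨V, hV, rfl⟩
    rcases hV with rfl | hV
    · exact hN₁A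
    · obtain rfl : V = W₂ := hV
      exact hA₂ ▸ le_normalizer_ncl _ _
  refine ⟨hAS, ⟨⟨⟨fun a b => Subtype.ext (hcomm b.2 a a.2)⟩⟩, hexp⟩, ⟨hAS, fun a ha g hg => ?_⟩,
    controlsStrongFusion_of_controlled hctl S hAS hNs⟩
  obtain ⟨x, hx, hxa⟩ := exists_mem_of_ctl hNs (hctl S (Subgroup.zpowers a) g
    (Subgroup.zpowers_le.mpr (hAS ha))
    (by rw [cj, MonoidHom.map_zpowers]; exact Subgroup.zpowers_le.mpr hg))
  rw [hxa a (Subgroup.mem_zpowers a)]
  exact (Subgroup.mem_normalizer_iff.mp hx a).mp ha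

end CfsgLib.Conjugacy
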