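import Mathlib
import Cfsg.Agent.Lib.Conjugacy.FusionSections
import Cfsg.Agent.Lib.Transfer.Thompson

/-!
A functor controlling transfer in all sections gives a subgroup of index `p` when the Sylow
normalizer induces a `p`-group on the Sylow subgroup.
-/

set_option autoImplicit false
set_option linter.style.haveILetI false
set_option linter.unusedSectionVars false

namespace CfsgLib.Conjugacy

open CfsgLib.Transfer
open scoped commutatorElement

universe u

variable {p : ℕ} [hp : Fact p.Prime]

theorem exists_normal_index_eq {G : Type*} [Group G] [Finite G] (S : Sylow p G)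
    (h : ¬ (S : Subgroup G) ≤ commutator G) : ∃ N : Subgroup G, N.Normal ∧ N.index = p := by
  obtain ⟨s, hs, hs'⟩ := SetLike.not_le_iff_exists.mp h
  set Q := Abelianization G with hQ
  set q : G →* Q := Abelianization.of with hq
  set m := ordCompl[p] (Nat.card Q) with hm
  set f : G →* Q := (powMonoidHom m).comp q with hf
  have hfp : IsPGroup p f.range := by
    intro ⟨x, y, hy⟩
    refine ⟨(Nat.card Q).factorization p, Subtype.ext ?_⟩
    subst hy
    rw [Subgroup.coe_pow, Subgroup.coe_one]
    show ((q y) ^ m) ^ p ^ _ = 1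
    rw [← pow_mul, hm, mul_comm, Nat.ordProj_mul_ordCompl_eq_self, pow_card_eq_one']
  have hne : f.rangeRestrict ≠ 1 := by
    intro e
    have h1 : (q s) ^ m = 1 := by
      have := congrArg (fun φ : G →* f.range => (φ s : Q)) e
      simpa [hf] using this
    obtain ⟨k, hk⟩ := S.2 ⟨s, hs⟩
    have h2 : (q s) ^ p ^ k = 1 := by
      rw [← map_pow, show s ^ p ^ k = 1 from congrArg Subtype.val hk, map_one]
    have hco : (p ^ k).Coprime m := (Nat.coprime_ordCompl hp.out Nat.card_pos.ne').pow_left k
    have : q s = 1 := by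
      rw [← orderOf_eq_one_iff]
      exact Nat.eq_one_of_dvd_coprimes hco (orderOf_dvd_of_pow_eq_one h2) (orderOf_dvd_of_pow_eq_one h1)
    exact hs' (by rwa [← Abelianization.ker_of, MonoidHom.mem_ker])
  haveI : Finite f.range := Finite.of_surjective _ f.rangeRestrict_surjective
  obtain ⟨k, hk⟩ := hfp.exists_card_eq
  rcases Nat.eq_zero_or_pos k with rfl | hk0
  · refine absurd (MonoidHom.ext fun x => ?_) hne
    rw [pow_zero, Nat.card_eq_one_iff_unique] at hk
    exact hk.1.elim _ _
  obtain ⟨M, hM⟩ := Sylow.exists_subgroup_card_pow_prime p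
    (show p ^ (k - 1) ∣ Nat.card f.range from hk ▸ pow_dvd_pow p (Nat.sub_le k 1))
  haveI : IsMulCommutative f.range := ⟨⟨fun a b => Subtype.ext (mul_comm (a : Q) (b : Q))⟩⟩
  refine ⟨M.comap f.rangeRestrict, Subgroup.Normal.comap ⟨fun n hn g => ?_⟩ _, ?_⟩
  · rw [show g * n * g⁻¹ = n from Subtype.ext (by
      show (g : Q) * (n : Q) * (g : Q)⁻¹ = (n : Q)
      rw [mul_comm (g : Q), mul_inv_cancel_right])]
    exact hn
  · rw [Subgroup.index_comap_of_surjective _ f.rangeRestrict_surjective]
    have h := M.card_mul_index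
    rw [hM, hk, show k = k - 1 + 1 by omega, pow_succ, Nat.add_sub_cancel] at h
    exact Nat.eq_of_mul_eq_mul_left (pow_pos hp.out.pos _) h

/-- Transfer is controlled at some Sylow subgroup. -/
def TransferCtrl (p : ℕ) (W : ∀ (Q : Type u) [Group Q], Subgroup Q) (X : Type u) [Group X] : Prop :=
  ∃ T : Sylow p X, (T : Subgroup X) ⊓ commutator X ≤
    ⁅Subgroup.normalizer (Cfsg.inducedFunctor W (T : Subgroup X) : Set X),
      Subgroup.normalizer (Cfsg.inducedFunctor W (T : Subgroup X) : Set X)⁆

variable {W : ∀ (Q : Type u) [Group Q], Subgroup Q}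

theorem transferCtrl_congr (hW : Cfsg.IsCharPFunctor.{u} p W) {X Y : Type u} [Group X] [Group Y]
    [Finite X] [Finite Y] (e : X ≃* Y) (hX : TransferCtrl p W X) : TransferCtrl p W Y := by
  obtain ⟨T, hT⟩ := hX
  refine ⟨T.mapSurjective (f := e.toMonoidHom) e.surjective, ?_⟩
  rw [show ((T.mapSurjective (f := e.toMonoidHom) e.surjective : Sylow p Y) : Subgroup Y) =
    (T : Subgroup X).map e.toMonoidHom from rfl, ← map hW e.toMonoidHom T.2 e.injective.injOn]
  rintro y ⟨⟨t, ht, rfl⟩, hy⟩
  have ht' : t ∈ commutator X := by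
    have h1 : ((commutator X).map e.toMonoidHom) = commutator Y := by
      rw [commutator_def, commutator_def, Subgroup.map_commutator,
        Subgroup.map_top_of_surjective _ e.surjective]
    rw [← h1] at hy
    exact (Subgroup.mem_map_iff_mem e.injective).mp hy
  have h2 : e.toMonoidHom t ∈ (⁅Subgroup.normalizer (Cfsg.inducedFunctor W (T : Subgroup X) : Set X),
      Subgroup.normalizer (Cfsg.inducedFunctor W (T : Subgroup X) : Set X)⁆).map e.toMonoidHom :=
    Subgroup.mem_map_of_mem _ (hT ⟨ht, ht'⟩)
  rw [Subgroup.map_commutator] at h2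
  exact Subgroup.commutator_mono (Subgroup.le_normalizer_map _) (Subgroup.le_normalizer_map _) h2

/-- `p'`-elements of the Sylow normalizer centralize the Sylow subgroup. -/
def PAut (p : ℕ) {G : Type*} [Group G] (S : Subgroup G) : Prop :=
  ∀ g ∈ Subgroup.normalizer (S : Set G), (orderOf g).Coprime p → g ∈ Subgroup.centralizer (S : Set G)

theorem pAut_conj {G : Type*} [Group G] (x : G) {S : Subgroup G} (h : PAut p S) :
    PAut p (cj x S) := by
  intro g hg ho
  have h1 : x⁻¹ * g * x ∈ Subgroup.normalizer (S : Set G) := by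
    rw [show cj x S = S.map (MulAut.conj x).toMonoidHom from rfl,
      ← Subgroup.map_equiv_normalizer_eq S (MulAut.conj x)] at hg
    exact mem_cj.mp hg
  have h2 := h _ h1 (by
    have := orderOf_conj x⁻¹ g
    rw [inv_inv] at this
    rwa [this])
  intro s hs
  have h3 := h2 _ (mem_cj.mp hs)
  calc s * g = x * (x⁻¹ * s * x * (x⁻¹ * g * x)) * x⁻¹ := by group
    _ = g * s := by rw [h3]; group

theorem not_le_commutator_aux (hW : Cfsg.IsCharPFunctor.{u} p W) {G₀ : Type u} [Group G₀]
    (hctl : ∀ (X : Type u) [Group X] [Finite X], Sect G₀ X → TransferCtrl p W X) (k : ℕ) :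
    ∀ (G : Type u) [Group G] [Finite G], Nat.card G = k → Sect G₀ G → ∀ S : Sylow p G,
      (S : Subgroup G) ≠ ⊥ → PAut p (S : Subgroup G) → ¬ (S : Subgroup G) ≤ commutator G := by
  induction k using Nat.strong_induction_on with
  | _ k IH =>
  intro G _ _ hk hsec S hS hN hle
  obtain ⟨T, hT⟩ := hctl G hsec
  obtain ⟨x, hx⟩ := exists_map_conj_sylow_eq S T
  have hTN : PAut p (T : Subgroup G) := hx ▸ pAut_conj x hN
  have hT1 : (T : Subgroup G) ≠ ⊥ := fun e =>
    hS ((Subgroup.map_eq_bot_iff_of_injective _ (MulAut.conj x).injective).mp (hx.trans e))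
  have hTle : (T : Subgroup G) ≤ commutator G := by
    rw [← hx]
    rintro _ ⟨s, hs, rfl⟩
    exact (inferInstance : (commutator G).Normal).conj_mem _ (hle hs) x
  set V := Cfsg.inducedFunctor W (T : Subgroup G) with hV
  set N := Subgroup.normalizer (V : Set G) with hNd
  by_cases hNtop : N = ⊤
  swap
  · have hTN' : (T : Subgroup G) ≤ N := Subgroup.le_normalizer.trans (normalizer_le hW T.2)
    refine IH (Nat.card N) (hk ▸ lt_of_le_of_ne (Subgroup.card_le_card_group N)
      (fun h => hNtop (Subgroup.eq_top_of_card_eq N h))) N rfl (hsec.subgroup N) (T.subtype hTN')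
      (by rw [Sylow.coe_subtype]; exact fun e => hT1 (eq_bot_iff.mpr fun t ht => by
        have := Subgroup.mem_subgroupOf.mpr (show ((⟨t, hTN' ht⟩ : N) : G) ∈ (T : Subgroup G) from ht)
        rw [e, Subgroup.mem_bot] at this
        exact congrArg Subtype.val this)) ?_ ?_
    · rw [Sylow.coe_subtype]
      intro g hg ho s hs
      refine Subtype.ext (hTN (g : G) ?_ (by rwa [Subgroup.orderOf_coe]) _ hs)
      have h1 := Subgroup.le_normalizer_map N.subtype (Subgroup.mem_map_of_mem _ hg)
      rwa [Subgroup.map_subgroupOf_eq_of_le hTN'] at h1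
    · rw [Sylow.coe_subtype]
      intro t ht
      have h1 : (t : G) ∈ (commutator N).map N.subtype := by
        rw [Subgroup.map_subtype_commutator]
        exact hT ⟨ht, hTle ht⟩
      exact (Subgroup.mem_map_iff_mem N.subtype_injective).mp h1
  haveI hVn : V.Normal := Subgroup.normalizer_eq_top_iff.mp hNtop
  have hVT : V ≤ (T : Subgroup G) := le hW _
  have hV1 : V ≠ ⊥ := ne_bot hW T.2 hT1
  set f := QuotientGroup.mk' V with hf
  have hfs : Function.Surjective f := QuotientGroup.mk'_surjective V
  by_cases hVeq : V = (T : Subgroup G)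
  · haveI : (T : Subgroup G).Normal := hVeq ▸ hVn
    obtain ⟨K, hK⟩ := Subgroup.exists_right_complement'_of_coprime (N := (T : Subgroup G))
      (T.card_coprime_index)
    have hKcard : (Nat.card K).Coprime p := by
      rw [← hK.symm.index_eq_card]
      exact ((hp.out.coprime_iff_not_dvd).mpr T.not_dvd_index).symm
    have hKC : K ≤ Subgroup.centralizer ((T : Subgroup G) : Set G) := fun c hc =>
      hTN c (by rw [Subgroup.normalizer_eq_top]; trivial) (coprime_orderOf_of_mem hKcard hc)
    haveI hKn : K.Normal := by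
      refine Subgroup.normalizer_eq_top_iff.mp (top_le_iff.mp ?_)
      rw [← hK.sup_eq_top]
      refine sup_le (fun t ht => ?_) Subgroup.le_normalizer
      exact Subgroup.centralizer_le_normalizer _ (fun c hc => (hKC hc t ht).symm)
    haveI : Group.IsNilpotent (G ⧸ K) :=
      (isPGroup_quotient_of_isComplement' (P := T) hK.symm).isNilpotent
    haveI : Nontrivial (G ⧸ K) := by
      rw [QuotientGroup.nontrivial_iff, ne_eq, ← Subgroup.index_eq_one, hK.index_eq_card]
      exact fun e => hT1 (Subgroup.card_eq_one.mp e)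
    have h1 : commutator (G ⧸ K) = ⊤ := by
      rw [eq_top_iff]
      intro q _
      obtain ⟨g, rfl⟩ := QuotientGroup.mk'_surjective K q
      have hg : g ∈ K ⊔ (T : Subgroup G) := by rw [sup_comm, hK.sup_eq_top]; trivial
      obtain ⟨a, ha, b, hb, rfl⟩ := Subgroup.mem_sup_of_normal_left.mp hg
      rw [map_mul, show QuotientGroup.mk' K a = 1 from (QuotientGroup.eq_one_iff a).mpr ha, one_mul]
      have := Subgroup.mem_map_of_mem (QuotientGroup.mk' K) (hTle hb)
      rw [commutator_def, Subgroup.map_commutator] at this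
      exact Subgroup.commutator_mono le_top le_top this
    exact (IsSolvable.commutator_lt_top_of_nontrivial (G := G ⧸ K)).ne h1
  · have hlt : Nat.card (G ⧸ V) < k := by
      rw [← hk, Subgroup.card_eq_card_quotient_mul_card_subgroup V]
      exact lt_mul_of_one_lt_right Nat.card_pos ((Subgroup.one_lt_card_iff_ne_bot V).mpr hV1)
    refine IH _ hlt (G ⧸ V) rfl (hsec.quotient f hfs) (T.mapSurjective hfs) ?_ ?_ ?_
    · rw [Sylow.coe_mapSurjective, ne_eq, Subgroup.map_eq_bot_iff, hf, QuotientGroup.ker_mk']
      exact fun e => hVeq (le_antisymm hVT e)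
    · rw [Sylow.coe_mapSurjective]
      intro g hg ho
      obtain ⟨g, rfl⟩ := hfs g
      have hg' : g ∈ Subgroup.normalizer ((T : Subgroup G) : Set G) := by
        have h2 : g ∈ (Subgroup.normalizer (((T : Subgroup G).map f : Subgroup (G ⧸ V)) : Set (G ⧸ V))).comap f := hg
        rw [Subgroup.comap_normalizer_eq_of_surjective _ hfs, Subgroup.comap_map_eq, hf,
          QuotientGroup.ker_mk', sup_eq_left.mpr hVT] at h2
        exact h2
      obtain ⟨i, r, -, hr, hco, -⟩ := exists_pow_coprime_part (p := p) g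
      have h3 : f (g ^ p ^ i) ∈ Subgroup.centralizer (((T : Subgroup G).map f : Subgroup (G ⧸ V)) : Set (G ⧸ V)) := by
        rintro _ ⟨t, ht, rfl⟩
        rw [← map_mul, ← map_mul, hTN _ (Subgroup.pow_mem _ hg' _) hco t ht]
      rw [map_pow] at h3
      obtain ⟨j, hj⟩ := exists_pow_eq_self_of_coprime (x := f g) (n := p ^ i) (ho.pow_right i).symm
      rw [← hj]
      exact Subgroup.pow_mem _ h3 j
    · rw [Sylow.coe_mapSurjective]
      refine (Subgroup.map_mono hTle).trans ?_
      rw [commutator_def, Subgroup.map_commutator, Subgroup.map_top_of_surjective _ hfs, commutator_def]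

end CfsgLib.Conjugacy
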