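import Mathlib
import Cfsg.Agent.Lib.PStable.Engel

/-!
Unipotent elements of degree four and five on a module with an alternating invariant pairing.
-/

set_option autoImplicit false
set_option linter.style.haveILetI false
set_option linter.unusedSectionVars false

namespace CfsgLib.Conjugacy.JFive

variable {p : ℕ} [hp : Fact p.Prime]
variable {H : Type*} [Group H] [Finite H] {V : Type*} [AddCommGroup V]

/-- An element acting with degree at most `p - 1` on `W / N` commutes there with an abelian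
`p'`-group it normalizes. -/
theorem engel_kill (φ : H →* AddMonoid.End V) {a : H} {Y : Subgroup H}
    (hYc : ∀ x ∈ Y, ∀ y ∈ Y, x * y = y * x) (hY : (Nat.card Y).Coprime p)
    (ha : a ∈ Subgroup.normalizer (Y : Set H)) {W N : AddSubgroup V} (hNW : N ≤ W)
    (hWp : ∀ w ∈ W, p • w = 0)
    (haW : ∀ w ∈ W, φ a w ∈ W) (hyW : ∀ y ∈ Y, ∀ w ∈ W, φ y w ∈ W)
    (haN : ∀ w ∈ N, φ a w ∈ N) (hyN : ∀ y ∈ Y, ∀ w ∈ N, φ y w ∈ N)
    (hq : ∀ w ∈ W, ((φ a - 1 : AddMonoid.End V) ^ (p - 1)) w ∈ N) {y : H} (hy : y ∈ Y) :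
    ∀ w ∈ W, φ (a * y * a⁻¹ * y⁻¹) w - w ∈ N := by
  classical
  -- the elements preserving both
  let K : Submonoid H :=
    { carrier := {h | (∀ w ∈ W, φ h w ∈ W) ∧ ∀ w ∈ N, φ h w ∈ N}
      one_mem' := ⟨fun w hw => by rw [map_one]; exact hw, fun w hw => by rw [map_one]; exact hw⟩
      mul_mem' := fun {g h} hg hh => ⟨fun w hw => by rw [map_mul]; exact hg.1 _ (hh.1 w hw),
        fun w hw => by rw [map_mul]; exact hg.2 _ (hh.2 w hw)⟩ }
  let K₀ : Subgroup H :=
    { K with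
      inv_mem' := fun {h} hh => by
        obtain ⟨n, hn⟩ : ∃ n : ℕ, h⁻¹ = h ^ n := ⟨orderOf h - 1, inv_eq_of_mul_eq_one_right (by
          rw [← pow_succ', Nat.sub_add_cancel (orderOf_pos h), pow_orderOf_eq_one])⟩
        exact hn ▸ K.pow_mem hh n }
  have haK : a ∈ K₀ := ⟨haW, haN⟩
  have hYK : Y ≤ K₀ := fun y hy => ⟨hyW y hy, hyN y hy⟩
  let N' : AddSubgroup W := N.addSubgroupOf W
  let U := W ⧸ N'
  have hUp : ∀ u : U, p • u = 0 := fun u => by
    obtain ⟨w, rfl⟩ := QuotientAddGroup.mk'_surjective N' u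
    rw [← map_nsmul, show p • w = 0 from Subtype.ext (hWp w w.2), map_zero]
  let res : ∀ h : K₀, W →+ W := fun h =>
    { toFun := fun w => ⟨φ h w, h.2.1 w w.2⟩
      map_zero' := Subtype.ext (map_zero (φ h))
      map_add' := fun x y => Subtype.ext (map_add (φ (h : H)) (x : V) (y : V)) }
  have hres : ∀ h : K₀, N' ≤ N'.comap (res h) := fun h w hw => h.2.2 _ hw
  let ψ : K₀ →* AddMonoid.End U :=
    { toFun := fun h => QuotientAddGroup.map N' N' (res h) (hres h)
      map_one' := by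
        refine DFunLike.ext _ _ fun u => ?_
        obtain ⟨w, rfl⟩ := QuotientAddGroup.mk'_surjective N' u
        show QuotientAddGroup.mk' N' (res 1 w) = QuotientAddGroup.mk' N' w
        congr 1
        exact Subtype.ext (show φ ((1 : K₀) : H) w = w by rw [Subgroup.coe_one, map_one]; rfl)
      map_mul' := fun g h => by
        refine DFunLike.ext _ _ fun u => ?_
        obtain ⟨w, rfl⟩ := QuotientAddGroup.mk'_surjective N' u
        show QuotientAddGroup.mk' N' (res (g * h) w) = QuotientAddGroup.mk' N' (res g (res h w))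
        congr 1
        exact Subtype.ext (show φ ((g * h : K₀) : H) w = φ g (φ h w) by
          rw [Subgroup.coe_mul, map_mul]; rfl) }
  have hψ : ∀ (h : K₀) (w : W),
      ψ h (QuotientAddGroup.mk' N' w) = QuotientAddGroup.mk' N' (res h w) := fun _ _ => rfl
  intro w hw
  rcases subsingleton_or_nontrivial U with hs | hn
  · have h1 := @Subsingleton.elim U hs (QuotientAddGroup.mk' N' ⟨_, W.sub_mem (hyW y hy w hw) hw⟩) 0
    have hc : a * y * a⁻¹ * y⁻¹ ∈ K₀ :=
      K₀.mul_mem (K₀.mul_mem (K₀.mul_mem haK (hYK hy)) (K₀.inv_mem haK)) (K₀.inv_mem (hYK hy))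
    have h2 := @Subsingleton.elim U hs
      (QuotientAddGroup.mk' N' ⟨_, W.sub_mem (hc.1 w hw) hw⟩) 0
    exact (QuotientAddGroup.eq_zero_iff (N := N') _).mp h2
  let π := QuotientGroup.mk' ψ.ker
  let ρ : K₀ ⧸ ψ.ker →* AddMonoid.End U := QuotientGroup.lift ψ.ker ψ le_rfl
  have hρ : Function.Injective ρ := (MonoidHom.ker_eq_bot_iff ρ).mp (by
    rw [QuotientGroup.ker_lift, QuotientGroup.map_mk'_self])
  set Y' := (Y.subgroupOf K₀).map π with hY'
  have hY'c : ∀ x ∈ Y', ∀ z ∈ Y', x * z = z * x := by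
    rintro _ ⟨x, hx, rfl⟩ _ ⟨z, hz, rfl⟩
    rw [← map_mul, ← map_mul, show x * z = z * x from Subtype.ext (hYc _ hx _ hz)]
  have hY'p : (Nat.card Y').Coprime p := by
    refine hY.coprime_dvd_left ((Subgroup.card_map_dvd _ π).trans ?_)
    rw [Nat.card_congr (Subgroup.subgroupOfEquivOfLe hYK).toEquiv]
  have haY' : π ⟨a, haK⟩ ∈ Subgroup.normalizer (Y' : Set (K₀ ⧸ ψ.ker)) := by
    refine Subgroup.le_normalizer_map π ⟨⟨a, haK⟩, ?_, rfl⟩
    exact Subgroup.mem_normalizer_iff.mpr fun x => (Subgroup.mem_normalizer_iff.mp ha) x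
  have hq' : (ρ (π ⟨a, haK⟩) - 1) ^ (p - 1) = 0 := by
    have hstep : ∀ (n : ℕ) (w : W), ∃ h : ((φ a - 1 : AddMonoid.End V) ^ n) (w : V) ∈ W,
        ((ρ (π ⟨a, haK⟩) - 1) ^ n) (QuotientAddGroup.mk' N' w) =
          QuotientAddGroup.mk' N' ⟨_, h⟩ := by
      intro n
      induction n with
      | zero => exact fun w => ⟨w.2, rfl⟩
      | succ n ih =>
        intro w
        obtain ⟨h, e⟩ := ih w
        have h' : ((φ a - 1 : AddMonoid.End V) ^ (n + 1)) (w : V) ∈ W := by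
          rw [pow_succ']; exact W.sub_mem (haW _ h) h
        refine ⟨h', ?_⟩
        rw [pow_succ']
        show (ρ (π ⟨a, haK⟩) - 1) (((ρ (π ⟨a, haK⟩) - 1) ^ n) (QuotientAddGroup.mk' N' w)) = _
        rw [e]
        show ψ ⟨a, haK⟩ (QuotientAddGroup.mk' N' _) - QuotientAddGroup.mk' N' _ = _
        rw [hψ, ← map_sub]
        congr 1
        refine Subtype.ext ?_
        show φ a _ - _ = ((φ a - 1 : AddMonoid.End V) ^ (n + 1)) (w : V)
        rw [pow_succ']
        rfl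
    refine DFunLike.ext _ _ fun u => ?_
    obtain ⟨w, rfl⟩ := QuotientAddGroup.mk'_surjective N' u
    obtain ⟨h, e⟩ := hstep (p - 1) w
    rw [e]
    exact (QuotientAddGroup.eq_zero_iff _).mpr (hq w w.2)
  have h := PStable.commute_of_engel hUp ρ hρ hq' hY'c hY'p haY' (π ⟨y, hYK hy⟩)
    ⟨⟨y, hYK hy⟩, hy, rfl⟩
  have h1 : π (⟨a, haK⟩ * ⟨y, hYK hy⟩ * ⟨a, haK⟩⁻¹ * ⟨y, hYK hy⟩⁻¹) = 1 := by
    simp only [map_mul, map_inv, h, mul_inv_cancel_right, mul_inv_cancel]
  have h2 : ψ (⟨a, haK⟩ * ⟨y, hYK hy⟩ * ⟨a, haK⟩⁻¹ * ⟨y, hYK hy⟩⁻¹) = 1 :=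
    (QuotientGroup.eq_one_iff _).mp h1
  have h3 := DFunLike.congr_fun h2 (QuotientAddGroup.mk' N' ⟨w, hw⟩)
  rw [hψ] at h3
  exact (QuotientAddGroup.eq_iff_sub_mem (N := N')).mp h3

/-- A fixed-point-free semisimple element: `c (c x) = 0` forces `c x = 0`. -/
theorem sub_one_eq_zero_of_sq {g : H} (φ : H →* AddMonoid.End V) (hg : (orderOf g).Coprime p)
    {x : V} (hx : ∃ k : ℕ, p ^ k • (φ g x - x) = 0)
    (h2 : φ g (φ g x - x) = φ g x - x) : φ g x = x := by
  set d := φ g x - x with hd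
  have hi : ∀ i : ℕ, φ (g ^ i) x = x + i • d := by
    intro i
    induction i with
    | zero => rw [pow_zero, map_one, zero_smul, add_zero]; rfl
    | succ i ih =>
      rw [pow_succ', map_mul]
      show φ g (φ (g ^ i) x) = _
      rw [ih, map_add, map_nsmul, h2, succ_nsmul, hd]
      abel
  have h1 := hi (orderOf g)
  rw [pow_orderOf_eq_one, map_one, eq_comm] at h1
  have h3 : orderOf g • d = 0 := add_eq_left.mp h1
  obtain ⟨k, hk⟩ := hx
  have h4 : addOrderOf d = 1 := Nat.eq_one_of_dvd_coprimes (hg.pow_right k)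
    (addOrderOf_dvd_of_nsmul_eq_zero h3) (addOrderOf_dvd_of_nsmul_eq_zero hk)
  rw [AddMonoid.addOrderOf_eq_one_iff] at h4
  exact sub_eq_zero.mp (hd ▸ h4)

/-- A unipotent element of degree five with fourth power of rank one has its pairing radical
containing the commutators with the abelian `p'`-group. -/
theorem pairing_kill (hp5 : 5 ≤ p) {M : Type*} [AddCommGroup M] (φ : H →* AddMonoid.End V)
    (β : V →+ V →+ M) {a : H} {Y : Subgroup H}
    (hYc : ∀ x ∈ Y, ∀ y ∈ Y, x * y = y * x) (hY : (Nat.card Y).Coprime p)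
    (ha : a ∈ Subgroup.normalizer (Y : Set H)) {W : AddSubgroup V}
    (hWp : ∀ w ∈ W, p • w = 0)
    (haW : ∀ w ∈ W, φ a w ∈ W) (hyW : ∀ y ∈ Y, ∀ w ∈ W, φ y w ∈ W)
    (halt : ∀ x ∈ W, β x x = 0)
    (hinv : ∀ x ∈ W, ∀ z ∈ W, β (φ a x) (φ a z) = β x z)
    (hyinv : ∀ y ∈ Y, ∀ x ∈ W, ∀ z ∈ W, β x z = 0 → β (φ y x) (φ y z) = 0)
    (h5 : ∀ x ∈ W, ((φ a - 1 : AddMonoid.End V) ^ 5) x = 0) {L : AddSubgroup V} [Finite L]
    (hL : Nat.card L ≤ p) (h4 : ∀ x ∈ W, ((φ a - 1 : AddMonoid.End V) ^ 4) x ∈ L) :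
    ∀ y ∈ Y, ∀ x ∈ W, ∀ z ∈ W, β (φ (a * y * a⁻¹ * y⁻¹) x - x) z = 0 := by
  classical
  set t : AddMonoid.End V := φ a - 1 with ht
  have hta : ∀ x : V, t x = φ a x - x := fun _ => rfl
  have htW : ∀ (n : ℕ) (x : V), x ∈ W → (t ^ n) x ∈ W := by
    intro n
    induction n with
    | zero => exact fun x hx => hx
    | succ n ih =>
      intro x hx
      rw [pow_succ']
      show t ((t ^ n) x) ∈ W
      rw [hta]
      exact W.sub_mem (haW _ (ih x hx)) (ih x hx)
  have hpowW : ∀ (n : ℕ) (x : V), x ∈ W → φ (a ^ n) x ∈ W := by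
    intro n
    induction n with
    | zero => exact fun x hx => by rw [pow_zero, map_one]; exact hx
    | succ n ih => exact fun x hx => by rw [pow_succ', map_mul]; exact haW _ (ih x hx)
  have hanti : ∀ x ∈ W, ∀ z ∈ W, β x z = - β z x := fun x hx z hz => by
    have h := halt _ (W.add_mem hx hz)
    simp only [map_add, AddMonoidHom.add_apply, halt x hx, halt z hz, add_zero, zero_add] at h
    exact eq_neg_of_add_eq_zero_right h
  -- the adjoint
  have hadj : ∀ n : ℕ, ∀ x ∈ W, ∀ z ∈ W,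
      β ((t ^ n) x) (φ (a ^ n) z) = ((-1 : ℤ) ^ n) • β x ((t ^ n) z) := by
    intro n
    induction n with
    | zero =>
      intro x _ z _
      rw [pow_zero, pow_zero, pow_zero, map_one, one_smul]
      rfl
    | succ n ih =>
      intro x hx z hz
      rw [pow_succ' t n, pow_succ' a n, map_mul]
      show β (t ((t ^ n) x)) (φ a (φ (a ^ n) z)) = _
      set u := (t ^ n) x
      set w := φ (a ^ n) z
      have hu : u ∈ W := htW n x hx
      have hw : w ∈ W := hpowW n z hz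
      have e : β (t u) (φ a w) = - β u (t w) := by
        rw [hta u, hta w, map_sub, AddMonoidHom.sub_apply, hinv u hu w hw, map_sub]
        abel
      have ew : t w = φ (a ^ n) (t z) := by
        rw [hta, hta, map_sub]
        show φ a (φ (a ^ n) z) - _ = φ (a ^ n) (φ a z) - _
        rw [show φ a (φ (a ^ n) z) = φ (a ^ n) (φ a z) by
          show (φ a * φ (a ^ n)) z = (φ (a ^ n) * φ a) z
          rw [← map_mul, ← map_mul, ← pow_succ', ← pow_succ]]
      rw [e, ew, ih x hx (t z) (by rw [hta]; exact W.sub_mem (haW z hz) hz), pow_succ',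
        mul_smul, neg_one_zsmul]
      congr 1
      show _ = ((-1 : ℤ) ^ n) • β x ((t * t ^ n) z)
      rw [← pow_succ', pow_succ]
      rfl
  have hfix : ∀ n : ℕ, ∀ x ∈ W, φ (a ^ n) ((t ^ 4) x) = (t ^ 4) x := by
    intro n
    induction n with
    | zero => intro x _; rw [pow_zero, map_one]; rfl
    | succ n ih =>
      intro x hx
      rw [pow_succ', map_mul]
      show φ a (φ (a ^ n) ((t ^ 4) x)) = _
      rw [ih x hx, ← sub_eq_zero, ← hta]
      show (t * t ^ 4) x = 0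
      rw [← pow_succ']
      exact h5 x hx
  have hinv4 : ∀ n : ℕ, ∀ x ∈ W, ∀ z ∈ W, β (φ (a ^ n) x) (φ (a ^ n) z) = β x z := by
    intro n
    induction n with
    | zero => intro x _ z _; rw [pow_zero, map_one]; rfl
    | succ n ih =>
      intro x hx z hz
      rw [pow_succ', map_mul]
      show β (φ a (φ (a ^ n) x)) (φ a (φ (a ^ n) z)) = _
      rw [hinv _ (hpowW n x hx) _ (hpowW n z hz), ih x hx z hz]
  have hg : ∀ x ∈ W, ∀ z ∈ W, β ((t ^ 4) x) z = - β ((t ^ 4) z) x := fun x hx z hz => by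
    have h := hadj 4 x hx z hz
    rw [show ((-1 : ℤ) ^ 4) = 1 by norm_num, one_smul] at h
    rw [← hfix 4 x hx, hinv4 4 _ (htW 4 x hx) z hz] at h
    rw [h, hanti x hx _ (htW 4 z hz)]
  -- rank one and alternating gives zero
  have hrad : ∀ x ∈ W, ∀ z ∈ W, β ((t ^ 4) x) z = 0 := by
    by_contra hne
    push Not at hne
    obtain ⟨x, hx, z, hz, hxz⟩ := hne
    set l := (t ^ 4) x with hl
    have hl0 : l ≠ 0 := fun e => hxz (by rw [e, map_zero]; rfl)
    have hlp : addOrderOf l = p := addOrderOf_eq_prime (hWp _ (htW 4 x hx)) hl0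
    have hcyc : AddSubgroup.zmultiples l = L := by
      refine AddSubgroup.eq_of_le_of_card_ge ?_ (hL.trans_eq ?_)
      · rw [AddSubgroup.zmultiples_le]; exact h4 x hx
      · rw [Nat.card_zmultiples, hlp]
    have hxx : β l x = 0 := by
      have e2 : (2 : ℕ) • β l x = 0 := by
        rw [two_nsmul]; nth_rw 2 [hg x hx x hx]; exact add_neg_cancel _
      have ep : p • β l x = 0 := by
        rw [← map_nsmul, hWp x hx, map_zero]
      have hco : Nat.Coprime 2 p :=
        (Nat.coprime_primes Nat.prime_two hp.out).mpr (by omega)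
      have := Nat.eq_one_of_dvd_coprimes hco (addOrderOf_dvd_of_nsmul_eq_zero e2)
        (addOrderOf_dvd_of_nsmul_eq_zero ep)
      exact AddMonoid.addOrderOf_eq_one_iff.mp this
    obtain ⟨k, hk⟩ := AddSubgroup.mem_zmultiples_iff.mp (hcyc.ge (h4 z hz))
    apply hxz
    rw [hg x hx z hz, ← hk, map_zsmul, AddMonoidHom.smul_apply, hxx, smul_zero, neg_zero]
  -- the radical
  let N : AddSubgroup V :=
    { carrier := {x | x ∈ W ∧ ∀ z ∈ W, β x z = 0}
      zero_mem' := ⟨W.zero_mem, fun z _ => by rw [map_zero]; rfl⟩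
      add_mem' := fun {x y} hx hy => ⟨W.add_mem hx.1 hy.1, fun z hz => by
        rw [map_add, AddMonoidHom.add_apply, hx.2 z hz, hy.2 z hz, add_zero]⟩
      neg_mem' := fun {x} hx => ⟨W.neg_mem hx.1, fun z hz => by
        rw [map_neg, AddMonoidHom.neg_apply, hx.2 z hz, neg_zero]⟩ }
  have hainv : ∀ n : ℕ, a ^ n = a⁻¹ → ∀ w ∈ N, φ a w ∈ N := by
    intro n hn w hw
    refine ⟨haW w hw.1, fun z hz => ?_⟩
    have e : φ a (φ (a ^ n) z) = z := by
      show (φ a * φ (a ^ n)) z = z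
      rw [← map_mul, hn, mul_inv_cancel, map_one]
      rfl
    rw [← e, hinv w hw.1 _ (hpowW n z hz)]
    exact hw.2 _ (hpowW n z hz)
  have haN : ∀ w ∈ N, φ a w ∈ N := hainv (orderOf a - 1) (eq_inv_of_mul_eq_one_left (by
    rw [← pow_succ, Nat.sub_add_cancel (orderOf_pos a), pow_orderOf_eq_one]))
  have hyN : ∀ y ∈ Y, ∀ w ∈ N, φ y w ∈ N := fun y hy w hw => by
    refine ⟨hyW y hy w hw.1, fun z hz => ?_⟩
    have e : φ y (φ y⁻¹ z) = z := by
      show (φ y * φ y⁻¹) z = z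
      rw [← map_mul, mul_inv_cancel, map_one]
      rfl
    have h := hyW y⁻¹ (Y.inv_mem hy) z hz
    rw [← e]
    exact hyinv y hy w hw.1 _ h (hw.2 _ h)
  intro y hy x hx z hz
  have h := engel_kill (p := p) (N := N) φ hYc hY ha (fun x hx => hx.1) hWp haW hyW haN hyN (fun w hw => by
    obtain ⟨d, hd⟩ := Nat.le.dest (show 4 ≤ p - 1 by omega)
    rw [← ht, ← hd, pow_add]
    exact ⟨htW 4 _ (htW d w hw), hrad _ (htW d w hw)⟩) hy x hx
  exact h.2 z hz

end CfsgLib.Conjugacy.JFive
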