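import Mathlib
import Cfsg.Prelude.Def_PLocal
import Cfsg.Agent.Lib.Transfer.ThompsonJ
import Cfsg.Agent.Lib.ZJ.Replacement
import Cfsg.Agent.Lib.Offender.Timmesfeld
import Cfsg.Agent.Lib.PStable.ChiefDegree
import Cfsg.Agent.Lib.Critical.Basic

/-!
An abelian subgroup of largest order not contained in `O_p(G)` contains elements of degree at most six
on the chief factors inside `O_p(G)`.

Let `C` be a critical subgroup of `D = O_p(G)`, `B = Z(C)` and `A` such a subgroup with `|A ⊓ C|` as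
large as possible. Replacement by `R = C_A([B, A])` shows that `A` is quadratic on `B` or `R ≤ D`.
In the second case `A` has degree `3` on the chief factors in `B` and `4` on `C / B`, in the first one
`2` and `5`.
-/

set_option autoImplicit false
set_option linter.style.haveILetI false
set_option linter.unusedSectionVars false

open scoped commutatorElement

namespace CfsgLib.Conjugacy.JDeg

open CfsgLib.Transfer CfsgLib.Offender

variable {G : Type*} [Group G]

/-- Iterated commutators along a list, the head acting first. -/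
def itd (l : List G) (y : G) : G := l.foldl (fun z a => ⁅a, z⁆) y

@[simp] theorem itd_nil (y : G) : itd [] y = y := rfl

@[simp] theorem itd_cons (a : G) (l : List G) (y : G) : itd (a :: l) y = itd l ⁅a, y⁆ := rfl

theorem itd_append (l l' : List G) (y : G) : itd (l ++ l') y = itd l' (itd l y) :=
  List.foldl_append ..

theorem itd_one : ∀ l : List G, itd l (1 : G) = 1
  | [] => rfl
  | a :: l => by rw [itd_cons, commutatorElement_one_right, itd_one l]

theorem comm_mul_right (a x y : G) : ⁅a, x * y⁆ = ⁅a, x⁆ * ⁅x, ⁅a, y⁆⁆ * ⁅a, y⁆ := by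
  simp [commutatorElement_def, mul_assoc]

theorem comm_inv_right (a x : G) : ⁅a, x⁻¹⁆ = ⁅x⁻¹, ⁅a, x⁆⁻¹⁆ * ⁅a, x⁆⁻¹ := by
  simp [commutatorElement_def, mul_assoc]

theorem conj_eq_comm_mul (a x : G) : a * x * a⁻¹ = ⁅a, x⁆ * x := by
  simp [commutatorElement_def, mul_assoc]

theorem comm_eq_one_iff {a x : G} : ⁅a, x⁆ = 1 ↔ a * x = x * a :=
  commutatorElement_eq_one_iff_mul_comm

theorem comm_swap {a b y : G} (hab : a * b = b * a) (h : ⁅a, y⁆ * ⁅b, y⁆ = ⁅b, y⁆ * ⁅a, y⁆) :
    ⁅a, ⁅b, y⁆⁆ = ⁅b, ⁅a, y⁆⁆ := by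
  have h1 : ∀ c d : G, ⁅c, ⁅d, y⁆⁆ * ⁅d, y⁆ * ⁅c, y⁆ * y = c * d * y * (c * d)⁻¹ := fun c d => by
    simp [commutatorElement_def, mul_assoc]
  have h2 := (h1 a b).trans ((by rw [hab] : a * b * y * (a * b)⁻¹ = b * a * y * (b * a)⁻¹).trans
    (h1 b a).symm)
  rw [mul_assoc ⁅b, ⁅a, y⁆⁆, h, ← mul_assoc] at h2
  exact mul_right_cancel (mul_right_cancel (mul_right_cancel h2))

theorem comm_mem {a y : G} {H : Subgroup G} (ha : a ∈ Subgroup.normalizer (H : Set G)) (hy : y ∈ H) :
    ⁅a, y⁆ ∈ H :=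
  H.mul_mem ((Subgroup.mem_normalizer_iff.mp ha y).mp hy) (H.inv_mem hy)

theorem itd_mem {H : Subgroup G} : ∀ (l : List G) {y : G},
    (∀ a ∈ l, a ∈ Subgroup.normalizer (H : Set G)) → y ∈ H → itd l y ∈ H
  | [], _, _, hy => hy
  | a :: l, _, hl, hy => itd_mem l (fun b hb => hl b (List.mem_cons_of_mem a hb))
      (comm_mem (hl a List.mem_cons_self) hy)

theorem itd_conj {c : G} : ∀ (l : List G) (y : G), (∀ a ∈ l, a * c = c * a) →
    itd l (c * y * c⁻¹) = c * itd l y * c⁻¹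
  | [], _, _ => rfl
  | a :: l, y, hl => by
    rw [itd_cons, itd_cons, ← itd_conj l _ fun b hb => hl b (List.mem_cons_of_mem a hb)]
    congr 1
    have e : c * a * c⁻¹ = a := by rw [← hl a List.mem_cons_self, mul_inv_cancel_right]
    nth_rw 1 [← e]
    simp [commutatorElement_def, mul_assoc]

section modulo

variable {U V : Subgroup G}

theorem itd_mul_mem (hVU : ⁅U, U⁆ ≤ V) : ∀ (l : List G),
    (∀ a ∈ l, a ∈ Subgroup.normalizer (U : Set G) ∧ a ∈ Subgroup.normalizer (V : Set G)) →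
    (∀ {x y : G}, x ∈ U → y ∈ U → itd l x ∈ V → itd l y ∈ V → itd l (x * y) ∈ V) ∧
      ∀ {x : G}, x ∈ U → itd l x ∈ V → itd l x⁻¹ ∈ V
  | [], _ => ⟨fun _ _ => V.mul_mem, fun _ => V.inv_mem⟩
  | a :: l, hl => by
    have hl' := fun b hb => hl b (List.mem_cons_of_mem a hb)
    obtain ⟨hmul, hinv⟩ := itd_mul_mem hVU l hl'
    obtain ⟨haU, haV⟩ := hl a List.mem_cons_self
    have hUU : ∀ {s t : G}, s ∈ U → t ∈ U → ⁅s, t⁆ ∈ U ∧ itd l ⁅s, t⁆ ∈ V := fun hs ht =>
      ⟨U.mul_mem (U.mul_mem (U.mul_mem hs ht) (U.inv_mem hs)) (U.inv_mem ht),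
        itd_mem l (fun b hb => (hl' b hb).2) (hVU (Subgroup.commutator_mem_commutator hs ht))⟩
    refine ⟨fun {x y} hx hy h1 h2 => ?_, fun {x} hx h1 => ?_⟩
    · rw [itd_cons] at h1 h2 ⊢
      rw [comm_mul_right]
      have hax := comm_mem haU hx
      have hay := comm_mem haU hy
      exact hmul (U.mul_mem hax (hUU hx hay).1) hay (hmul hax (hUU hx hay).1 h1 (hUU hx hay).2) h2
    · rw [itd_cons] at h1 ⊢
      rw [comm_inv_right]
      have hax := U.inv_mem (comm_mem haU hx)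
      exact hmul (hUU (U.inv_mem hx) hax).1 hax (hUU (U.inv_mem hx) hax).2 (hinv (comm_mem haU hx) h1)

theorem iterCommutator_shift (W Γ : Subgroup G) : ∀ n,
    Cfsg.iterCommutator W Γ (n + 1) = Cfsg.iterCommutator ⁅W, Γ⁆ Γ n
  | 0 => rfl
  | n + 1 => congrArg (fun X => ⁅X, Γ⁆) (iterCommutator_shift W Γ n)

theorem iterCommutator_le_of_itd {Γ : Subgroup G} (hVU : ⁅U, U⁆ ≤ V)
    (hΓU : Γ ≤ Subgroup.normalizer (U : Set G)) (hΓV : Γ ≤ Subgroup.normalizer (V : Set G)) :
    ∀ (n : ℕ) (W : Subgroup G), W ≤ U →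
      (∀ w ∈ W, ∀ l : List G, (∀ a ∈ l, a ∈ Γ) → l.length = n → itd l w ∈ V) →
      Cfsg.iterCommutator W Γ n ≤ V
  | 0, W, _, h => fun w hw => h w hw [] (by simp) rfl
  | n + 1, W, hW, h => by
    have hcl := fun (l : List G) (hl : ∀ a ∈ l, a ∈ Γ) =>
      itd_mul_mem hVU l fun a ha => ⟨hΓU (hl a ha), hΓV (hl a ha)⟩
    let K : Subgroup G :=
      { carrier := {y | y ∈ U ∧ ∀ l : List G, (∀ a ∈ l, a ∈ Γ) → l.length = n → itd l y ∈ V}
        one_mem' := ⟨U.one_mem, fun l _ _ => by rw [itd_one]; exact V.one_mem⟩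
        mul_mem' := fun hx hy => ⟨U.mul_mem hx.1 hy.1, fun l hl hn =>
          (hcl l hl).1 hx.1 hy.1 (hx.2 l hl hn) (hy.2 l hl hn)⟩
        inv_mem' := fun hx => ⟨U.inv_mem hx.1, fun l hl hn =>
          (hcl l hl).2 hx.1 (hx.2 l hl hn)⟩ }
    have hle : ⁅W, Γ⁆ ≤ K := Subgroup.commutator_le.mpr fun w hw b hb => by
      rw [← commutatorElement_inv b w]
      refine K.inv_mem ⟨comm_mem (hΓU hb) (hW hw), fun l hl hn => ?_⟩
      rw [← itd_cons]
      exact h w hw (b :: l) (by simpa using ⟨hb, hl⟩) (by simp [hn])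
    rw [iterCommutator_shift]
    exact iterCommutator_le_of_itd hVU hΓU hΓV n _ (hle.trans fun y hy => hy.1)
      fun w hw l hl hn => (hle hw).2 l hl hn

end modulo

/-- The center of `C`, inside the ambient group. -/
def zin (C : Subgroup G) : Subgroup G := C ⊓ Subgroup.centralizer (C : Set G)

/-- The configuration. -/
structure Setup (p : ℕ) (S D C A : Subgroup G) : Prop where
  pS : IsPGroup p S
  leS : D ≤ S
  leD : C ≤ D
  norm : S ≤ Subgroup.normalizer (C : Set G)
  comm : ⁅D, C⁆ ≤ zin C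
  mem : A ∈ maxAbExp 0 S
  not_le : ¬ A ≤ D
  max : ∀ A' ∈ maxAbExp 0 S, ¬ A' ≤ D → Nat.card ↥(A' ⊓ C) ≤ Nat.card ↥(A ⊓ C)

variable {p : ℕ} {S D C A : Subgroup G} (h : Setup p S D C A)

include h

theorem Setup.commA {a b : G} (ha : a ∈ A) (hb : b ∈ A) : a * b = b * a :=
  haveI := h.mem.2.1.1
  congrArg Subtype.val (mul_comm' (⟨a, ha⟩ : A) ⟨b, hb⟩)

theorem Setup.normC {a : G} (ha : a ∈ A) : a ∈ Subgroup.normalizer (C : Set G) :=
  h.norm (h.mem.1 ha)

theorem Setup.normB {a : G} (ha : a ∈ A) : a ∈ Subgroup.normalizer (zin C : Set G) :=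
  Coprime.le_normalizer_inf_of_le h.norm (Coprime.le_normalizer_centralizer h.norm) (h.mem.1 ha)

omit h in
theorem zin_comm {z c : G} (hz : z ∈ zin C) (hc : c ∈ C) : z * c = c * z := (hz.2 c hc).symm

omit h in
theorem zin_commB {z z' : G} (hz : z ∈ zin C) (hz' : z' ∈ zin C) : z * z' = z' * z :=
  zin_comm hz hz'.1

theorem Setup.commD {d c : G} (hd : d ∈ D) (hc : c ∈ C) : ⁅d, c⁆ ∈ zin C :=
  h.comm (Subgroup.commutator_mem_commutator hd hc)

theorem Setup.commCC : ⁅C, C⁆ ≤ zin C := (Subgroup.commutator_mono h.leD le_rfl).trans h.comm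

theorem Setup.inf_commB {x z : G} (hx : x ∈ A ⊓ C) (hz : z ∈ zin C) : x * z = z * x :=
  (zin_comm hz hx.2).symm

theorem Setup.zin_le_S : zin C ≤ S := inf_le_left.trans (h.leD.trans h.leS)

/-- `r` moves past a list on an element of `C`. -/
theorem Setup.push {r : G} (hr : r ∈ A ⊓ D) (l : List G) : ∀ {v : G}, (∀ a ∈ l, a ∈ A) → v ∈ C →
    ⁅r, itd l v⁆ = itd l ⁅r, v⁆ := by
  induction l with
  | nil => exact fun _ _ => rfl
  | cons a l ih =>
    intro v hl hv
    have ha := hl a List.mem_cons_self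
    rw [itd_cons, itd_cons, ih (fun b hb => hl b (List.mem_cons_of_mem a hb))
      (comm_mem (h.normC ha) hv),
      comm_swap (h.commA hr.1 ha) (zin_comm (h.commD hr.2 hv) (comm_mem (h.normC ha) hv))]

/-- Any element moves past a list on an element of `Z(C)`. -/
theorem Setup.pushB {b : G} (hb : b ∈ A) (l : List G) : ∀ {z : G}, (∀ a ∈ l, a ∈ A) → z ∈ zin C →
    ⁅b, itd l z⁆ = itd l ⁅b, z⁆ := by
  induction l with
  | nil => exact fun _ _ => rfl
  | cons a l ih =>
    intro z hl hz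
    have ha := hl a List.mem_cons_self
    rw [itd_cons, itd_cons, ih (fun c hc => hl c (List.mem_cons_of_mem a hc))
      (comm_mem (h.normB ha) hz),
      comm_swap (h.commA hb ha) (zin_commB (comm_mem (h.normB hb) hz) (comm_mem (h.normB ha) hz))]

variable [Finite G]

section replacement

variable {Y : Subgroup G} (hYS : Y ≤ S) (hYc : ∀ x ∈ Y, ∀ y ∈ Y, Commute x y)
  (hAY : A ≤ Subgroup.normalizer (Y : Set G))

omit h in
theorem fix_le_of_mem (hA : A ∈ maxAbExp 0 S) (hYS : Y ≤ S) :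
    Timmesfeld.fix Y A ≤ A := fun y hy =>
  ZJ.mem_of_commute hA (hYS hy.1) (pow_zero y) fun a ha => hy.2 a ha

include hYS hYc hAY

theorem Setup.meas_le : ∀ B' ≤ A, Timmesfeld.meas Y B' ≤ Timmesfeld.meas Y A := by
  intro B' hB'
  set N := Timmesfeld.fix Y B' with hN
  have hab : IsAbExp 0 (B' ⊔ N) := by
    refine ⟨?_, fun a _ => pow_zero a⟩
    rw [← Subgroup.le_centralizer_iff_isMulCommutative]
    have h1 : B' ≤ Subgroup.centralizer (B' : Set G) := fun a ha b hb =>
      h.commA (hB' hb) (hB' ha)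
    have h2 : N ≤ Subgroup.centralizer (B' : Set G) := inf_le_right
    have h3 : N ≤ Subgroup.centralizer (N : Set G) := fun a ha b hb => hYc b hb.1 a ha.1
    refine sup_le ?_ ?_ <;> rw [Subgroup.le_centralizer_iff]
    · exact sup_le (Subgroup.le_centralizer_iff.mp h1) h2
    · exact sup_le (Subgroup.le_centralizer_iff.mp h2) h3
  have hmax := h.mem.2.2 _ (sup_le (hB'.trans h.mem.1) (inf_le_left.trans hYS)) hab
  have hint : B' ⊓ N ≤ Timmesfeld.fix Y A := fun x hx =>
    ⟨hx.2.1, fun a ha => h.commA ha (hB' hx.1)⟩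
  calc Timmesfeld.meas Y B' = Nat.card B' * Nat.card N := rfl
    _ ≤ Nat.card ↥(B' ⊔ N) * Nat.card ↥(B' ⊓ N) := Timmesfeld.card_mul_card_le _ _
    _ ≤ Nat.card A * Nat.card ↥(Timmesfeld.fix Y A) :=
        Nat.mul_le_mul hmax (Subgroup.card_le_of_le hint)

theorem Setup.hab : ⁅A, A⁆ ≤ Subgroup.centralizer (Y : Set G) := by
  rw [Subgroup.commutator_le]
  intro a ha b hb
  rw [comm_eq_one_iff.mpr (h.commA ha hb)]
  exact one_mem _

variable {W : Subgroup G} (hWY : W ≤ Y)
  (hR : Timmesfeld.meas Y (A ⊓ Subgroup.centralizer (W : Set G)) = Timmesfeld.meas Y A ∧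
    Timmesfeld.fix Y (A ⊓ Subgroup.centralizer (W : Set G)) = W ⊔ Timmesfeld.fix Y A)

include hWY hR

/-- The replaced subgroup is again of largest order. -/
theorem Setup.member : (A ⊓ Subgroup.centralizer (W : Set G)) ⊔ (W ⊔ Timmesfeld.fix Y A) ∈
    maxAbExp 0 S := by
  set R := A ⊓ Subgroup.centralizer (W : Set G) with hRdef
  obtain ⟨hm, hf⟩ := hR
  rw [← hf]
  set N := Timmesfeld.fix Y R with hN
  have hab : IsAbExp 0 (R ⊔ N) := by
    refine ⟨?_, fun a _ => pow_zero a⟩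
    rw [← Subgroup.le_centralizer_iff_isMulCommutative]
    have h1 : R ≤ Subgroup.centralizer (R : Set G) := fun a ha b hb => h.commA hb.1 ha.1
    have h2 : N ≤ Subgroup.centralizer (R : Set G) := inf_le_right
    have h3 : N ≤ Subgroup.centralizer (N : Set G) := fun a ha b hb => hYc b hb.1 a ha.1
    refine sup_le ?_ ?_ <;> rw [Subgroup.le_centralizer_iff]
    · exact sup_le (Subgroup.le_centralizer_iff.mp h1) h2
    · exact sup_le (Subgroup.le_centralizer_iff.mp h2) h3
  have hint : R ⊓ N ≤ Timmesfeld.fix Y A := fun x hx => ⟨hx.2.1, fun a ha => h.commA ha hx.1.1⟩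
  have h1 : Timmesfeld.meas Y A ≤ Nat.card ↥(R ⊔ N) * Nat.card ↥(Timmesfeld.fix Y A) := by
    rw [← hm]
    exact (Timmesfeld.card_mul_card_le _ _).trans
      (Nat.mul_le_mul_left _ (Subgroup.card_le_of_le hint))
  have h2 : Nat.card A ≤ Nat.card ↥(R ⊔ N) := Nat.le_of_mul_le_mul_right h1 Nat.card_pos
  exact ⟨sup_le (inf_le_left.trans h.mem.1) (inf_le_left.trans hYS), hab,
    fun B' hB' hB'e => (h.mem.2.2 B' hB' hB'e).trans h2⟩

/-- Either the replacement falls into `D`, or nothing is replaced. -/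
theorem Setup.le_or_le (hYC : Y ≤ C) (hcen : ∀ x ∈ A ⊓ C, ∀ w ∈ W, x * w = w * x) :
    A ⊓ Subgroup.centralizer (W : Set G) ≤ D ∨ W ≤ A := by
  refine or_iff_not_imp_left.mpr fun hRD => ?_
  set R := A ⊓ Subgroup.centralizer (W : Set G) with hRdef
  set A' := R ⊔ (W ⊔ Timmesfeld.fix Y A) with hA'
  have hle : (A ⊓ C) ⊔ W ≤ A' ⊓ C := sup_le
    (le_inf (fun x hx => Subgroup.mem_sup_left ⟨hx.1, fun w hw => (hcen x hx w hw).symm⟩) inf_le_right)
    (le_inf (le_sup_left.trans le_sup_right) (hWY.trans hYC))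
  have hcard := h.max A' (h.member hYS hYc hAY hWY hR) fun hle => hRD (le_sup_left.trans hle)
  have e := Subgroup.eq_of_le_of_card_ge (le_sup_left : A ⊓ C ≤ (A ⊓ C) ⊔ W)
    ((Subgroup.card_le_of_le hle).trans hcard)
  exact (le_sup_right.trans e.ge).trans inf_le_left

end replacement

/-- An abelian invariant subgroup of `C` centralized by `A ⊓ D` is moved quadratically. -/
theorem Setup.quadratic_of_centralized [hp : Fact p.Prime] {Y : Subgroup G} (hYC : Y ≤ C)
    (hYc : ∀ x ∈ Y, ∀ y ∈ Y, Commute x y) (hAY : A ≤ Subgroup.normalizer (Y : Set G))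
    (hcen : ∀ r ∈ A ⊓ D, ∀ y ∈ Y, r * y = y * r) {a b y : G} (ha : a ∈ A) (hb : b ∈ A)
    (hy : y ∈ Y) : ⁅b, ⁅a, y⁆⁆ = 1 := by
  have hYS : Y ≤ S := hYC.trans (h.leD.trans h.leS)
  have hWY : ⁅Y, A⁆ ≤ Y := Subgroup.commutator_le.mpr fun x hx c hc => by
    rw [← commutatorElement_inv c x]; exact Y.inv_mem (comm_mem (hAY hc) hx)
  have hR := Timmesfeld.replacement hYc hAY (h.hab hYS hYc hAY) (h.meas_le hYS hYc hAY)
    (U := Y) le_rfl
  have hfin : ⁅Y, A⁆ ≤ A → ⁅b, ⁅a, y⁆⁆ = 1 := fun hle => comm_eq_one_iff.mpr (h.commA hb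
    (by rw [← commutatorElement_inv y a]; exact A.inv_mem (hle (Subgroup.commutator_mem_commutator hy ha))))
  rcases h.le_or_le hYS hYc hAY hWY hR hYC
    (fun x hx w hw => hcen x ⟨hx.1, h.leD hx.2⟩ w (hWY hw)) with hle | hle
  swap
  · exact hfin hle
  have hYN : Y ≤ ⁅Y, A⁆ ⊔ Timmesfeld.fix Y A := by
    rw [← hR.2]
    exact fun x hx => ⟨hx, fun r hr => hcen r ⟨hr.1, hle hr⟩ x hx⟩
  have hstep : ⁅Y, A⁆ ≤ ⁅⁅Y, A⁆, A⁆ := Subgroup.commutator_le.mpr fun x hx c hc => by
    obtain ⟨w, hw, k, hk, rfl⟩ := ZJ.exists_mul_of_mem_sup (N := ⁅Y, A⁆) (H := Timmesfeld.fix Y A) (fun k hk =>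
      Subgroup.centralizer_le_normalizer _ (Subgroup.mem_centralizer_iff.mpr fun t ht =>
        (hYc _ (hWY ht) _ hk.1).eq)) (hYN hx)
    have hk' : c * k⁻¹ = k⁻¹ * c := Subgroup.mem_centralizer_iff.mp (inv_mem hk.2) c hc
    rw [show ⁅w * k, c⁆ = w * k * (c * k⁻¹) * w⁻¹ * c⁻¹ by
      simp [commutatorElement_def, mul_assoc], hk',
      show w * k * (k⁻¹ * c) * w⁻¹ * c⁻¹ = ⁅w, c⁆ by simp [commutatorElement_def, mul_assoc]]
    exact Subgroup.commutator_mem_commutator hw hc
  haveI : Group.IsNilpotent S := h.pS.isNilpotent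
  obtain ⟨n, hn⟩ := (Subgroup.isNilpotent_iff_lowerCentralSeries S).mp inferInstance
  have hall : ∀ k, ⁅Y, A⁆ ≤ S.lowerCentralSeries k := by
    intro k
    induction k with
    | zero => exact hWY.trans hYS
    | succ k ih =>
      rw [Subgroup.lowerCentralSeries_succ]
      exact hstep.trans (Subgroup.commutator_mono ih h.mem.1)
  exact hfin (((hall n).trans hn.le).trans bot_le)

omit [Finite G] in
/-- Long lists kill. -/
theorem Setup.exists_kill [Finite G] [hp : Fact p.Prime] : ∃ n, ∀ y ∈ S, ∀ l : List G,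
    (∀ a ∈ l, a ∈ A) → n ≤ l.length → itd l y = 1 := by
  haveI : Group.IsNilpotent S := h.pS.isNilpotent
  obtain ⟨n, hn⟩ := (Subgroup.isNilpotent_iff_lowerCentralSeries S).mp inferInstance
  refine ⟨n, fun y hy l hl hln => ?_⟩
  have hall : ∀ (l : List G), (∀ a ∈ l, a ∈ A) → itd l y ∈ S.lowerCentralSeries l.length := by
    intro l
    induction l using List.reverseRecOn with
    | nil => exact fun _ => hy
    | append_singleton l a ih =>
      intro hl
      rw [itd_append, List.length_append, List.length_singleton, Subgroup.lowerCentralSeries_succ,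
        itd_cons, itd_nil, ← commutatorElement_inv _ a]
      exact Subgroup.inv_mem _ (Subgroup.commutator_mem_commutator
        (ih fun b hb => hl b (List.mem_append_left _ hb)) (h.mem.1 (hl a (by simp))))
  exact Subgroup.mem_bot.mp (hn.le (S.lowerCentralSeries_antitone hln (hall l hl)))

/-- `⁅a', ⁅a, z⁆⁆` is `⁅b, z⁆` modulo fixed points, with `b` in `D`. -/
theorem Setup.exists_square [hp : Fact p.Prime] : ∀ (n : ℕ), ∀ z ∈ zin C,
    (∀ l : List G, (∀ a ∈ l, a ∈ A) → l.length = n → itd l z = 1) →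
    ∀ a ∈ A, ∀ a' ∈ A, ∃ b ∈ A ⊓ D, ∀ c ∈ A, ⁅c, ⁅a', ⁅a, z⁆⁆⁆ = ⁅c, ⁅b, z⁆⁆ := by
  intro n
  induction n with
  | zero =>
    intro z _ hk a _ a' _
    have e : z = 1 := hk [] (by simp) rfl
    exact ⟨1, one_mem _, fun c _ => by simp [e]⟩
  | succ n ih =>
    intro z hz hk a ha a' ha'
    rcases Nat.lt_or_ge n 3 with hn | hn
    · refine ⟨1, one_mem _, fun c hc => ?_⟩
      rw [commutatorElement_one_left, commutatorElement_one_right,
        show ⁅c, ⁅a', ⁅a, z⁆⁆⁆ = itd [a, a', c] z from rfl]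
      interval_cases n
      · rw [itd_cons, show ⁅a, z⁆ = 1 from hk [a] (by simpa using ha) rfl, itd_one]
      · rw [itd_cons, itd_cons,
          show ⁅a', ⁅a, z⁆⁆ = 1 from hk [a, a'] (by simp [ha, ha']) rfl, itd_one]
      · exact hk [a, a', c] (by simp [ha, ha', hc]) rfl
    by_cases hq : ∀ P : List G, (∀ x ∈ P, x ∈ A) → P.length = n - 2 → ∀ c₁ ∈ A, ∀ c₂ ∈ A,
        itd [c₁, c₂] (itd P z) = 1
    · refine ih z hz (fun l hl hln => ?_) a ha a' ha'
      obtain ⟨P, c₁, c₂, rfl⟩ : ∃ P c₁ c₂, l = P ++ [c₁, c₂] := by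
        refine ⟨l.take (n - 2), l[n - 2]'(by omega), l[n - 1]'(by omega), ?_⟩
        conv_lhs => rw [← List.take_append_drop (n - 2) l]
        congr 1
        rw [List.drop_eq_getElem_cons (by omega), List.drop_eq_getElem_cons (by omega),
          List.drop_eq_nil_of_le (by omega)]
        simp only [show n - 2 + 1 = n - 1 by omega]
      rw [itd_append]
      simp only [List.mem_append, List.mem_cons, List.not_mem_nil, or_false] at hl
      exact hq P (fun x hx => hl x (Or.inl hx)) (by simp at hln; omega) c₁ (hl c₁ (by simp))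
        c₂ (hl c₂ (by simp))
    push Not at hq
    obtain ⟨P, hP, hPl, c₁, hc₁, c₂, hc₂, hne⟩ := hq
    set B := zin C with hBdef
    have hBc : ∀ x ∈ B, ∀ y ∈ B, Commute x y := fun x hx y hy => zin_commB hx hy
    have hAB : A ≤ Subgroup.normalizer (B : Set G) := fun c hc => h.normB hc
    have hcl : ∀ {q : G}, q ∈ B → Timmesfeld.comm1 q A ≤ B := fun hq => Timmesfeld.comm1_le hAB hq
    set q := itd P z with hq'
    have hqB : q ∈ B := itd_mem P (fun x hx => h.normB (hP x hx)) hz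
    have hR := Timmesfeld.single_max hBc hAB (h.hab h.zin_le_S hBc hAB)
      (h.meas_le h.zin_le_S hBc hAB) hqB
    have hD : A ⊓ Subgroup.centralizer (Timmesfeld.comm1 q A : Set G) ≤ D := by
      refine (h.le_or_le h.zin_le_S hBc hAB (hcl hqB) hR inf_le_left
        fun x hx w hw => h.inf_commB hx (hcl hqB hw)).resolve_right fun hle => hne ?_
      show ⁅c₂, ⁅c₁, q⁆⁆ = 1
      exact comm_eq_one_iff.mpr (h.commA hc₂ (by
        rw [← commutatorElement_inv q c₁]
        exact A.inv_mem (hle (Subgroup.subset_closure ⟨c₁, hc₁, rfl⟩))))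
    -- every element of `[z, A]` is `⁅b, z⁆` modulo fixed points
    obtain ⟨b, hb, hbz⟩ : ∃ b ∈ A, ∀ c ∈ A, ⁅c, ⁅a', ⁅a, z⁆⁆⁆ = ⁅c, ⁅b, z⁆⁆ := by
      obtain ⟨hm, hf⟩ := Timmesfeld.single_max hBc hAB (h.hab h.zin_le_S hBc hAB)
        (h.meas_le h.zin_le_S hBc hAB) hz
      set R := A ⊓ Subgroup.centralizer (Timmesfeld.comm1 z A : Set G) with hRdef
      set C₀ := Timmesfeld.fix B A with hC₀
      set N := Timmesfeld.comm1 z A ⊔ C₀ with hN
      have hgen : ∀ c ∈ A, ⁅c, z⁆ ∈ N := fun c hc => by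
        rw [← commutatorElement_inv z c]
        exact Subgroup.mem_sup_left (Subgroup.inv_mem _ (Subgroup.subset_closure ⟨c, hc, rfl⟩))
      have hNB : N ≤ B := sup_le (hcl hz) inf_le_left
      let f : ↥A ⧸ R.subgroupOf A → ↥N ⧸ C₀.subgroupOf N := fun r =>
        QuotientGroup.mk ⟨⁅((r.out : ↥A) : G), z⁆, hgen _ r.out.2⟩
      have hinj : Function.Injective f := by
        intro r s e
        rw [← QuotientGroup.out_eq' r, ← QuotientGroup.out_eq' s, QuotientGroup.eq,
          Subgroup.mem_subgroupOf]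
        have e' := Subgroup.mem_subgroupOf.mp (QuotientGroup.eq.mp e)
        set x := ((r.out : ↥A) : G)
        set y := ((s.out : ↥A) : G)
        have hx : x ∈ A := r.out.2
        have hy : y ∈ A := s.out.2
        have hd : x⁻¹ * y ∈ A := A.mul_mem (A.inv_mem hx) hy
        have h1 : ⁅x⁻¹ * y, z⁆ ∈ C₀ := by
          have h2 : ⁅y, z⁆ = x * ⁅x⁻¹ * y, z⁆ * x⁻¹ * ⁅x, z⁆ := by
            simp [commutatorElement_def, mul_assoc]
          have h3 : x * ⁅x⁻¹ * y, z⁆ * x⁻¹ ∈ C₀ := by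
            have h4 : x * ⁅x⁻¹ * y, z⁆ * x⁻¹ ∈ B :=
              (Subgroup.mem_normalizer_iff.mp (hAB hx) _).mp (comm_mem (hAB hd) hz)
            have e'' : ⁅x, z⁆⁻¹ * ⁅y, z⁆ ∈ C₀ := e'
            rw [h2, (hBc _ h4 _ (comm_mem (hAB hx) hz)).eq, inv_mul_cancel_left] at e''
            exact e''
          have h5 := Subgroup.mem_centralizer_iff.mp h3.2 x hx
          rw [show ⁅x⁻¹ * y, z⁆ = x⁻¹ * (x * ⁅x⁻¹ * y, z⁆ * x⁻¹ * x) by group, ← h5,
            inv_mul_cancel_left]
          exact h3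
        refine ⟨hd, ?_⟩
        show x⁻¹ * y ∈ Subgroup.centralizer _
        have : Timmesfeld.comm1 z A ≤ Subgroup.centralizer ({x⁻¹ * y} : Set G) := by
          refine (Subgroup.closure_le _).mpr ?_
          rintro _ ⟨c, hc, rfl⟩
          refine Subgroup.mem_centralizer_singleton_iff.mpr ?_
          have h6 : ⁅x⁻¹ * y, ⁅c, z⁆⁆ = 1 := by
            rw [comm_swap (h.commA hd hc) (hBc _ (comm_mem (hAB hd) hz) _ (comm_mem (hAB hc) hz)),
              comm_eq_one_iff]
            exact Subgroup.mem_centralizer_iff.mp h1.2 c hc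
          rw [← commutatorElement_inv c z]
          exact ((Commute.inv_right (comm_eq_one_iff.mp h6)).eq).symm
        exact fun w hw => (Subgroup.mem_centralizer_singleton_iff.mp (this hw))
      have hcard : Nat.card (↥N ⧸ C₀.subgroupOf N) ≤ Nat.card (↥A ⧸ R.subgroupOf A) := by
        have hA' : R.relIndex A * Nat.card R = Nat.card A := by
          have h' := Coprime.relIndex_mul_card_inf R A
          rwa [inf_eq_left.mpr (inf_le_left : R ≤ A)] at h'
        have hN' : C₀.relIndex N * Nat.card C₀ = Nat.card N := by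
          have h' := Coprime.relIndex_mul_card_inf C₀ N
          rwa [inf_eq_left.mpr (le_sup_right : C₀ ≤ N)] at h'
        have e : Nat.card R * Nat.card N = Nat.card A * Nat.card C₀ := by
          rw [Timmesfeld.meas, hf] at hm; exact hm
        rw [← hA', ← hN'] at e
        exact (Nat.eq_of_mul_eq_mul_right
          (show 0 < Nat.card R * Nat.card C₀ from Nat.mul_pos Nat.card_pos Nat.card_pos)
          (by rw [← mul_assoc] at e ⊢; linarith : C₀.relIndex N * (Nat.card R * Nat.card C₀) =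
            R.relIndex A * (Nat.card R * Nat.card C₀))).le
      have ht : ⁅a', ⁅a, z⁆⁆ ∈ N := by
        have h1 : A ≤ Subgroup.normalizer (N : Set G) := by
          rw [show N = Timmesfeld.fix B R from hf.symm]
          exact Coprime.le_normalizer_inf_of_le hAB (Coprime.le_normalizer_centralizer fun c hc =>
            Subgroup.centralizer_le_normalizer _ fun r hr => h.commA hr.1 hc)
        exact comm_mem (h1 ha') (hgen a ha)
      obtain ⟨r, hr⟩ := (hinj.bijective_of_nat_card_le hcard).2 (QuotientGroup.mk ⟨_, ht⟩)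
      refine ⟨_, (r.out).2, fun c hc => ?_⟩
      have e := Subgroup.mem_subgroupOf.mp (QuotientGroup.eq.mp hr)
      set u := ⁅((r.out : ↥A) : G), z⁆
      have hu : ⁅a', ⁅a, z⁆⁆ = u * (u⁻¹ * ⁅a', ⁅a, z⁆⁆) := by rw [mul_inv_cancel_left]
      have h7 : ⁅c, u⁻¹ * ⁅a', ⁅a, z⁆⁆⁆ = 1 :=
        comm_eq_one_iff.mpr (Subgroup.mem_centralizer_iff.mp e.2 c hc)
      rw [hu, comm_mul_right, h7, commutatorElement_one_right, mul_one, mul_one]
    refine ⟨b, ⟨hb, hD ⟨hb, ?_⟩⟩, hbz⟩
    have : Timmesfeld.comm1 q A ≤ Subgroup.centralizer ({b} : Set G) := by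
      refine (Subgroup.closure_le _).mpr ?_
      rintro _ ⟨c, hc, rfl⟩
      refine Subgroup.mem_centralizer_singleton_iff.mpr ?_
      have h6 : ⁅b, ⁅c, q⁆⁆ = 1 := by
        rw [show ⁅c, q⁆ = itd (P ++ [c]) z by rw [itd_append]; rfl,
          h.pushB hb _ (fun x hx => (List.mem_append.mp hx).elim (hP x)
            (by simp only [List.mem_singleton]; rintro rfl; exact hc)) hz]
        obtain ⟨p₁, P', rfl⟩ : ∃ p₁ P', P = p₁ :: P' := by
          cases P with
          | nil => simp at hPl; omega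
          | cons x xs => exact ⟨x, xs, rfl⟩
        rw [List.cons_append, itd_cons, ← hbz p₁ (hP p₁ List.mem_cons_self)]
        rw [show itd (P' ++ [c]) ⁅p₁, ⁅a', ⁅a, z⁆⁆⁆ = itd (a :: a' :: p₁ :: (P' ++ [c])) z from rfl]
        refine hk _ (by simp [ha, ha', hc]; exact ⟨hP p₁ List.mem_cons_self,
          fun x hx => hx.elim (fun hx => hP x (List.mem_cons_of_mem _ hx)) (fun e => e ▸ hc)⟩) (by simp at hPl ⊢; omega)
      rw [← commutatorElement_inv c q]
      exact ((Commute.inv_right (comm_eq_one_iff.mp h6)).eq).symm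
    exact fun w hw => (Subgroup.mem_centralizer_singleton_iff.mp (this hw))

theorem Setup.exists_square' [hp : Fact p.Prime] {z a a' : G} (hz : z ∈ zin C) (ha : a ∈ A)
    (ha' : a' ∈ A) : ∃ b ∈ A ⊓ D, ∀ c ∈ A, ⁅c, ⁅a', ⁅a, z⁆⁆⁆ = ⁅c, ⁅b, z⁆⁆ := by
  obtain ⟨n, hn⟩ := h.exists_kill
  exact h.exists_square n z hz (fun l hl e => hn z (h.zin_le_S hz) l hl e.ge) a ha a' ha'

/-- The dichotomy on `Z(C)`. -/
theorem Setup.dichotomy :
    (A ⊓ Subgroup.centralizer ((⁅zin C, A⁆ : Subgroup G) : Set G) ≤ D) ∨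
      ∀ z ∈ zin C, ∀ a ∈ A, ∀ c ∈ A, ⁅c, ⁅a, z⁆⁆ = 1 := by
  have hBc : ∀ x ∈ zin C, ∀ y ∈ zin C, Commute x y := fun x hx y hy => zin_commB hx hy
  have hAB : A ≤ Subgroup.normalizer (zin C : Set G) := fun c hc => h.normB hc
  have hWB : ⁅zin C, A⁆ ≤ zin C := Subgroup.commutator_le.mpr fun x hx c hc => by
    rw [← commutatorElement_inv c x]; exact Subgroup.inv_mem _ (comm_mem (h.normB hc) hx)
  have hR := Timmesfeld.replacement hBc hAB (h.hab h.zin_le_S hBc hAB)
    (h.meas_le h.zin_le_S hBc hAB) (U := zin C) le_rfl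
  refine (h.le_or_le h.zin_le_S hBc hAB hWB hR inf_le_left
    fun x hx w hw => h.inf_commB hx (hWB hw)).imp_right fun hle z hz a ha c hc => ?_
  refine comm_eq_one_iff.mpr (h.commA hc ?_)
  rw [← commutatorElement_inv z a]
  exact A.inv_mem (hle (Subgroup.commutator_mem_commutator hz ha))

/-- Degree four on `C / Z(C)` if the replacement falls into `D`. -/
theorem Setup.four [hp : Fact p.Prime]
    (hRD : A ⊓ Subgroup.centralizer ((⁅zin C, A⁆ : Subgroup G) : Set G) ≤ D) {v : G} (hv : v ∈ C)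
    {l : List G} (hl : ∀ a ∈ l, a ∈ A) (hlen : l.length = 4) : itd l v ∈ zin C := by
  match l, hlen with
  | [a, a', a'', c], _ =>
    simp only [List.mem_cons, List.not_mem_nil, or_false, forall_eq_or_imp, forall_eq] at hl
    obtain ⟨ha, ha', ha'', hc⟩ := hl
    set B := zin C with hBdef
    set W := ⁅B, A⁆ with hWdef
    set R := A ⊓ Subgroup.centralizer (W : Set G) with hRdef
    have hBc : ∀ x ∈ B, ∀ y ∈ B, Commute x y := fun x hx y hy => zin_commB hx hy
    have hAB : A ≤ Subgroup.normalizer (B : Set G) := fun c hc => h.normB hc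
    have hWB : W ≤ B := Subgroup.commutator_le.mpr fun x hx c hc => by
      rw [← commutatorElement_inv c x]; exact Subgroup.inv_mem _ (comm_mem (h.normB hc) hx)
    have hR := Timmesfeld.replacement hBc hAB (h.hab h.zin_le_S hBc hAB)
      (h.meas_le h.zin_le_S hBc hAB) (U := B) le_rfl
    set w := itd [a, a', a''] v with hw
    have hl3 : ∀ x ∈ [a, a', a''], x ∈ A := by simp [ha, ha', ha'']
    have hwC : w ∈ C := itd_mem _ (fun x hx => h.normC (hl3 x hx)) hv
    have hrw : ∀ r ∈ R, r * w = w * r := by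
      intro r hr
      have hrD : r ∈ A ⊓ D := ⟨hr.1, hRD hr⟩
      rw [← comm_eq_one_iff, hw, h.push hrD _ hl3 hv]
      obtain ⟨b, hb, hbe⟩ := h.exists_square' (h.commD hrD.2 hv) ha ha'
      show ⁅a'', ⁅a', ⁅a, ⁅r, v⁆⁆⁆⁆ = 1
      have hbv : ⁅b, v⁆ ∈ B := h.commD hb.2 hv
      rw [hbe a'' ha'', comm_swap (h.commA hb.1 hr.1) (zin_commB hbv (h.commD hrD.2 hv)),
        comm_swap (h.commA ha'' hr.1)
          (zin_commB (comm_mem (h.normB ha'') hbv) (comm_mem (h.normB hr.1) hbv)), comm_eq_one_iff]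
      have hW' : ⁅a'', ⁅b, v⁆⁆ ∈ W := by
        rw [← commutatorElement_inv ⁅b, v⁆ a'']
        exact W.inv_mem (Subgroup.commutator_mem_commutator hbv ha'')
      exact (Subgroup.mem_centralizer_iff.mp hr.2 _ hW').symm
    set N := W ⊔ Timmesfeld.fix B A with hN
    have hNB : N ≤ B := sup_le hWB inf_le_left
    have hmem := h.member h.zin_le_S hBc hAB hWB hR
    have hRN : R ≤ Subgroup.centralizer (N : Set G) := by
      rw [show N = Timmesfeld.fix B R from hR.2.symm, Subgroup.le_centralizer_iff]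
      exact inf_le_right
    have hnorm : R ≤ Subgroup.normalizer (N : Set G) :=
      hRN.trans (Subgroup.centralizer_le_normalizer _)
    have hwA : w ∈ R ⊔ N := ZJ.mem_of_commute hmem (h.leS (h.leD hwC)) (pow_zero w) fun x hx => by
      obtain ⟨n, hn, k, hk, rfl⟩ := ZJ.exists_mul_of_mem_sup hnorm (by rwa [sup_comm] at hx)
      rw [mul_assoc, hrw k hk, ← mul_assoc, zin_comm (hNB hn) hwC, mul_assoc]
    obtain ⟨n, hn, k, hk, hnk⟩ := ZJ.exists_mul_of_mem_sup hnorm (by rwa [sup_comm] at hwA)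
    show ⁅c, w⁆ ∈ B
    rw [← hnk, comm_mul_right, comm_eq_one_iff.mpr (h.commA hc hk.1), commutatorElement_one_right,
      mul_one, mul_one]
    exact comm_mem (h.normB hc) (hNB hn)

section quad

variable (hq : ∀ z ∈ zin C, ∀ a ∈ A, ∀ c ∈ A, ⁅c, ⁅a, z⁆⁆ = 1)

include hq

/-- The commutator pairing on iterated commutators, for a quadratic center. -/
theorem Setup.pairing : ∀ (l : List G) {x₀ y : G} {k : ℕ}, (∀ a ∈ l, a ∈ A) → x₀ ∈ C → y ∈ C →
    k ≤ l.length →
    (∀ l' : List G, (∀ a ∈ l', a ∈ A) → l'.length = k → itd l' y ∈ zin C) →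
    (∀ c ∈ A, ⁅c, ⁅itd l x₀, y⁆⁆ = 1) ∧ (k < l.length → ⁅itd l x₀, y⁆ = 1) := by
  intro l
  induction l using List.reverseRecOn with
  | nil =>
    intro x₀ y k _ hx hy hk hky
    have e : ⁅itd [] x₀, y⁆ = 1 := comm_eq_one_iff.mpr
      (zin_comm (hky [] (by simp) (Nat.le_zero.mp hk).symm) hx).symm
    exact ⟨fun c _ => by rw [e, commutatorElement_one_right], fun _ => e⟩
  | append_singleton l a ih =>
    intro x₀ y k hl hx₀ hy hk hky
    have ha : a ∈ A := hl a (by simp)
    have hl' : ∀ b ∈ l, b ∈ A := fun b hb => hl b (List.mem_append_left _ hb)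
    set x := itd l x₀ with hx
    have hxC : x ∈ C := itd_mem l (fun b hb => h.normC (hl' b hb)) hx₀
    have hxa : itd (l ++ [a]) x₀ = ⁅a, x⁆ := by rw [itd_append]; rfl
    rw [hxa]
    have haxC : ⁅a, x⁆ ∈ C := comm_mem (h.normC ha) hxC
    obtain rfl | ⟨j, rfl⟩ : k = 0 ∨ ∃ j, k = j + 1 := by
      cases k with
      | zero => exact Or.inl rfl
      | succ j => exact Or.inr ⟨j, rfl⟩
    · have e : ⁅⁅a, x⁆, y⁆ = 1 := comm_eq_one_iff.mpr (zin_comm (hky [] (by simp) rfl) haxC).symm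
      exact ⟨fun c _ => by rw [e, commutatorElement_one_right], fun _ => e⟩
    rw [List.length_append, List.length_singleton] at hk ⊢
    set d := ⁅a⁻¹, y⁆ with hd
    have hdC : d ∈ C := comm_mem (h.normC (A.inv_mem ha)) hy
    have hdk : ∀ l' : List G, (∀ b ∈ l', b ∈ A) → l'.length = j → itd l' d ∈ zin C :=
      fun l' hl'' e => by
        rw [hd, ← itd_cons]
        exact hky (a⁻¹ :: l') (by simpa [ha] using hl'') (by simp [e])
    obtain ⟨hμ, hμ'⟩ := ih hl' hx₀ hdC (by omega : j ≤ l.length) hdk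
    set μ := ⁅x, d⁆ with hμdef
    set ω := ⁅x, y⁆ with hω
    set g := ⁅⁅a, x⁆, y⁆ with hg
    have hB : ∀ {s t : G}, s ∈ C → t ∈ C → ⁅s, t⁆ ∈ zin C := fun hs ht =>
      h.commCC (Subgroup.commutator_mem_commutator hs ht)
    have hμB : μ ∈ zin C := hB hxC hdC
    have hωB : ω ∈ zin C := hB hxC hy
    have hgB : g ∈ zin C := hB haxC hy
    have haωB : ⁅a, ω⁆ ∈ zin C := comm_mem (h.normB ha) hωB
    -- `a` is an automorphism of the pairing
    have h1 : a * ⁅x, a⁻¹ * y * a⁆ * a⁻¹ = ω * g := by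
      rw [show a * ⁅x, a⁻¹ * y * a⁆ * a⁻¹ = ⁅⁅a, x⁆ * x, y⁆ by
          simp [commutatorElement_def, mul_assoc],
        show ⁅⁅a, x⁆ * x, y⁆ = ⁅a, x⁆ * ω * ⁅a, x⁆⁻¹ * g by
          simp [hω, hg, commutatorElement_def, mul_assoc],
        ← zin_comm hωB haxC, mul_inv_cancel_right]
    have h2 : ⁅x, a⁻¹ * y * a⁆ = μ * ω := by
      rw [show ⁅x, a⁻¹ * y * a⁆ = μ * (d * ω * d⁻¹) by
        simp [hμdef, hω, hd, commutatorElement_def, mul_assoc],
        ← zin_comm hωB hdC, mul_inv_cancel_right]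
    rw [h2, conj_eq_comm_mul, comm_mul_right, hμ a ha, one_mul,
      comm_eq_one_iff.mpr (zin_commB hμB haωB), one_mul, ← mul_assoc] at h1
    have h3 : g = μ * ⁅a, ω⁆ := by
      have e : ⁅a, ω⁆ * μ * ω = ω * g := h1
      rw [zin_commB (Subgroup.mul_mem _ haωB hμB) hωB, mul_right_inj] at e
      rw [← e, zin_commB hμB haωB]
    refine ⟨fun c hc => ?_, fun hlt => ?_⟩
    · rw [h3, comm_mul_right, hμ c hc, hq ω hωB a ha c hc, commutatorElement_one_right]
      simp
    · obtain ⟨hω1, -⟩ := ih hl' hx₀ hy (by omega : j + 1 ≤ l.length) hky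
      rw [h3, hμ' (by omega), hω1 a ha, mul_one]

/-- Six gives five on `C / Z(C)` for a quadratic center. -/
theorem Setup.five_of_six [hp : Fact p.Prime] {v : G} (hv : v ∈ C)
    (h6 : ∀ l : List G, (∀ a ∈ l, a ∈ A) → l.length = 6 → itd l v ∈ zin C)
    {l : List G} (hl : ∀ a ∈ l, a ∈ A) (hlen : l.length = 5) : itd l v ∈ zin C := by
  match l, hlen with
  | [a, a', a'', c, c'], _ =>
    simp only [List.mem_cons, List.not_mem_nil, or_false, forall_eq_or_imp, forall_eq] at hl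
    obtain ⟨ha, ha', ha'', hc, hc'⟩ := hl
    set w := itd [a, a', a''] v with hw
    have hl3 : ∀ x ∈ [a, a', a''], x ∈ A := by simp [ha, ha', ha'']
    have hwC : w ∈ C := itd_mem _ (fun x hx => h.normC (hl3 x hx)) hv
    have hwe : ∀ e ∈ A, w * ⁅e, w⁆ = ⁅e, w⁆ * w := by
      intro e he
      rw [← comm_eq_one_iff]
      refine (h.pairing hq [a, a', a''] hl3 hv (comm_mem (h.normC he) hwC) (k := 2) (by simp)
        fun l' hl' e' => ?_).2 (by simp)
      rw [← itd_cons, hw, ← itd_append]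
      exact h6 _ (by simp [ha, ha', ha'', he]; exact hl') (by simp [e'])
    set gens : Set G := (fun e : A => (e : G) * w * (e : G)⁻¹) '' Set.univ with hgens
    set Y := Subgroup.closure gens with hY
    have hconj : ∀ e ∈ A, ∀ e' ∈ A, Commute (e * w * e⁻¹) (e' * w * e'⁻¹) := by
      intro e he e' he'
      have h1 : Commute w (e⁻¹ * e' * w * (e⁻¹ * e')⁻¹) := by
        rw [conj_eq_comm_mul]
        exact Commute.mul_right (show Commute w _ from hwe _ (A.mul_mem (A.inv_mem he) he')) (Commute.refl w)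
      have h2 := h1.map (MulAut.conj e).toMonoidHom
      simpa [mul_assoc] using h2
    have hYc : ∀ x ∈ Y, ∀ y ∈ Y, Commute x y := by
      have h1 : Y ≤ Subgroup.centralizer (Y : Set G) := by
        rw [hY, Subgroup.centralizer_closure, Subgroup.closure_le]
        rintro _ ⟨⟨e, he⟩, -, rfl⟩
        rintro _ ⟨⟨e', he'⟩, -, rfl⟩
        exact (hconj e' he' e he).eq
      exact fun x hx y hy => (Subgroup.mem_centralizer_iff.mp (h1 hy) x hx)
    have hYC : Y ≤ C := (Subgroup.closure_le _).mpr <| by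
      rintro _ ⟨⟨e, he⟩, -, rfl⟩
      exact (Subgroup.mem_normalizer_iff.mp (h.normC he) w).mp hwC
    have hAY : A ≤ Subgroup.normalizer (Y : Set G) := by
      intro e he
      refine Subgroup.mem_normalizer_iff_map_conj_eq.mpr (Subgroup.eq_of_le_of_card_ge ?_
        (card_map_of_injOn _ (MulEquiv.injective (MulAut.conj e)).injOn).ge)
      rw [hY, MonoidHom.map_closure, Subgroup.closure_le]
      rintro _ ⟨_, ⟨⟨e', he'⟩, -, rfl⟩, rfl⟩
      refine Subgroup.subset_closure ⟨⟨e * e', A.mul_mem he he'⟩, trivial, ?_⟩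
      simp [mul_assoc]
    have hcen : ∀ r ∈ A ⊓ D, ∀ y ∈ Y, r * y = y * r := by
      intro r hr
      have h1 : Y ≤ Subgroup.centralizer ({r} : Set G) := by
        rw [hY, Subgroup.closure_le]
        rintro _ ⟨⟨e, he⟩, -, rfl⟩
        refine Subgroup.mem_centralizer_singleton_iff.mpr ?_
        have h2 : Commute r w := by
          refine comm_eq_one_iff.mp ?_
          rw [hw, h.push hr _ hl3 hv]
          show ⁅a'', ⁅a', ⁅a, ⁅r, v⁆⁆⁆⁆ = 1
          rw [hq _ (h.commD hr.2 hv) a ha a' ha', commutatorElement_one_right]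
        have h3 : Commute r e := h.commA hr.1 he
        exact (((h3.mul_right h2).mul_right h3.inv_right).eq).symm
      exact fun y hy => (Subgroup.mem_centralizer_singleton_iff.mp (h1 hy)).symm
    show ⁅c', ⁅c, w⁆⁆ ∈ zin C
    rw [h.quadratic_of_centralized hYC hYc hAY hcen hc hc'
      (Subgroup.subset_closure ⟨⟨1, A.one_mem⟩, trivial, by simp⟩)]
    exact Subgroup.one_mem _

/-- Degree five on `C / Z(C)` for a quadratic center. -/
theorem Setup.five [hp : Fact p.Prime] {v : G} (hv : v ∈ C) {l : List G} (hl : ∀ a ∈ l, a ∈ A)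
    (hlen : l.length = 5) : itd l v ∈ zin C := by
  obtain ⟨n, hn⟩ := h.exists_kill
  suffices H : ∀ d m : ℕ, 5 ≤ m → n ≤ m + d → ∀ u ∈ C, ∀ l : List G, (∀ a ∈ l, a ∈ A) →
      l.length = m → itd l u ∈ zin C from H n 5 le_rfl (by omega) v hv l hl hlen
  intro d
  induction d with
  | zero =>
    intro m _ hnm u hu l hl e
    rw [hn u (h.leS (h.leD hu)) l hl (by omega)]
    exact Subgroup.one_mem _
  | succ d ih =>
    intro m hm hnm u hu l hl e
    rw [← List.take_append_drop (m - 5) l, itd_append]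
    have hpre : ∀ a ∈ l.take (m - 5), a ∈ A := fun a ha => hl a (List.mem_of_mem_take ha)
    refine h.five_of_six hq (itd_mem _ (fun a ha => h.normC (hpre a ha)) hu) (fun l' hl' e' => ?_)
      (fun a ha => hl a (List.mem_of_mem_drop ha)) (by simp; omega)
    rw [← itd_append]
    exact ih (m + 1) (by omega) (by omega) u hu _
      (fun a ha => (List.mem_append.mp ha).elim (hpre a) (hl' a)) (by simp; omega)

end quad

omit h in
/-- An element of a largest abelian subgroup outside `O_p` of degree at most six. -/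
theorem exists_sextic [Finite G] [hp : Fact p.Prime] (T : Sylow p G) (D : Subgroup G) [D.Normal]
    (hDp : IsPGroup p D) (hJ : ¬ thompsonJ 0 (T : Subgroup G) ≤ D) :
    ∃ g : G, g ∈ (T : Subgroup G) ∧ g ∉ D ∧ ∀ U V : Subgroup G, Cfsg.IsChiefFactor U V → U ≤ D →
      Cfsg.iterCommutator U (Subgroup.zpowers g) 6 ≤ V := by
  classical
  obtain ⟨H, hH, -, hHc, hHC⟩ := Critical.exists_isCrit hDp
  haveI := hH
  set C := H.map D.subtype with hCdef
  have hCD : C ≤ D := Subgroup.map_subtype_le H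
  haveI : C.Normal := ConjAct.normal_of_characteristic_of_normal
  have hDC : ⁅D, C⁆ ≤ zin C := by
    rw [Subgroup.commutator_le]
    rintro t ht _ ⟨a, ha, rfl⟩
    have h1 := hHc (Subgroup.commutator_mem_commutator ha (Subgroup.mem_top (⟨t, ht⟩ : D)))
    rw [← commutatorElement_inv]
    refine (zin C).inv_mem ⟨⟨_, h1.1, by simp [commutatorElement_def]⟩, ?_⟩
    rintro _ ⟨b, hb, rfl⟩
    simpa [commutatorElement_def] using congrArg Subtype.val (h1.2 b hb)
  have hPC : D ⊓ Subgroup.centralizer (C : Set G) = zin C := by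
    refine le_antisymm (fun x hx => ⟨?_, hx.2⟩) (inf_le_inf_right _ hCD)
    have h1 : (⟨x, hx.1⟩ : D) ∈ H := hHC fun y hy =>
      Subtype.ext (hx.2 y (Subgroup.mem_map_of_mem _ hy))
    exact Subgroup.mem_map_of_mem D.subtype h1
  have hDT : D ≤ (T : Subgroup G) := IsPGroup.le_sylow_of_normal hDp T
  obtain ⟨A₁, hA₁, hA₁D⟩ : ∃ A₁ ∈ maxAbExp 0 (T : Subgroup G), ¬ A₁ ≤ D := by
    by_contra hall
    push Not at hall
    exact hJ (sSup_le hall)
  haveI : Fintype (Subgroup G) := Fintype.ofFinite _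
  obtain ⟨A, hA, hAmax⟩ := Finset.exists_max_image
    (Finset.univ.filter fun A : Subgroup G => A ∈ maxAbExp 0 (T : Subgroup G) ∧ ¬ A ≤ D)
    (fun A => Nat.card ↥(A ⊓ C)) ⟨A₁, by simp [hA₁, hA₁D]⟩
  simp only [Finset.mem_filter, Finset.mem_univ, true_and] at hA hAmax
  have h : Setup p (T : Subgroup G) D C A := ⟨T.2, hDT, hCD,
    Subgroup.le_normalizer_of_normal, hDC, hA.1, hA.2, fun A' h1 h2 => hAmax A' ⟨h1, h2⟩⟩
  obtain ⟨g, hgA, hgD⟩ := SetLike.not_le_iff_exists.mp hA.2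
  refine ⟨g, hA.1.1 hgA, hgD, fun U V hc hU => ?_⟩
  have hz : Subgroup.zpowers g ≤ A := Subgroup.zpowers_le.mpr hgA
  haveI hBn : (zin C).Normal := by rw [zin]; infer_instance
  -- a chief factor inside `Z(C)` modulo `V`, and `C` modulo `Z(C)`
  obtain ⟨i, j, hi, hij, hCi, hBj⟩ : ∃ i j : ℕ, 1 ≤ i ∧ i + j - 1 = 6 ∧
      (∀ v ∈ C, ∀ l : List G, (∀ a ∈ l, a ∈ A) → l.length = i → itd l v ∈ zin C) ∧
      ∀ U V : Subgroup G, Cfsg.IsChiefFactor U V → U ≤ D → ∀ z ∈ U ⊓ zin C, ∀ l : List G,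
        (∀ a ∈ l, a ∈ A) → (l.length = j ∨ l.length = i) → itd l z ∈ V := by
    rcases h.dichotomy with hRD | hq
    · refine ⟨4, 3, by omega, rfl, fun v hv l hl e => h.four hRD hv hl e,
        fun U V hc hU z hz l hl e => ?_⟩
      haveI := hc.2.2.1
      obtain ⟨a, a', c, l', rfl⟩ : ∃ a a' c l', l = a :: a' :: c :: l' := by
        match l, e with
        | a :: a' :: c :: l', _ => exact ⟨a, a', c, l', rfl⟩
      simp only [List.mem_cons, forall_eq_or_imp] at hl
      obtain ⟨b, hb, hbe⟩ := h.exists_square' hz.2 hl.1 hl.2.1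
      show itd l' ⁅c, ⁅a', ⁅a, z⁆⁆⁆ ∈ V
      rw [hbe c hl.2.2.1]
      refine itd_mem l' (fun x _ => by rw [Subgroup.normalizer_eq_top]; trivial)
        (comm_mem (by rw [Subgroup.normalizer_eq_top]; trivial) ?_)
      exact PStable.commutator_chief_le hDp hU hc (Subgroup.commutator_mem_commutator hb.2 hz.1)
    · refine ⟨5, 2, by omega, rfl, fun v hv l hl e => h.five hq hv hl e,
        fun U V hc hU z hz l hl e => ?_⟩
      obtain ⟨a, a', l', rfl⟩ : ∃ a a' l', l = a :: a' :: l' := by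
        match l, e with
        | a :: a' :: l', _ => exact ⟨a, a', l', rfl⟩
      simp only [List.mem_cons, forall_eq_or_imp] at hl
      rw [itd_cons, itd_cons, hq z hz.2 a hl.1 a' hl.2.1, itd_one]
      exact V.one_mem
  have hnorm : ∀ W : Subgroup G, W.Normal → Subgroup.zpowers g ≤ Subgroup.normalizer (W : Set G) :=
    fun W hW => by haveI := hW; rw [Subgroup.normalizer_eq_top]; exact le_top
  have hQi : ∀ U V : Subgroup G, Cfsg.IsChiefFactor U V → U ≤ C → PStable.itc g U i ≤ V := by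
    intro U V hc hU
    haveI := hc.2.1
    haveI := hc.2.2.1
    have hUU : ⁅U, U⁆ ≤ V := (Subgroup.commutator_mono (hU.trans hCD) le_rfl).trans
      (PStable.commutator_chief_le hDp (hU.trans hCD) hc)
    rcases hc.2.2.2 (U ⊓ (zin C ⊔ V)) inferInstance (le_inf hc.1.le le_sup_right) inf_le_left with e | e
    · refine (le_inf (PStable.iterCommutator_le i) ?_).trans e.le
      exact ((PStable.iterCommutator_mono hU i).trans (iterCommutator_le_of_itd h.commCC
        (hnorm C inferInstance) (hnorm _ hBn) i C le_rfl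
        fun w hw l hl el => hCi w hw l (fun a ha => hz (hl a ha)) el)).trans le_sup_left
    · have hsplit : U ≤ (U ⊓ zin C) ⊔ V := fun u hu => by
        obtain ⟨z, hzz, x, hx, rfl⟩ := Subgroup.mem_sup_of_normal_right.mp (inf_eq_left.mp e hu)
        exact Subgroup.mul_mem _ (Subgroup.mem_sup_left
          ⟨by simpa using U.mul_mem hu (U.inv_mem (hc.1.le hx)), hzz⟩) (Subgroup.mem_sup_right hx)
      refine ((PStable.iterCommutator_mono hsplit i).trans
        (PStable.iterCommutator_sup_le V i)).trans (sup_le ?_ le_rfl)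
      exact iterCommutator_le_of_itd hUU (hnorm U hc.2.1) (hnorm V hc.2.2.1) i _ inf_le_left
        fun w hw l hl el => hBj U V hc (hU.trans hCD) w hw l (fun a ha => hz (hl a ha)) (Or.inr el)
  have hZj : ∀ U V : Subgroup G, Cfsg.IsChiefFactor U V → U ≤ zin C → PStable.itc g U j ≤ V := by
    intro U V hc hU
    have hUD : U ≤ D := hU.trans (inf_le_left.trans hCD)
    exact iterCommutator_le_of_itd ((Subgroup.commutator_mono hUD le_rfl).trans
      (PStable.commutator_chief_le hDp hUD hc)) (hnorm U hc.2.1) (hnorm V hc.2.2.1) j U le_rfl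
      fun w hw l hl el => hBj U V hc hUD w ⟨hw, hU hw⟩ l (fun a ha => hz (hl a ha)) (Or.inl el)
  have hdeg := PStable.degBetween_of_centralizer (a := g) hDp hCD rfl hDC hPC hi hQi hZj
  rw [hij] at hdeg
  exact hdeg.apply hc hU

end CfsgLib.Conjugacy.JDeg
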