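import Mathlib
import Cfsg.Agent.Lib.Conjugacy.ThompsonDegree
import Cfsg.Agent.Lib.Conjugacy.JFiveAlg
import Cfsg.Agent.Lib.Coprime.Generation
import Cfsg.Agent.Lib.PStable.AbelianResidual

/-!
For `p ≥ 5`, in a constrained group with abelian `O^p` modulo `O_p`, the subgroup `J(T)` lies in
`O_p(G)`.
-/

set_option autoImplicit false
set_option linter.style.haveILetI false
set_option linter.unusedSectionVars false

open scoped commutatorElement

namespace CfsgLib.Conjugacy.JFive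

open CfsgLib.Transfer CfsgLib.Conjugacy.JDeg CfsgLib.Offender

universe u

variable {p : ℕ} [hp : Fact p.Prime] {G : Type u} [Group G] [Finite G]

/-- An element of `p'`-order in the image of `M` is the image of one of `p'`-order. -/
theorem exists_coprime_lift {H : Type*} [Group H] (π : G →* H) (M : Subgroup G) {r : H}
    (hr : r ∈ M.map π) (hro : (orderOf r).Coprime p) :
    ∃ k ∈ M, π k = r ∧ (orderOf k).Coprime p := by
  obtain ⟨z, hz, rfl⟩ := hr
  obtain ⟨i, m, -, -, hco, -⟩ := exists_pow_coprime_part (p := p) z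
  obtain ⟨j, hj⟩ := exists_pow_eq_self_of_coprime (n := p ^ i) (x := π z)
    (Nat.Coprime.pow_left i (Nat.Coprime.symm hro))
  exact ⟨(z ^ p ^ i) ^ j, M.pow_mem (M.pow_mem hz _) j, by rw [map_pow, map_pow, hj],
    hco.coprime_dvd_left (orderOf_pow_dvd j)⟩

theorem eq_bot_of_zpowers_double {Z : Subgroup G} [Z.Normal] (hZ : IsPGroup p Z) {k : G}
    (hk : (orderOf k).Coprime p) (h2 : ⁅⁅Z, Subgroup.zpowers k⁆, Subgroup.zpowers k⁆ = ⊥) :
    ⁅Z, Subgroup.zpowers k⁆ = ⊥ := by
  refine Coprime.commutator_eq_bot_of_commutator_commutator Subgroup.le_normalizer_of_normal ?_ h2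
  obtain ⟨n, hn⟩ := hZ.exists_card_eq
  rw [hn, Nat.card_zpowers]
  exact hk.pow_right n

/-- A `p'`-element centralizing all chief factors inside a normal `p`-subgroup centralizes it. -/
theorem centralizes_of_chief {k : G} (hk : (orderOf k).Coprime p) :
    ∀ (n : ℕ) (Z : Subgroup G), Z.Normal → IsPGroup p Z → Nat.card Z ≤ n →
      (∀ U V : Subgroup G, Cfsg.IsChiefFactor U V → U ≤ Z → ⁅U, Subgroup.zpowers k⁆ ≤ V) →
      ⁅Z, Subgroup.zpowers k⁆ = ⊥ := by
  intro n
  induction n with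
  | zero => exact fun Z _ _ h => absurd h (Nat.not_le.mpr Nat.card_pos)
  | succ n ih =>
    intro Z hZn hZp hn h
    rcases eq_or_ne Z ⊥ with rfl | hZ1
    · exact Subgroup.commutator_bot_left _
    obtain ⟨Z', hc, hlt⟩ := PStable.exists_chief_below hZn hZ1
    haveI := hZn
    refine eq_bot_of_zpowers_double hZp hk (le_bot_iff.mp ?_)
    refine (Subgroup.commutator_mono (h Z Z' hc le_rfl) le_rfl).trans ?_
    exact (ih Z' hc.2.2.1 (hZp.to_le hc.1.le) (by omega)
      fun U V hUV hU => h U V hUV (hU.trans hc.1.le)).le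

/-- An element of small degree on the chief factors in `Z` commutes with `O^p` of the quotient
modulo the image of `C(Z)`. -/
theorem engel_centralizer (hab : PStable.AbelianResidual p G) (D : Subgroup G) [D.Normal]
    {Z : Subgroup G} (hZn : Z.Normal) (hZp : IsPGroup p Z) {g : G} (hg : ∃ i, g ^ p ^ i = 1)
    (hdeg : ∀ U V : Subgroup G, Cfsg.IsChiefFactor U V → U ≤ Z →
      Cfsg.iterCommutator U (Subgroup.zpowers g) (p - 1) ≤ V)
    {r : G ⧸ D} (hr : r ∈ Cfsg.pResidual p (G ⧸ D))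
    (hR : (Nat.card (Cfsg.pResidual p (G ⧸ D))).Coprime p) :
    ⁅QuotientGroup.mk' D g, r⁆ ∈ (Subgroup.centralizer (Z : Set G)).map (QuotientGroup.mk' D) := by
  haveI hres := pResidual_normal p (G ⧸ D)
  set π := QuotientGroup.mk' D with hπ
  let M : Subgroup G :=
    { carrier := {x | ∀ U V : Subgroup G, Cfsg.IsChiefFactor U V → U ≤ Z → ∀ u ∈ U, ⁅x, u⁆ ∈ V}
      one_mem' := fun U V _ _ u _ => by rw [commutatorElement_one_left]; exact V.one_mem
      mul_mem' := fun {x y} hx hy U V hc hU u hu => by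
        rw [show ⁅x * y, u⁆ = x * ⁅y, u⁆ * x⁻¹ * ⁅x, u⁆ by simp [commutatorElement_def, mul_assoc]]
        exact V.mul_mem (hc.2.2.1.conj_mem _ (hy U V hc hU u hu) x) (hx U V hc hU u hu)
      inv_mem' := fun {x} hx U V hc hU u hu => by
        rw [show ⁅x⁻¹, u⁆ = x⁻¹ * ⁅x, u⁆⁻¹ * x⁻¹⁻¹ by simp [commutatorElement_def, mul_assoc]]
        exact hc.2.2.1.conj_mem _ (V.inv_mem (hx U V hc hU u hu)) _ }
  have hMn : M.Normal := ⟨fun x hx y U V hc hU u hu => by
    rw [show ⁅y * x * y⁻¹, u⁆ = y * ⁅x, y⁻¹ * u * y⁆ * y⁻¹ by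
      simp [commutatorElement_def, mul_assoc]]
    refine hc.2.2.1.conj_mem _ (hx U V hc hU _ ?_) y
    simpa using hc.2.1.conj_mem u hu y⁻¹⟩
  have hgM : g ∈ M := fun U V hc hU u hu => by
    obtain ⟨hlt, hUn, hVn, hmin⟩ := hc
    haveI := hUn
    haveI := hVn
    set f := QuotientGroup.mk' V with hf
    have hfs : Function.Surjective f := QuotientGroup.mk'_surjective V
    haveI : (U.map f).Normal := hUn.map f hfs
    have hmin' : ∀ N : Subgroup (G ⧸ V), N.Normal → N ≤ U.map f → N = ⊥ ∨ N = U.map f := by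
      intro N hN hNle
      have h1 : V ≤ N.comap f := by
        intro v hv
        rw [Subgroup.mem_comap, hf, QuotientGroup.mk'_apply, (QuotientGroup.eq_one_iff v).mpr hv]
        exact N.one_mem
      have h2 : N.comap f ≤ U := by
        refine (Subgroup.comap_mono hNle).trans ?_
        rw [Subgroup.comap_map_eq, hf, QuotientGroup.ker_mk']
        exact sup_le le_rfl hlt.le
      rcases hmin (N.comap f) (hN.comap f) h1 h2 with e | e
      · left
        rw [← Subgroup.map_comap_eq_self_of_surjective hfs N, e, hf, QuotientGroup.map_mk'_self]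
      · right
        rw [← Subgroup.map_comap_eq_self_of_surjective hfs N, e]
    obtain ⟨i, hi⟩ := hg
    have h := PStable.commutator_le_of_engel (hab.of_surjective f hfs) ((hZp.to_le hU).map f)
      hmin' (g := f g) ⟨i, by rw [← map_pow, hi, map_one]⟩ (by
        rw [← MonoidHom.map_zpowers, ← PStable.map_iterCommutator, Subgroup.map_eq_bot_iff, hf,
          QuotientGroup.ker_mk']
        exact hdeg U V ⟨hlt, hUn, hVn, hmin⟩ hU)
    rw [← QuotientGroup.eq_one_iff, ← QuotientGroup.mk'_apply, ← hf, map_commutatorElement,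
      commutatorElement_eq_one_iff_mul_comm]
    exact (h (f u) (Subgroup.mem_map_of_mem f hu)).symm
  haveI := hMn
  have hM' : ⁅π g, r⁆ ∈ M.map π := by
    obtain ⟨y, rfl⟩ := QuotientGroup.mk'_surjective D r
    refine ⟨⁅g, y⁆, ?_, map_commutatorElement π g y⟩
    exact (Subgroup.commutator_le_left M ⊤)
      (Subgroup.commutator_mem_commutator hgM (Subgroup.mem_top y))
  have hR' : ⁅π g, r⁆ ∈ Cfsg.pResidual p (G ⧸ D) :=
    (Subgroup.commutator_le_right ⊤ _) (Subgroup.commutator_mem_commutator (Subgroup.mem_top _) hr)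
  obtain ⟨k, hkM, hk, hko⟩ := exists_coprime_lift (p := p) π M hM'
    (hR.coprime_dvd_left (Subgroup.orderOf_dvd_natCard _ hR'))
  refine ⟨k, ?_, hk⟩
  have h := centralizes_of_chief (p := p) hko _ Z hZn hZp le_rfl fun U V hc hU => by
    refine Subgroup.commutator_le.mpr fun u hu t ht => ?_
    have htM : t ∈ M := Subgroup.zpowers_le.mpr hkM ht
    rw [← commutatorElement_inv t u]
    exact V.inv_mem (htM U V hc hU u hu)
  rw [Subgroup.commutator_comm] at h
  exact Subgroup.commutator_eq_bot_iff_le_centralizer.mp h (Subgroup.mem_zpowers k)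

/-- A `p'`-element trivial on `Z(C)` and on `C / Z(C)` lies in `D`. -/
theorem mem_of_trivial {D C : Subgroup G} [D.Normal] [C.Normal] (hDp : IsPGroup p D) (hCD : C ≤ D)
    (hDC : ⁅D, C⁆ ≤ zin C) (hPC : D ⊓ Subgroup.centralizer (C : Set G) = zin C)
    (hself : Subgroup.centralizer (D : Set G) ≤ D) {k : G} (hk : (orderOf k).Coprime p)
    (hB : ∀ z ∈ zin C, k * z = z * k) (hC : ∀ c ∈ C, ⁅k, c⁆ ∈ zin C) : k ∈ D := by
  set K := Subgroup.zpowers k
  haveI : (zin C).Normal := by rw [zin]; infer_instance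
  have hBK : ⁅zin C, K⁆ = ⊥ := by
    refine Subgroup.commutator_eq_bot_iff_le_centralizer.mpr fun z hz t ht => ?_
    obtain ⟨n, rfl⟩ := Subgroup.mem_zpowers_iff.mp ht
    exact ((show Commute k z from hB z hz).zpow_left n).eq
  have hCK : ⁅C, K⁆ ≤ zin C := by
    refine Subgroup.commutator_le.mpr fun c hc t ht => ?_
    rw [← commutatorElement_inv t c]
    refine Subgroup.inv_mem _ ?_
    have hle : K ≤ ((Subgroup.centralizer
        ((C.map (QuotientGroup.mk' (zin C)) : Subgroup (G ⧸ zin C)) : Set (G ⧸ zin C))).comap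
        (QuotientGroup.mk' (zin C))) := by
      refine Subgroup.zpowers_le.mpr ?_
      rintro _ ⟨e, he, rfl⟩
      have := (QuotientGroup.eq_one_iff _).mpr (hC e he)
      rw [← QuotientGroup.mk'_apply, map_commutatorElement,
        commutatorElement_eq_one_iff_mul_comm] at this
      exact this.symm
    rw [← QuotientGroup.eq_one_iff, ← QuotientGroup.mk'_apply, map_commutatorElement,
      commutatorElement_eq_one_iff_mul_comm]
    exact ((hle ht) _ (Subgroup.mem_map_of_mem _ hc)).symm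
  have hC1 : ⁅C, K⁆ = ⊥ := eq_bot_of_zpowers_double (hDp.to_le hCD) hk
    (le_bot_iff.mp ((Subgroup.commutator_mono hCK le_rfl).trans hBK.le))
  have h1 : ⁅⁅D, C⁆, K⁆ = ⊥ := le_bot_iff.mp ((Subgroup.commutator_mono hDC le_rfl).trans hBK.le)
  have h2 : ⁅⁅C, K⁆, D⁆ = ⊥ := by rw [hC1, Subgroup.commutator_bot_left]
  have h3 : ⁅⁅K, D⁆, C⁆ = ⊥ := Subgroup.commutator_commutator_eq_bot_of_rotate h1 h2
  have h4 : ⁅D, K⁆ ≤ C := by
    rw [Subgroup.commutator_comm]
    refine le_trans (le_inf (Subgroup.commutator_le_right K D) ?_)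
      (hPC.le.trans inf_le_left)
    exact Subgroup.commutator_eq_bot_iff_le_centralizer.mp h3
  have h5 : ⁅D, K⁆ = ⊥ := eq_bot_of_zpowers_double hDp hk
    (le_bot_iff.mp ((Subgroup.commutator_mono h4 le_rfl).trans hC1.le))
  rw [Subgroup.commutator_comm] at h5
  exact hself (Subgroup.commutator_eq_bot_iff_le_centralizer.mp h5 (Subgroup.mem_zpowers k))

section config

variable {D C A : Subgroup G} {T : Subgroup G}

/-- `D` acts trivially on `C / Z(C)`, so `G / D` acts. -/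
theorem exists_action (p : ℕ) [D.Normal] [C.Normal] (hCD : C ≤ D) (hDC : ⁅D, C⁆ ≤ zin C)
    (hCp : ∀ c ∈ C, c ^ p ∈ zin C) :
    ∃ (V : Type u) (_ : AddCommGroup V) (_ : Finite V) (mk : C → V)
      (φ : G ⧸ D →* AddMonoid.End V), Function.Surjective mk ∧ (∀ v : V, p • v = 0) ∧
      (∀ c d : C, mk (c * d) = mk c + mk d) ∧ (∀ c : C, mk c = 0 ↔ (c : G) ∈ zin C) ∧
      ∀ (g : G) (c : C) (h : g * (c : G) * g⁻¹ ∈ C),
        φ (QuotientGroup.mk' D g) (mk c) = mk ⟨g * (c : G) * g⁻¹, h⟩ := by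
  haveI hBn : (zin C).Normal := by rw [zin]; infer_instance
  set f := QuotientGroup.mk' (zin C) with hf
  have hfs : Function.Surjective f := QuotientGroup.mk'_surjective _
  set Cb := C.map f with hCb
  haveI : Cb.Normal := (inferInstance : C.Normal).map f hfs
  have hCC : ⁅C, C⁆ ≤ zin C := (Subgroup.commutator_mono hCD le_rfl).trans hDC
  have hcomm : ∀ x y : Cb, x * y = y * x := by
    rintro ⟨_, x, hx, rfl⟩ ⟨_, y, hy, rfl⟩
    refine Subtype.ext ?_
    show f x * f y = f y * f x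
    rw [← commutatorElement_eq_one_iff_mul_comm, ← map_commutatorElement, hf,
      QuotientGroup.mk'_apply, QuotientGroup.eq_one_iff]
    exact hCC (Subgroup.commutator_mem_commutator hx hy)
  letI : CommGroup Cb := { (inferInstance : Group Cb) with mul_comm := hcomm }
  let Φ : G →* AddMonoid.End (Additive Cb) :=
    { toFun := fun g => MonoidHom.toAdditive ((MulAut.conjNormal (f g) : MulAut Cb).toMonoidHom)
      map_one' := by rw [map_one, map_one]; rfl
      map_mul' := fun g h => by rw [map_mul, map_mul]; rfl }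
  have hΦ : ∀ (g : G) (v : Additive Cb),
      ((Additive.toMul (Φ g v) : Cb) : G ⧸ zin C) = f g * (Additive.toMul v : Cb) * (f g)⁻¹ :=
    fun g v => MulAut.conjNormal_apply _ _
  have hker : D ≤ Φ.ker := fun d hd => by
    refine DFunLike.ext _ _ fun v => Additive.toMul.injective (Subtype.ext ?_)
    rw [hΦ]
    obtain ⟨c, hc, he⟩ := (Additive.toMul v : Cb).2
    show _ = ((Additive.toMul v : Cb) : G ⧸ zin C)
    rw [← he, mul_inv_eq_iff_eq_mul, ← commutatorElement_eq_one_iff_mul_comm,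
      ← map_commutatorElement, hf, QuotientGroup.mk'_apply, QuotientGroup.eq_one_iff]
    exact hDC (Subgroup.commutator_mem_commutator hd hc)
  refine ⟨Additive Cb, inferInstance, inferInstance,
    fun c => Additive.ofMul ⟨f c, Subgroup.mem_map_of_mem f c.2⟩, QuotientGroup.lift D Φ hker,
    fun v => ?_, fun v => ?_, fun c d => ?_, fun c => ?_, fun g c h => ?_⟩
  · obtain ⟨c, hc, he⟩ := (Additive.toMul v : Cb).2
    exact ⟨⟨c, hc⟩, Additive.toMul.injective (Subtype.ext he)⟩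
  · obtain ⟨c, hc, he⟩ := (Additive.toMul v : Cb).2
    apply Additive.toMul.injective
    apply Subtype.ext
    show ((Additive.toMul v : Cb) : G ⧸ zin C) ^ p = 1
    rw [← he, ← map_pow, hf, QuotientGroup.mk'_apply, QuotientGroup.eq_one_iff]
    exact hCp c hc
  · apply Additive.toMul.injective
    apply Subtype.ext
    exact map_mul f (c : G) (d : G)
  · refine ⟨fun e => ?_, fun e => ?_⟩
    · rw [← QuotientGroup.eq_one_iff]
      exact congrArg Subtype.val (congrArg Additive.toMul e)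
    · apply Additive.toMul.injective
      exact Subtype.ext ((QuotientGroup.eq_one_iff _).mpr e)
  · apply Additive.toMul.injective
    apply Subtype.ext
    show ((Additive.toMul (Φ g _) : Cb) : G ⧸ zin C) = f (g * (c : G) * g⁻¹)
    rw [hΦ, map_mul, map_mul, map_inv]
    rfl

/-- The commutator pairing on `C / Z(C)`. -/
theorem exists_pairing [C.Normal] (hCC : ⁅C, C⁆ ≤ zin C) {V : Type*} [AddCommGroup V] (mk : C → V)
    (hmk : Function.Surjective mk) (hadd : ∀ c d : C, mk (c * d) = mk c + mk d)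
    (hzero : ∀ c : C, mk c = 0 ↔ (c : G) ∈ zin C) :
    ∃ (M : Type u) (_ : AddCommGroup M) (val : M → G) (β : V →+ V →+ M),
      Function.Injective val ∧ (∀ x, val x ∈ zin C) ∧ (∀ x y, val (x + y) = val x * val y) ∧
      ∀ c d : C, val (β (mk c) (mk d)) = ⁅(c : G), (d : G)⁆ := by
  letI : CommGroup (zin C) :=
    { (inferInstance : Group (zin C)) with mul_comm := fun x y => Subtype.ext (zin_commB x.2 y.2) }
  set out := Function.surjInv hmk
  have hout : ∀ v, mk (out v) = v := Function.surjInv_eq hmk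
  have hmem : ∀ c d : C, ⁅(c : G), (d : G)⁆ ∈ zin C := fun c d =>
    hCC (Subgroup.commutator_mem_commutator c.2 d.2)
  have hl : ∀ c c' d : C, mk c = mk c' → ⁅(c : G), (d : G)⁆ = ⁅(c' : G), (d : G)⁆ := by
    intro c c' d e
    have h0 : mk (c'⁻¹ * c) = 0 := by
      have h1 := hadd c' (c'⁻¹ * c)
      rw [mul_inv_cancel_left, e] at h1
      exact left_eq_add.mp h1
    have hz : (c' : G)⁻¹ * (c : G) ∈ zin C := (hzero _).mp h0
    set z := (c' : G)⁻¹ * (c : G) with hzdef
    rw [show (c : G) = (c' : G) * z by rw [hzdef, mul_inv_cancel_left],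
      show ⁅(c' : G) * z, (d : G)⁆ = (c' : G) * (z * (d : G) * z⁻¹ * (d : G)⁻¹) * (c' : G)⁻¹ *
        ⁅(c' : G), (d : G)⁆ by simp [commutatorElement_def, mul_assoc],
      zin_comm hz d.2, mul_inv_cancel_right, mul_inv_cancel, mul_one, mul_inv_cancel, one_mul]
  have hsk : ∀ c d : C, ⁅(c : G), (d : G)⁆ = ⁅(d : G), (c : G)⁆⁻¹ := fun c d =>
    (commutatorElement_inv _ _).symm
  have hwd : ∀ c d : C, ⁅(out (mk c) : G), (out (mk d) : G)⁆ = ⁅(c : G), (d : G)⁆ := fun c d => by
    rw [hl _ c _ (hout _), hsk, hl _ d _ (hout _), ← hsk]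
  have hbl : ∀ c c' d : C, ⁅((c * c' : C) : G), (d : G)⁆ = ⁅(c : G), (d : G)⁆ * ⁅(c' : G), (d : G)⁆ := by
    intro c c' d
    rw [Subgroup.coe_mul, show ⁅(c : G) * (c' : G), (d : G)⁆ = (c : G) * ⁅(c' : G), (d : G)⁆ *
      (c : G)⁻¹ * ⁅(c : G), (d : G)⁆ by simp [commutatorElement_def, mul_assoc],
      ← zin_comm (hmem c' d) c.2, mul_inv_cancel_right, zin_commB (hmem c' d) (hmem c d)]
  let b0 : V → V → Additive (zin C) := fun v w => Additive.ofMul ⟨_, hmem (out v) (out w)⟩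
  have hb0 : ∀ v w, ((Additive.toMul (b0 v w) : zin C) : G) = ⁅(out v : G), (out w : G)⁆ :=
    fun _ _ => rfl
  have haddl : ∀ v v' w, b0 (v + v') w = b0 v w + b0 v' w := by
    intro v v' w
    apply Additive.toMul.injective
    apply Subtype.ext
    rw [toMul_add, Subgroup.coe_mul, hb0, hb0, hb0]
    conv_lhs => rw [← hout v, ← hout v', ← hadd, ← hout w, hwd]
    exact hbl _ _ _
  have haddr : ∀ v w w', b0 v (w + w') = b0 v w + b0 v w' := by
    intro v w w'
    apply Additive.toMul.injective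
    apply Subtype.ext
    rw [toMul_add, Subgroup.coe_mul, hb0, hb0, hb0]
    conv_lhs => rw [← hout v, ← hout w, ← hout w', ← hadd, hwd]
    rw [hsk, hbl, mul_inv_rev, ← hsk, ← hsk, zin_commB (hmem _ _) (hmem _ _)]
  exact ⟨Additive (zin C), inferInstance, fun x => ((Additive.toMul x : zin C) : G),
    AddMonoidHom.mk' (fun v => AddMonoidHom.mk' (b0 v) (haddr v)) fun v v' =>
    AddMonoidHom.ext fun w => haddl v v' w,
    fun x y e => Additive.toMul.injective (Subtype.ext e), fun x => (Additive.toMul x : zin C).2,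
    fun x y => rfl, fun c d => hwd c d⟩

end config

/-- For `p ≥ 5` the Thompson subgroup of a constrained group with abelian residual lies in `O_p`. -/
theorem thompsonJ_le_pCore (hp5 : 5 ≤ p) (T : Sylow p G)
    (hself : Subgroup.centralizer (Cfsg.pCore p G : Set G) ≤ Cfsg.pCore p G)
    (hab : PStable.AbelianResidual p G) :
    thompsonJ 0 (T : Subgroup G) ≤ Cfsg.pCore p G := by
  classical
  haveI hDn := Fitting.pCore_normal (G := G) p
  set D := Cfsg.pCore p G with hD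
  have hDp : IsPGroup p D := Fitting.pCore_isPGroup p
  by_contra hJ
  set π := QuotientGroup.mk' D with hπ
  have hπs : Function.Surjective π := QuotientGroup.mk'_surjective D
  haveI := pResidual_normal p (G ⧸ D)
  set R := Cfsg.pResidual p (G ⧸ D) with hR
  have hcore : ∀ N : Subgroup (G ⧸ D), N.Normal → IsPGroup p N → N = ⊥ := by
    intro N hN hNp
    have h1 : N.comap π ≤ D := Fitting.le_pCore (hN.comap π)
      (hNp.comap_of_ker_isPGroup π (by rw [hπ, QuotientGroup.ker_mk']; exact hDp))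
    rw [← Subgroup.map_comap_eq_self_of_surjective hπs N, Subgroup.map_eq_bot_iff, hπ,
      QuotientGroup.ker_mk']
    exact h1
  have hRc : ∀ x ∈ R, ∀ y ∈ R, x * y = y * x := fun x hx y hy => by
    rw [← commutatorElement_eq_one_iff_mul_comm, ← Subgroup.mem_bot (G := G ⧸ D),
      ← hcore ⁅R, R⁆ inferInstance (hab.of_surjective π hπs)]
    exact Subgroup.commutator_mem_commutator hx hy
  have hRp : (Nat.card R).Coprime p := PStable.coprime_card_closure (fun x hx => hx) hRc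
  -- the configuration
  obtain ⟨H, hH, hHp, hHc, hHC⟩ := Critical.exists_isCrit hDp
  haveI := hH
  set C := H.map D.subtype with hCdef
  have hCD : C ≤ D := Subgroup.map_subtype_le H
  haveI : C.Normal := ConjAct.normal_of_characteristic_of_normal
  haveI hBn : (zin C).Normal := by rw [zin]; infer_instance
  have hDC : ⁅D, C⁆ ≤ zin C := by
    rw [Subgroup.commutator_le]
    rintro t ht _ ⟨a, ha, rfl⟩
    have h1 := hHc (Subgroup.commutator_mem_commutator ha (Subgroup.mem_top (⟨t, ht⟩ : D)))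
    rw [← commutatorElement_inv]
    refine (zin C).inv_mem ⟨⟨_, h1.1, by simp [commutatorElement_def]⟩, ?_⟩
    rintro _ ⟨b, hb, rfl⟩
    simpa [commutatorElement_def] using congrArg Subtype.val (h1.2 b hb)
  have hPC : D ⊓ Subgroup.centralizer (C : Set G) = zin C := by
    refine le_antisymm (fun x hx => ⟨?_, hx.2⟩) (inf_le_inf_right _ hCD)
    have h1 : (⟨x, hx.1⟩ : D) ∈ H := hHC fun y hy =>
      Subtype.ext (hx.2 y (Subgroup.mem_map_of_mem _ hy))
    exact Subgroup.mem_map_of_mem D.subtype h1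
  have hCp : ∀ c ∈ C, c ^ p ∈ zin C := by
    rintro _ ⟨a, ha, rfl⟩
    refine ⟨⟨_, (hHp a ha).1, by simp⟩, ?_⟩
    rintro _ ⟨b, hb, rfl⟩
    simpa using congrArg Subtype.val ((hHp a ha).2 b hb)
  have hDT : D ≤ (T : Subgroup G) := IsPGroup.le_sylow_of_normal hDp T
  obtain ⟨A₀, hA₀, hA₀D⟩ : ∃ A₁ ∈ maxAbExp 0 (T : Subgroup G), ¬ A₁ ≤ D := by
    by_contra hall
    push Not at hall
    exact hJ (sSup_le hall)
  haveI : Fintype (Subgroup G) := Fintype.ofFinite _
  obtain ⟨A, hA, hAmax⟩ := Finset.exists_max_image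
    (Finset.univ.filter fun A : Subgroup G => A ∈ maxAbExp 0 (T : Subgroup G) ∧ ¬ A ≤ D)
    (fun A => Nat.card ↥(A ⊓ C)) ⟨A₀, by simp [hA₀, hA₀D]⟩
  simp only [Finset.mem_filter, Finset.mem_univ, true_and] at hA hAmax
  have h : Setup p (T : Subgroup G) D C A := ⟨T.2, hDT, hCD,
    Subgroup.le_normalizer_of_normal, hDC, hA.1, hA.2, fun A' h1 h2 => hAmax A' ⟨h1, h2⟩⟩
  have hCp' : IsPGroup p C := hDp.to_le hCD
  have hBp : IsPGroup p (zin C) := hCp'.to_le inf_le_left
  have hApow : ∀ g ∈ A, ∃ i, g ^ p ^ i = 1 := fun g hg => by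
    obtain ⟨i, hi⟩ := T.2 ⟨g, hA.1.1 hg⟩
    exact ⟨i, by simpa using congrArg Subtype.val hi⟩
  -- the module
  obtain ⟨V, _, _, mk, φ, hmk, hVp, hmkadd, hmk0, hφmk⟩ := exists_action p hCD hDC hCp
  have hconjC : ∀ (g : G) (c : C), g * (c : G) * g⁻¹ ∈ C := fun g c =>
    (inferInstance : C.Normal).conj_mem _ c.2 g
  have hcmC : ∀ (g : G) (c : C), ⁅g, (c : G)⁆ ∈ C := fun g c =>
    comm_mem (by rw [Subgroup.normalizer_eq_top]; trivial) c.2
  have hsub : ∀ (g : G) (c : C), φ (π g) (mk c) - mk c = mk ⟨⁅g, (c : G)⁆, hcmC g c⟩ := fun g c => by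
    rw [sub_eq_iff_eq_add, ← hmkadd, hπ, hφmk g c (hconjC g c)]
    exact congrArg mk (Subtype.ext (conj_eq_comm_mul g (c : G)))
  have hfixmk : ∀ (g : G) (c : C), φ (π g) (mk c) = mk c ↔ ⁅g, (c : G)⁆ ∈ zin C := fun g c => by
    rw [← sub_eq_zero, hsub, hmk0]
  have hpowmk : ∀ (g : G) (n : ℕ) (c : C), ∃ hm : itd (List.replicate n g) (c : G) ∈ C,
      ((φ (π g) - 1 : AddMonoid.End V) ^ n) (mk c) = mk ⟨_, hm⟩ := by
    intro g n
    induction n with
    | zero => exact fun c => ⟨c.2, rfl⟩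
    | succ n ih =>
      intro c
      obtain ⟨hm, e⟩ := ih c
      have hm' : itd (List.replicate (n + 1) g) (c : G) = ⁅g, itd (List.replicate n g) (c : G)⁆ := by
        rw [List.replicate_succ', itd_append]; rfl
      refine ⟨hm'.symm ▸ hcmC g ⟨_, hm⟩, ?_⟩
      rw [pow_succ']
      show (φ (π g) - 1 : AddMonoid.End V) (((φ (π g) - 1 : AddMonoid.End V) ^ n) (mk c)) = _
      refine (congrArg _ e).trans ?_
      show φ (π g) (mk ⟨_, hm⟩) - mk ⟨_, hm⟩ = _
      rw [hsub]
      exact congrArg mk (Subtype.ext hm'.symm)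
  have hkill : ∀ r ∈ R, r ∈ (Subgroup.centralizer (zin C : Set G)).map π →
      (∀ v, φ r v = v) → r = 1 := by
    intro r hr hrB hrV
    obtain ⟨k, hkB, hk, hko⟩ := exists_coprime_lift (p := p) π _ hrB
      (hRp.coprime_dvd_left (Subgroup.orderOf_dvd_natCard _ hr))
    rw [← hk, hπ, QuotientGroup.mk'_apply, QuotientGroup.eq_one_iff]
    refine mem_of_trivial hDp hCD hDC hPC hself hko (fun z hz => (hkB z hz).symm) fun c hc => ?_
    exact (hfixmk k ⟨c, hc⟩).mp (by rw [hk]; exact hrV _)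
  have hinD : ∀ g ∈ A, (∀ r ∈ R, ⁅π g, r⁆ = 1) → g ∈ D := by
    intro g hg hgr
    obtain ⟨i, hi⟩ := hApow g hg
    rw [← QuotientGroup.eq_one_iff, ← QuotientGroup.mk'_apply, ← hπ]
    exact PStable.eq_one_of_centralizes_residual hcore hRc
      (fun r hr => (commutatorElement_eq_one_iff_mul_comm.mp (hgr r hr)).symm) (i := i)
      (by rw [← map_pow, hi, map_one])
  have hRcomm : ∀ (x : G ⧸ D), ∀ r ∈ R, ⁅x, r⁆ ∈ R := fun x r hr =>
    (Subgroup.commutator_le_right ⊤ R) (Subgroup.commutator_mem_commutator (Subgroup.mem_top x) hr)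
  rcases h.dichotomy with hRD | hq
  · -- degree four
    refine hA.2 fun g hg => hinD g hg fun r hr => ?_
    have hz : Subgroup.zpowers g ≤ A := Subgroup.zpowers_le.mpr hg
    have hnorm : ∀ W : Subgroup G, W.Normal → Subgroup.zpowers g ≤ Subgroup.normalizer (W : Set G) :=
      fun W hW => by haveI := hW; rw [Subgroup.normalizer_eq_top]; exact le_top
    have hdeg : ∀ U V : Subgroup G, Cfsg.IsChiefFactor U V → U ≤ C →
        Cfsg.iterCommutator U (Subgroup.zpowers g) (p - 1) ≤ V := by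
      intro U V hc hU
      haveI := hc.2.1
      haveI := hc.2.2.1
      refine (PStable.iterCommutator_antitone (show 4 ≤ p - 1 by omega)).trans ?_
      have hUU : ⁅U, U⁆ ≤ V := (Subgroup.commutator_mono (hU.trans hCD) le_rfl).trans
        (PStable.commutator_chief_le hDp (hU.trans hCD) hc)
      rcases hc.2.2.2 (U ⊓ (zin C ⊔ V)) inferInstance (le_inf hc.1.le le_sup_right) inf_le_left
        with e | e
      · refine (le_inf (PStable.iterCommutator_le 4) ?_).trans e.le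
        exact ((PStable.iterCommutator_mono hU 4).trans (iterCommutator_le_of_itd h.commCC
          (hnorm C inferInstance) (hnorm _ hBn) 4 C le_rfl
          fun w hw l hl el => h.four hRD hw (fun a ha => hz (hl a ha)) el)).trans le_sup_left
      · have hsplit : U ≤ (U ⊓ zin C) ⊔ V := fun u hu => by
          obtain ⟨z, hzz, x, hx, rfl⟩ := Subgroup.mem_sup_of_normal_right.mp (inf_eq_left.mp e hu)
          exact Subgroup.mul_mem _ (Subgroup.mem_sup_left
            ⟨by simpa using U.mul_mem hu (U.inv_mem (hc.1.le hx)), hzz⟩) (Subgroup.mem_sup_right hx)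
        refine ((PStable.iterCommutator_mono hsplit 4).trans
          (PStable.iterCommutator_sup_le V 4)).trans (sup_le ?_ le_rfl)
        refine iterCommutator_le_of_itd hUU (hnorm U hc.2.1) (hnorm V hc.2.2.1) 4 _ inf_le_left
          fun w hw l hl el => ?_
        obtain ⟨a, a', a'', a''', rfl⟩ : ∃ a a' a'' a''', l = [a, a', a'', a'''] := by
          match l, el with
          | [a, a', a'', a'''], _ => exact ⟨a, a', a'', a''', rfl⟩
        simp only [List.mem_cons, List.not_mem_nil, or_false, forall_eq_or_imp, forall_eq] at hl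
        obtain ⟨b, hb, hbe⟩ := h.exists_square' hw.2 (hz hl.1) (hz hl.2.1)
        show ⁅a''', ⁅a'', ⁅a', ⁅a, w⁆⁆⁆⁆ ∈ V
        rw [hbe a'' (hz hl.2.2.1)]
        refine comm_mem (by rw [Subgroup.normalizer_eq_top]; trivial)
          (comm_mem (by rw [Subgroup.normalizer_eq_top]; trivial) ?_)
        exact PStable.commutator_chief_le hDp (hU.trans hCD) hc
          (Subgroup.commutator_mem_commutator hb.2 hw.1)
    have hmem := engel_centralizer hab D inferInstance hCp' (hApow g hg) hdeg hr hRp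
    refine hkill _ (hRcomm _ r hr)
      (Subgroup.map_mono (Subgroup.centralizer_le (inf_le_left : zin C ≤ C)) hmem) fun v => ?_
    obtain ⟨c, rfl⟩ := hmk v
    obtain ⟨k, hk, hk'⟩ := hmem
    rw [← hk']
    refine (hfixmk k c).mpr ?_
    rw [comm_eq_one_iff.mpr (hk (c : G) c.2).symm]
    exact Subgroup.one_mem _
  -- the quadratic case
  have hCBn : ((Subgroup.centralizer (zin C : Set G)).map π).Normal :=
    (inferInstance : (Subgroup.centralizer (zin C : Set G)).Normal).map π hπs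
  have hcb : ∀ g ∈ A, ∀ r ∈ R, ⁅π g, r⁆ ∈ (Subgroup.centralizer (zin C : Set G)).map π := by
    intro g hg r hr
    have hz : Subgroup.zpowers g ≤ A := Subgroup.zpowers_le.mpr hg
    refine engel_centralizer hab D hBn hBp (hApow g hg) (fun U V hc hU => ?_) hr hRp
    haveI := hc.2.1
    haveI := hc.2.2.1
    refine (PStable.iterCommutator_antitone (show 2 ≤ p - 1 by omega)).trans ?_
    refine iterCommutator_le_of_itd ((Subgroup.commutator_mono (hU.trans (inf_le_left.trans hCD))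
      le_rfl).trans (PStable.commutator_chief_le hDp (hU.trans (inf_le_left.trans hCD)) hc))
      (by rw [Subgroup.normalizer_eq_top]; exact le_top) (by rw [Subgroup.normalizer_eq_top]; exact le_top)
      2 U le_rfl fun w hw l hl el => ?_
    obtain ⟨a, a', rfl⟩ : ∃ a a', l = [a, a'] := by
      match l, el with
      | [a, a'], _ => exact ⟨a, a', rfl⟩
    simp only [List.mem_cons, List.not_mem_nil, or_false, forall_eq_or_imp, forall_eq] at hl
    show ⁅a', ⁅a, w⁆⁆ ∈ V
    rw [hq w (hU hw) a (hz hl.1) a' (hz hl.2)]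
    exact V.one_mem
  have ht5 : ∀ g ∈ A, ∀ v : V, ((φ (π g) - 1 : AddMonoid.End V) ^ 5) v = 0 := by
    intro g hg v
    obtain ⟨c, rfl⟩ := hmk v
    obtain ⟨hm, e⟩ := hpowmk g 5 c
    rw [e, hmk0]
    exact h.five hq c.2 (fun a ha => (List.eq_of_mem_replicate ha) ▸ hg) (List.length_replicate ..)
  have hexp : ∀ g ∈ A, (π g) ^ p = 1 := by
    intro g hg
    rw [← map_pow, hπ, QuotientGroup.mk'_apply, QuotientGroup.eq_one_iff]
    refine hinD _ (A.pow_mem hg p) fun r hr => hkill _ (hRcomm _ r hr)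
      (hcb _ (A.pow_mem hg p) r hr) fun v => ?_
    rcases subsingleton_or_nontrivial V with hs | hn
    · exact Subsingleton.elim _ _
    haveI := Offender.charP_End hVp
    have h1 : φ (π (g ^ p)) = 1 := by
      rw [map_pow, map_pow, ← sub_eq_zero]
      conv_lhs => rw [← one_pow p]
      rw [← sub_pow_char_of_commute p (Commute.one_right _)]
      refine pow_eq_zero_of_le hp5 (DFunLike.ext _ _ fun w => ?_)
      exact ht5 g hg w
    have h2 : φ ⁅π (g ^ p), r⁆ = 1 := by
      rw [commutatorElement_def, map_mul, map_mul, map_mul, h1, one_mul]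
      have h3 : φ (π (g ^ p))⁻¹ = 1 := by
        have := map_mul φ (π (g ^ p))⁻¹ (π (g ^ p))
        rw [inv_mul_cancel, map_one, h1, mul_one] at this
        exact this.symm
      rw [h3, mul_one, ← map_mul, mul_inv_cancel, map_one]
    rw [h2]
    rfl
  -- the hyperplane
  set Ab := A.map π with hAb
  haveI hAcomm : IsMulCommutative A := h.mem.2.1.1
  haveI hAbc : IsMulCommutative Ab := Subgroup.map_isMulCommutative A π
  have hAbexp : ∀ x ∈ Ab, x ^ p = 1 := by
    rintro _ ⟨g, hg, rfl⟩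
    exact hexp g hg
  have hAbp : IsPGroup p Ab := fun x => ⟨1, Subtype.ext (by simpa using hAbexp x x.2)⟩
  obtain ⟨B', hB'A, hB'idx, r₀, hr₀, hr₀B', hr₀A⟩ : ∃ B' ≤ Ab, B'.relIndex Ab ≤ p ∧ ∃ r₀ ∈ R,
      r₀ ∈ Subgroup.centralizer (B' : Set (G ⧸ D)) ∧
      r₀ ∉ Subgroup.centralizer (Ab : Set (G ⧸ D)) := by
    by_contra hall
    push Not at hall
    have hRle : R ≤ Subgroup.centralizer (Ab : Set (G ⧸ D)) := by
      obtain ⟨k, hk⟩ := hAbp.exists_card_eq
      rcases Nat.lt_or_ge k 2 with hk2 | hk2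
      · intro r hr
        refine hall ⊥ bot_le ?_ r hr (fun x hx => by rw [Subgroup.mem_bot.mp hx, one_mul, mul_one])
        rw [Subgroup.relIndex_bot_left, hk]
        calc p ^ k ≤ p ^ 1 := Nat.pow_le_pow_right hp.out.pos (by omega)
          _ = p := pow_one p
      · exact (Coprime.le_of_hyperplane_centralizer_le (p := p) (K := R)
          (Y := R ⊓ Subgroup.centralizer (Ab : Set (G ⧸ D))) hAbc hAbexp
          (hk ▸ Nat.pow_le_pow_right hp.out.pos hk2) Subgroup.le_normalizer_of_normal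
          (hk ▸ (hRp.symm.pow_left k))
          fun B hB hBi r hr => ⟨hr.1, hall B hB hBi r hr.1 hr.2⟩).trans inf_le_right
    exact hA.2 fun g hg => hinD g hg fun r hr =>
      comm_eq_one_iff.mpr ((hRle hr) (π g) (Subgroup.mem_map_of_mem π hg))
  obtain ⟨a, ha, har⟩ : ∃ a ∈ A, ⁅π a, r₀⁆ ≠ 1 := by
    by_contra hall
    push Not at hall
    refine hr₀A ?_
    rintro _ ⟨g, hg, rfl⟩
    exact comm_eq_one_iff.mp (hall g hg)
  have hAbcomm : ∀ x ∈ Ab, ∀ y ∈ Ab, x * y = y * x := fun x hx y hy =>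
    congrArg Subtype.val (mul_comm' (⟨x, hx⟩ : Ab) ⟨y, hy⟩)
  have hab' : π a ∈ Ab := Subgroup.mem_map_of_mem π ha
  have haB' : π a ∉ B' := fun hmem => har (comm_eq_one_iff.mpr (hr₀B' _ hmem))
  have hgenAb : B' ⊔ Subgroup.zpowers (π a) = Ab := by
    set K := B' ⊔ Subgroup.zpowers (π a) with hK
    have hle : K ≤ Ab := sup_le hB'A (Subgroup.zpowers_le.mpr hab')
    have hlt : B' ≤ K := le_sup_left
    refine Subgroup.eq_of_le_of_card_ge hle ?_
    have e1 := Coprime.relIndex_mul_card_inf B' Ab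
    rw [inf_eq_left.mpr hB'A] at e1
    have e2 := Coprime.relIndex_mul_card_inf B' K
    rw [inf_eq_left.mpr hlt] at e2
    obtain ⟨k, hk⟩ := (hAbp.to_le hle).exists_card_eq
    obtain ⟨j, -, hj⟩ := (Nat.dvd_prime_pow hp.out).mp (hk ▸ (Dvd.intro _ e2) :
      B'.relIndex K ∣ p ^ k)
    have hj1 : j ≠ 0 := fun e => haB' (by
      rw [e, pow_zero] at hj
      exact (Subgroup.relIndex_eq_one.mp hj) (Subgroup.mem_sup_right (Subgroup.mem_zpowers _)))
    have hpj : p ≤ B'.relIndex K := hj ▸ Nat.le_self_pow hj1 p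
    calc Nat.card Ab = B'.relIndex Ab * Nat.card B' := e1.symm
      _ ≤ B'.relIndex K * Nat.card B' := Nat.mul_le_mul_right _ (hB'idx.trans hpj)
      _ = Nat.card K := e2
  set A₁ := A ⊓ B'.comap π with hA₁
  have hdecomp : ∀ e ∈ A, ∃ e₁ ∈ A₁, ∃ n : ℤ, e = e₁ * a ^ n := by
    intro e he
    have he' : π e ∈ Subgroup.zpowers (π a) ⊔ B' := by
      rw [sup_comm, hgenAb]; exact Subgroup.mem_map_of_mem π he
    obtain ⟨b, hb, z, hz, hbz⟩ := ZJ.exists_mul_of_mem_sup (N := B') (H := Subgroup.zpowers (π a))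
      (fun z hz => Subgroup.centralizer_le_normalizer _ fun b hb =>
        hAbcomm b (hB'A hb) z (Subgroup.zpowers_le.mpr hab' hz))
      (by rwa [sup_comm] at he')
    obtain ⟨n, rfl⟩ := Subgroup.mem_zpowers_iff.mp hz
    refine ⟨e * (a ^ n)⁻¹, ⟨A.mul_mem he (A.inv_mem (A.zpow_mem ha n)), ?_⟩, n,
      (inv_mul_cancel_right e (a ^ n)).symm⟩
    show π (e * (a ^ n)⁻¹) ∈ B'
    rw [map_mul, map_inv, map_zpow, ← hbz, mul_inv_cancel_right]
    exact hb
  have hidx : A₁.relIndex A ≤ p := by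
    rw [hA₁, inf_comm, Subgroup.inf_relIndex_right, Subgroup.relIndex_comap]
    exact hB'idx
  -- the `p'`-group
  set Y := R ⊓ (Subgroup.centralizer (zin C : Set G)).map π ⊓
    Subgroup.centralizer (B' : Set (G ⧸ D)) with hY
  have hYc : ∀ x ∈ Y, ∀ y ∈ Y, x * y = y * x := fun x hx y hy => hRc x hx.1.1 y hy.1.1
  have hYp : (Nat.card Y).Coprime p :=
    hRp.coprime_dvd_left (Subgroup.card_dvd_of_le (inf_le_left.trans inf_le_left))
  have hconjY : ∀ x ∈ Ab, ∀ y ∈ Y, x * y * x⁻¹ ∈ Y := by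
    intro x hx y hy
    refine ⟨⟨(inferInstance : R.Normal).conj_mem _ hy.1.1 x, hCBn.conj_mem _ hy.1.2 x⟩, fun b hb => ?_⟩
    have h1 : Commute b x := hAbcomm b (hB'A hb) x hx
    have h2 : Commute b y := hy.2 b hb
    exact ((h1.mul_right h2).mul_right h1.inv_right).eq
  have haY : π a ∈ Subgroup.normalizer (Y : Set (G ⧸ D)) :=
    Subgroup.mem_normalizer_iff.mpr fun y => ⟨hconjY _ hab' y, fun hy => by
      have := hconjY _ (Ab.inv_mem hab') _ hy
      simpa [mul_assoc] using this⟩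
  set y₀ := ⁅π a, r₀⁆ with hy₀def
  have hy₀ : y₀ ∈ Y := by
    refine ⟨⟨hRcomm _ r₀ hr₀, hcb a ha r₀ hr₀⟩, fun b hb => ?_⟩
    have h1 : Commute b (π a) := hAbcomm b (hB'A hb) _ hab'
    have h2 : Commute b r₀ := hr₀B' b hb
    exact (((h1.mul_right h2).mul_right h1.inv_right).mul_right h2.inv_right).eq
  set q := π a * y₀ * (π a)⁻¹ * y₀⁻¹ with hqdef
  have hqY : q ∈ Y := Y.mul_mem (hconjY _ hab' _ hy₀) (Y.inv_mem hy₀)
  have hq1 : q ≠ 1 := fun e => by
    have hcomm : π a * y₀ = y₀ * π a := by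
      rw [hqdef, mul_inv_eq_one, mul_inv_eq_iff_eq_mul] at e
      exact e
    have h1 := Coprime.pow_conj_eq (a := π a) (k := r₀) (d := y₀)
      (by rw [hy₀def]; exact conj_eq_comm_mul _ _) hcomm p
    rw [hexp a ha, one_mul, inv_one, mul_one, eq_comm, mul_eq_right] at h1
    refine har (orderOf_eq_one_iff.mp (Nat.eq_one_of_dvd_coprimes
      (hRp.coprime_dvd_left (Subgroup.orderOf_dvd_natCard R (hRcomm _ r₀ hr₀))) dvd_rfl
      (orderOf_dvd_of_pow_eq_one h1)))
  -- the first subspace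
  let W₁ : AddSubgroup V :=
    { carrier := {x | ∀ b ∈ B', φ b x = x}
      zero_mem' := fun b _ => map_zero _
      add_mem' := fun {x y} hx hy b hb => by rw [map_add, hx b hb, hy b hb]
      neg_mem' := fun {x} hx b hb => by rw [map_neg, hx b hb] }
  have hcommφ : ∀ {x y : G ⧸ D}, x * y = y * x → ∀ v, φ x (φ y v) = φ y (φ x v) := by
    intro x y e v
    show (φ x * φ y) v = (φ y * φ x) v
    rw [← map_mul, e, map_mul]
  have haW₁ : ∀ w ∈ W₁, φ (π a) w ∈ W₁ := fun w hw b hb => by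
    rw [hcommφ (hAbcomm b (hB'A hb) _ hab'), hw b hb]
  have hyW₁ : ∀ y ∈ Y, ∀ w ∈ W₁, φ y w ∈ W₁ := fun y hy w hw b hb => by
    rw [hcommφ (hy.2 b hb), hw b hb]
  have hbW₁ : ∀ e ∈ A₁, ∀ c : C, mk c ∈ W₁ → ⁅e, (c : G)⁆ ∈ zin C := fun e he c hc =>
    (hfixmk e c).mp (hc _ he.2)
  -- fixed points of the replaced elements
  have hfix2 : ∀ e ∈ A, ∀ c ∈ C, ⁅e, c⁆ ∈ zin C → ⁅e, itd [a, a] c⁆ = 1 := by
    intro e he c hc hec
    have hstep : ∀ x ∈ C, ⁅e, x⁆ ∈ zin C → ⁅e, ⁅a, x⁆⁆ = ⁅a, ⁅e, x⁆⁆ := fun x hx hx' =>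
      comm_swap (h.commA he ha) (zin_comm hx' (comm_mem (h.normC ha) hx))
    show ⁅e, ⁅a, ⁅a, c⁆⁆⁆ = 1
    rw [hstep _ (comm_mem (h.normC ha) hc) (by rw [hstep c hc hec]; exact comm_mem (h.normB ha) hec),
      hstep c hc hec]
    exact hq _ hec a ha a ha
  have hgen : ∀ (l : List G) (W : AddSubgroup V), (∀ x ∈ l, x = a) → (∀ w ∈ W, φ (π a) w ∈ W) →
      W ≤ W₁ → (∀ e ∈ A₁, ∀ c : C, mk c ∈ W → e * itd l (c : G) = itd l (c : G) * e) →
      A ≤ Subgroup.normalizer
        (Subgroup.closure {w | ∃ c : C, mk c ∈ W ∧ itd l (c : G) = w} : Set G) := by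
    intro l W hl hW _ hfix e he
    set K := Subgroup.closure {w | ∃ c : C, mk c ∈ W ∧ itd l (c : G) = w}
    obtain ⟨e₁, he₁, n, rfl⟩ := hdecomp e he
    refine Subgroup.mul_mem _ (Subgroup.centralizer_le_normalizer _ ?_) (Subgroup.zpow_mem _ ?_ n)
    · rw [Subgroup.centralizer_closure]
      rintro _ ⟨c, hc, rfl⟩
      exact (hfix e₁ he₁ c hc).symm
    · refine Subgroup.mem_normalizer_iff_map_conj_eq.mpr (Subgroup.eq_of_le_of_card_ge ?_
        (card_map_of_injOn _ (MulEquiv.injective (MulAut.conj a)).injOn).ge)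
      rw [MonoidHom.map_closure, Subgroup.closure_le]
      rintro _ ⟨_, ⟨c, hc, rfl⟩, rfl⟩
      refine Subgroup.subset_closure ⟨⟨a * (c : G) * a⁻¹, hconjC a c⟩, ?_, ?_⟩
      · rw [← hφmk a c (hconjC a c)]; exact hW _ hc
      · exact itd_conj l (c : G) fun x hx => by rw [hl x hx]
  -- rank one of the fourth power
  set Y₁ := Subgroup.closure {w | ∃ c : C, mk c ∈ W₁ ∧ itd [a, a, a] (c : G) = w} with hY₁
  have hw3C : ∀ c : C, itd [a, a, a] (c : G) ∈ C := fun c =>
    itd_mem _ (fun x hx => by rw [Subgroup.normalizer_eq_top]; trivial) c.2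
  have hY₁C : Y₁ ≤ C := (Subgroup.closure_le _).mpr (by rintro _ ⟨c, -, rfl⟩; exact hw3C c)
  have hY₁S : Y₁ ≤ (T : Subgroup G) := hY₁C.trans (hCD.trans hDT)
  have hY₁c : ∀ x ∈ Y₁, ∀ y ∈ Y₁, Commute x y := by
    have h1 : Y₁ ≤ Subgroup.centralizer (Y₁ : Set G) := by
      rw [hY₁, Subgroup.centralizer_closure, Subgroup.closure_le]
      rintro _ ⟨c, -, rfl⟩ _ ⟨c', -, rfl⟩
      refine comm_eq_one_iff.mp ((h.pairing hq [a, a, a] (by simp [ha]) c'.2 (hw3C c) (k := 2)
        (by simp) fun l' hl' e' => ?_).2 (by simp))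
      rw [← itd_append]
      exact h.five hq c.2 (by simpa [ha] using hl') (by simp [e'])
    exact fun x hx y hy => Subgroup.mem_centralizer_iff.mp (h1 hy) x hx
  have hfix3 : ∀ e ∈ A₁, ∀ c : C, mk c ∈ W₁ →
      e * itd [a, a, a] (c : G) = itd [a, a, a] (c : G) * e := by
    intro e he c hc
    rw [← comm_eq_one_iff, show [a, a, a] = [a, a] ++ [a] from rfl, itd_append, itd_cons, itd_nil]
    have h2 := hfix2 e he.1 c c.2 (hbW₁ e he c hc)
    rw [comm_eq_one_iff] at h2 ⊢
    exact (((show Commute e a from h.commA he.1 ha).mul_right h2).mul_right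
      (show Commute e a from h.commA he.1 ha).inv_right).mul_right (Commute.inv_right h2) |>.eq
  have hAY₁ : A ≤ Subgroup.normalizer (Y₁ : Set G) :=
    hgen _ W₁ (by simp) haW₁ le_rfl hfix3
  have hfixY₁ : Timmesfeld.fix Y₁ A₁ = Y₁ := inf_eq_left.mpr (by
    rw [hY₁, Subgroup.closure_le]
    rintro _ ⟨c, hc, rfl⟩
    exact fun e he => hfix3 e he c hc)
  have hmeas := h.meas_le hY₁S hY₁c hAY₁ A₁ inf_le_left
  rw [Timmesfeld.meas, Timmesfeld.meas, hfixY₁] at hmeas
  let f : Additive Y₁ →+ V := AddMonoidHom.mk'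
    (fun y => mk ⟨⁅a, ((Additive.toMul y : Y₁) : G)⁆, hcmC a ⟨_, hY₁C (Additive.toMul y : Y₁).2⟩⟩)
    fun x y => by
      set x' := ((Additive.toMul x : Y₁) : G)
      set y' := ((Additive.toMul y : Y₁) : G)
      have hx' : x' ∈ C := hY₁C (Additive.toMul x : Y₁).2
      have hy' : y' ∈ C := hY₁C (Additive.toMul y : Y₁).2
      have hz : ⁅x', ⁅a, y'⁆⁆ ∈ zin C :=
        h.commCC (Subgroup.commutator_mem_commutator hx' (hcmC a ⟨y', hy'⟩))
      have hzero : mk ⟨⁅x', ⁅a, y'⁆⁆, hz.1⟩ = 0 := (hmk0 _).mpr hz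
      conv_rhs => rw [← add_zero (mk ⟨⁅a, x'⁆, hcmC a ⟨x', hx'⟩⟩), ← hzero, ← hmkadd, ← hmkadd]
      exact congrArg mk (Subtype.ext (comm_mul_right a x' y'))
  set L := f.range with hLdef
  have hL : Nat.card L ≤ p := by
    have e1 : Nat.card L * Nat.card f.ker = Nat.card Y₁ := by
      rw [hLdef, ← Nat.card_congr (QuotientAddGroup.quotientKerEquivRange f).toEquiv,
        ← AddSubgroup.card_eq_card_quotient_mul_card_addSubgroup]
      exact Nat.card_congr Additive.toMul
    have e2 : Nat.card ↥(Timmesfeld.fix Y₁ A) ≤ Nat.card f.ker := by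
      refine Nat.card_le_card_of_injective
        (fun y => (⟨Additive.ofMul ⟨(y : G), y.2.1⟩, ?_⟩ : f.ker)) ?_
      · refine (hmk0 _).mpr ?_
        show ⁅a, (y : G)⁆ ∈ zin C
        rw [comm_eq_one_iff.mpr (y.2.2 a ha)]
        exact Subgroup.one_mem _
      · intro y y' e
        exact Subtype.ext (congrArg (fun z : f.ker =>
          ((Additive.toMul (z : Additive Y₁) : Y₁) : G)) e)
    have e3 : A₁.relIndex A * Nat.card A₁ = Nat.card A := by
      have := Coprime.relIndex_mul_card_inf A₁ A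
      rwa [inf_eq_left.mpr (inf_le_left : A₁ ≤ A)] at this
    refine Nat.le_of_mul_le_mul_right ?_
      (Nat.mul_pos (Nat.card_pos (α := A₁)) (Nat.card_pos (α := f.ker)))
    calc Nat.card L * (Nat.card A₁ * Nat.card f.ker) = Nat.card A₁ * Nat.card Y₁ := by
          rw [← e1]; ring
      _ ≤ Nat.card A * Nat.card ↥(Timmesfeld.fix Y₁ A) := hmeas
      _ ≤ (p * Nat.card A₁) * Nat.card f.ker :=
          Nat.mul_le_mul (e3 ▸ Nat.mul_le_mul_right _ hidx) e2
      _ = p * (Nat.card A₁ * Nat.card f.ker) := by ring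
  have h4 : ∀ x ∈ W₁, ((φ (π a) - 1 : AddMonoid.End V) ^ 4) x ∈ L := by
    intro x hx
    obtain ⟨c, rfl⟩ := hmk x
    obtain ⟨hm, e⟩ := hpowmk a 4 c
    refine ⟨Additive.ofMul ⟨_, Subgroup.subset_closure ⟨c, hx, rfl⟩⟩, ?_⟩
    rw [e]
    rfl
  -- the pairing
  obtain ⟨M, _, val, β, hvinj, hvmem, hvadd, hβ⟩ := exists_pairing h.commCC mk hmk hmkadd hmk0
  have hv0 : val 0 = 1 := by
    have h := hvadd 0 0
    rw [add_zero] at h
    exact left_eq_mul.mp h
  have hvneg : ∀ m, val (-m) = (val m)⁻¹ := fun m => eq_inv_of_mul_eq_one_left (by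
    rw [← hvadd, neg_add_cancel, hv0])
  let N₁ : AddSubgroup M :=
    { carrier := {m | ∃ z ∈ zin C, val m = ⁅a, z⁆}
      zero_mem' := ⟨1, Subgroup.one_mem _, by rw [hv0, commutatorElement_one_right]⟩
      add_mem' := fun {m m'} => by
        rintro ⟨z, hz, hm⟩ ⟨z', hz', hm'⟩
        refine ⟨z * z', Subgroup.mul_mem _ hz hz', ?_⟩
        rw [hvadd, hm, hm', comm_mul_right,
          comm_eq_one_iff.mpr (zin_commB hz (comm_mem (h.normB ha) hz')), mul_one]
      neg_mem' := fun {m} => by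
        rintro ⟨z, hz, hm⟩
        refine ⟨z⁻¹, Subgroup.inv_mem _ hz, ?_⟩
        rw [hvneg, hm, comm_inv_right,
          comm_eq_one_iff.mpr (zin_commB (Subgroup.inv_mem _ hz)
            (Subgroup.inv_mem _ (comm_mem (h.normB ha) hz))), one_mul] }
  let β₁ : V →+ V →+ M ⧸ N₁ := AddMonoidHom.mk'
    (fun v => (QuotientAddGroup.mk' N₁).comp (β v))
    fun v v' => AddMonoidHom.ext fun w => by
      simp only [AddMonoidHom.add_apply, AddMonoidHom.comp_apply, map_add]
  have hβ₁ : ∀ x z, β₁ x z = QuotientAddGroup.mk' N₁ (β x z) := fun _ _ => rfl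
  have hconj : ∀ (g : G) (x z : V),
      val (β (φ (π g) x) (φ (π g) z)) = g * val (β x z) * g⁻¹ := by
    intro g x z
    obtain ⟨c, rfl⟩ := hmk x
    obtain ⟨d, rfl⟩ := hmk z
    rw [hπ, hφmk g c (hconjC g c), hφmk g d (hconjC g d), hβ, hβ]
    simp [commutatorElement_def, mul_assoc]
  have halt : ∀ x : V, β x x = 0 := fun x => hvinj (by
    obtain ⟨c, rfl⟩ := hmk x
    rw [hβ, hv0, commutatorElement_self])
  have hYinv : ∀ y ∈ Y, ∀ x z : V, β (φ y x) (φ y z) = β x z := by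
    intro y hy x z
    obtain ⟨k, hk, rfl⟩ := hy.1.2
    refine hvinj ?_
    rw [hconj, mul_inv_eq_iff_eq_mul]
    exact (hk _ (hvmem _)).symm
  have hainv1 : ∀ x z : V, β₁ (φ (π a) x) (φ (π a) z) = β₁ x z := by
    intro x z
    rw [hβ₁, hβ₁]
    refine (QuotientAddGroup.eq_iff_sub_mem).mpr ⟨val (β x z), hvmem _, ?_⟩
    refine mul_right_cancel (b := val (β x z)) ?_
    rw [← hvadd, sub_add_cancel, hconj, conj_eq_comm_mul]
  let next : AddSubgroup V → AddSubgroup V := fun W =>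
    AddSubgroup.closure {d | ∃ y ∈ Y, ∃ x ∈ W, φ (π a * y * (π a)⁻¹ * y⁻¹) x - x = d}
  have hnextle : ∀ W : AddSubgroup V, (∀ y ∈ Y, ∀ w ∈ W, φ y w ∈ W) → next W ≤ W := by
    intro W hW
    rw [AddSubgroup.closure_le]
    rintro _ ⟨y, hy, x, hx, rfl⟩
    exact W.sub_mem (hW _ (Y.mul_mem (hconjY _ hab' _ hy) (Y.inv_mem hy)) x hx) hx
  have hnexta : ∀ W : AddSubgroup V, (∀ w ∈ W, φ (π a) w ∈ W) →
      ∀ w ∈ next W, φ (π a) w ∈ next W := by
    intro W hW w hw
    induction hw using AddSubgroup.closure_induction with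
    | mem d hd =>
      obtain ⟨y, hy, x, hx, rfl⟩ := hd
      refine AddSubgroup.subset_closure ⟨π a * y * (π a)⁻¹, hconjY _ hab' _ hy, _, hW x hx, ?_⟩
      rw [map_sub]
      congr 1
      show (φ _ * φ (π a)) x = (φ (π a) * φ _) x
      rw [← map_mul, ← map_mul]
      congr 2
      group
    | zero => rw [map_zero]; exact AddSubgroup.zero_mem _
    | add _ _ _ _ h1 h2 => rw [map_add]; exact AddSubgroup.add_mem _ h1 h2
    | neg _ _ h1 => rw [map_neg]; exact AddSubgroup.neg_mem _ h1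
  have hnexty : ∀ W : AddSubgroup V, (∀ y ∈ Y, ∀ w ∈ W, φ y w ∈ W) →
      ∀ y ∈ Y, ∀ w ∈ next W, φ y w ∈ next W := by
    intro W hW y hy w hw
    induction hw using AddSubgroup.closure_induction with
    | mem d hd =>
      obtain ⟨y', hy', x, hx, rfl⟩ := hd
      refine AddSubgroup.subset_closure ⟨y', hy', _, hW y hy x hx, ?_⟩
      rw [map_sub, hcommφ (hYc _ (Y.mul_mem (hconjY _ hab' _ hy') (Y.inv_mem hy')) y hy)]
    | zero => rw [map_zero]; exact AddSubgroup.zero_mem _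
    | add _ _ _ _ h1 h2 => rw [map_add]; exact AddSubgroup.add_mem _ h1 h2
    | neg _ _ h1 => rw [map_neg]; exact AddSubgroup.neg_mem _ h1
  set W₂ := next W₁ with hW₂
  set W₃ := next W₂ with hW₃
  have hW₂₁ : W₂ ≤ W₁ := hnextle W₁ hyW₁
  have haW₂ := hnexta W₁ haW₁
  have hyW₂ := hnexty W₁ hyW₁
  have hW₃₂ : W₃ ≤ W₂ := hnextle W₂ hyW₂
  have haW₃ := hnexta W₂ haW₂
  have hyW₃ := hnexty W₂ hyW₂
  have hlev1 : ∀ x ∈ W₂, ∀ z ∈ W₁, β₁ x z = 0 := by
    intro x hx z hz
    induction hx using AddSubgroup.closure_induction with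
    | mem d hd =>
      obtain ⟨y, hy, x, hx, rfl⟩ := hd
      exact pairing_kill (p := p) hp5 φ β₁ hYc hYp haY (fun w _ => hVp w) haW₁ hyW₁
        (fun x _ => by rw [hβ₁, halt, map_zero]) (fun x _ z _ => hainv1 x z)
        (fun y hy x _ z _ e => by rw [hβ₁, hYinv y hy, ← hβ₁]; exact e)
        (fun x _ => ht5 a ha x) hL h4 y hy x hx z hz
    | zero => rw [map_zero]; rfl
    | add _ _ _ _ h1 h2 => rw [map_add, AddMonoidHom.add_apply, h1, h2, add_zero]
    | neg _ _ h1 => rw [map_neg, AddMonoidHom.neg_apply, h1, neg_zero]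
  have hlev2 : ∀ x ∈ W₃, ∀ z ∈ W₂, β x z = 0 := by
    intro x hx z hz
    induction hx using AddSubgroup.closure_induction with
    | mem d hd =>
      obtain ⟨y, hy, x, hx, rfl⟩ := hd
      refine pairing_kill (p := p) hp5 φ β hYc hYp haY (fun w _ => hVp w) haW₂ hyW₂
        (fun x _ => halt x) (fun x hx z hz => hvinj ?_)
        (fun y hy x _ z _ e => by rw [hYinv y hy]; exact e)
        (fun x _ => ht5 a ha x) hL (fun x hx => h4 x (hW₂₁ hx)) y hy x hx z hz
      obtain ⟨z₀, hz₀, he⟩ : β x z ∈ N₁ :=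
        (QuotientAddGroup.eq_zero_iff _).mp (hlev1 x hx z (hW₂₁ hz))
      rw [hconj, he, conj_eq_comm_mul, hq z₀ hz₀ a ha a ha, one_mul]
    | zero => rw [map_zero]; rfl
    | add _ _ _ _ h1 h2 => rw [map_add, AddMonoidHom.add_apply, h1, h2, add_zero]
    | neg _ _ h1 => rw [map_neg, AddMonoidHom.neg_apply, h1, neg_zero]
  -- the isotropic part is killed by the fourth power
  set Y₃ := Subgroup.closure {w | ∃ c : C, mk c ∈ W₃ ∧ itd [a, a] (c : G) = w} with hY₃
  have hw2C : ∀ c : C, itd [a, a] (c : G) ∈ C := fun c =>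
    itd_mem _ (fun x hx => by rw [Subgroup.normalizer_eq_top]; trivial) c.2
  have hY₃C : Y₃ ≤ C := (Subgroup.closure_le _).mpr (by rintro _ ⟨c, -, rfl⟩; exact hw2C c)
  have hw2W : ∀ c : C, mk c ∈ W₃ → mk ⟨_, hw2C c⟩ ∈ W₃ := by
    intro c hc
    obtain ⟨hm, e⟩ := hpowmk a 2 c
    rw [show mk ⟨_, hw2C c⟩ = mk ⟨_, hm⟩ from rfl, ← e, pow_two]
    exact W₃.sub_mem (haW₃ _ (W₃.sub_mem (haW₃ _ hc) hc)) (W₃.sub_mem (haW₃ _ hc) hc)
  have hY₃c : ∀ x ∈ Y₃, ∀ y ∈ Y₃, Commute x y := by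
    have h1 : Y₃ ≤ Subgroup.centralizer (Y₃ : Set G) := by
      rw [hY₃, Subgroup.centralizer_closure, Subgroup.closure_le]
      rintro _ ⟨c, hc, rfl⟩ _ ⟨c', hc', rfl⟩
      refine comm_eq_one_iff.mp ?_
      rw [← hβ ⟨_, hw2C c'⟩ ⟨_, hw2C c⟩, hlev2 _ (hw2W c' hc') _ (hW₃₂ (hw2W c hc)), hv0]
    exact fun x hx y hy => Subgroup.mem_centralizer_iff.mp (h1 hy) x hx
  have hAY₃ : A ≤ Subgroup.normalizer (Y₃ : Set G) :=
    hgen _ W₃ (by simp) haW₃ (hW₃₂.trans hW₂₁) fun e he c hc => comm_eq_one_iff.mp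
      (hfix2 e he.1 c c.2 (hbW₁ e he c (hW₂₁ (hW₃₂ hc))))
  have hcen : ∀ r ∈ A ⊓ D, ∀ y ∈ Y₃, r * y = y * r := by
    intro r hr
    have h1 : Y₃ ≤ Subgroup.centralizer ({r} : Set G) := by
      rw [hY₃, Subgroup.closure_le]
      rintro _ ⟨c, -, rfl⟩
      exact Subgroup.mem_centralizer_singleton_iff.mpr
        (comm_eq_one_iff.mp (hfix2 r hr.1 c c.2 (h.commD hr.2 c.2))).symm
    exact fun y hy => (Subgroup.mem_centralizer_singleton_iff.mp (h1 hy)).symm
  have ht4 : ∀ x ∈ W₃, ((φ (π a) - 1 : AddMonoid.End V) ^ (p - 1)) x ∈ (⊥ : AddSubgroup V) := by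
    intro x hx
    obtain ⟨c, rfl⟩ := hmk x
    obtain ⟨d, hd⟩ := Nat.le.dest (show 4 ≤ p - 1 by omega)
    rw [← hd, add_comm 4 d, pow_add]
    show ((φ (π a) - 1 : AddMonoid.End V) ^ d) (((φ (π a) - 1 : AddMonoid.End V) ^ 4) (mk c)) ∈ _
    have h0 : ((φ (π a) - 1 : AddMonoid.End V) ^ 4) (mk c) = 0 := by
      obtain ⟨hm, e⟩ := hpowmk a 4 c
      rw [e, hmk0]
      show ⁅a, ⁅a, itd [a, a] (c : G)⁆⁆ ∈ zin C
      rw [h.quadratic_of_centralized hY₃C hY₃c hAY₃ hcen ha ha
        (Subgroup.subset_closure ⟨c, hx, rfl⟩)]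
      exact Subgroup.one_mem _
    rw [h0, map_zero]
    exact AddSubgroup.zero_mem _
  have hq3 : ∀ x ∈ W₃, φ q x = x := fun x hx => sub_eq_zero.mp (AddSubgroup.mem_bot.mp
    (engel_kill (p := p) φ hYc hYp haY bot_le (fun w _ => hVp w) haW₃ hyW₃
      (fun w hw => by rw [AddSubgroup.mem_bot.mp hw, map_zero]; exact AddSubgroup.zero_mem _)
      (fun y _ w hw => by rw [AddSubgroup.mem_bot.mp hw, map_zero]; exact AddSubgroup.zero_mem _)
      ht4 hy₀ x hx))
  have hqo : (orderOf q).Coprime p := hYp.coprime_dvd_left (Subgroup.orderOf_dvd_natCard _ hqY)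
  have hkilled : ∀ d : V, ∃ k : ℕ, p ^ k • d = 0 := fun d => ⟨1, by rw [pow_one, hVp]⟩
  have hq2 : ∀ x ∈ W₂, φ q x = x := fun x hx => sub_one_eq_zero_of_sq φ hqo (hkilled _)
    (hq3 _ (AddSubgroup.subset_closure ⟨y₀, hy₀, x, hx, rfl⟩))
  have hqW₁ : ∀ x ∈ W₁, φ q x = x := fun x hx => sub_one_eq_zero_of_sq φ hqo (hkilled _)
    (hq2 _ (AddSubgroup.subset_closure ⟨y₀, hy₀, x, hx, rfl⟩))
  -- `q` is trivial on the module
  have hqV : ∀ v : V, φ q v = v := by
    by_contra hall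
    push Not at hall
    obtain ⟨v, hv⟩ := hall
    have hsteps : ∀ s : Finset (G ⧸ D), (∀ b ∈ s, b ∈ B') →
        ∃ x : V, φ q x - x ≠ 0 ∧ ∀ b ∈ s, φ b (φ q x - x) = φ q x - x := by
      intro s
      induction s using Finset.induction_on with
      | empty => exact fun _ => ⟨v, sub_ne_zero.mpr hv, by simp⟩
      | insert b s hbs ih =>
        intro hsB
        obtain ⟨x, hx, hxs⟩ := ih fun c hc => hsB c (Finset.mem_insert_of_mem hc)
        have hb : b ∈ B' := hsB b (Finset.mem_insert_self b s)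
        obtain ⟨e, he, rfl⟩ := hB'A hb
        set t := (φ (π e) - 1 : AddMonoid.End V) with ht
        have hex : ∃ n, (t ^ n) (φ q x - x) = 0 := ⟨5, ht5 e he _⟩
        obtain ⟨n, hn⟩ : ∃ n, Nat.find hex = n + 1 := by
          refine ⟨Nat.find hex - 1, (Nat.sub_add_cancel (Nat.one_le_iff_ne_zero.mpr fun h0 => ?_)).symm⟩
          have := Nat.find_spec hex
          rw [h0, pow_zero] at this
          exact hx this
        have hlast : (t ^ (n + 1)) (φ q x - x) = 0 := hn ▸ Nat.find_spec hex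
        have hprev : (t ^ n) (φ q x - x) ≠ 0 := Nat.find_min hex (by omega)
        have hcomm : ∀ (m : ℕ) (w : V) (c : G ⧸ D), π e * c = c * π e →
            φ c ((t ^ m) w) = (t ^ m) (φ c w) := by
          intro m w c hc
          have hct : Commute (φ c) t :=
            Commute.sub_right (show φ c * φ (π e) = φ (π e) * φ c by
              rw [← map_mul, ← map_mul, hc]) (Commute.one_right _)
          show (φ c * t ^ m) w = (t ^ m * φ c) w
          rw [(hct.pow_right m).eq]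
        have hd : φ q ((t ^ n) x) - (t ^ n) x = (t ^ n) (φ q x - x) := by
          rw [hcomm n x q (hqY.2 _ hb), map_sub]
        refine ⟨(t ^ n) x, hd ▸ hprev, fun c hc => ?_⟩
        rw [hd]
        rcases Finset.mem_insert.mp hc with rfl | hc
        · rw [← sub_eq_zero]
          show (φ (π e) - 1 : AddMonoid.End V) ((t ^ n) (φ q x - x)) = 0
          rw [← hlast, pow_succ']
          rfl
        · rw [hcomm n _ c (hAbcomm _ (hB'A hb) _ (hB'A (hsB c (Finset.mem_insert_of_mem hc)))),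
            hxs c hc]
    haveI : Fintype (G ⧸ D) := Fintype.ofFinite _
    obtain ⟨x, hx, hxB⟩ := hsteps (Finset.univ.filter (· ∈ B')) fun b hb =>
      (Finset.mem_filter.mp hb).2
    exact hx (sub_eq_zero.mpr (sub_one_eq_zero_of_sq φ hqo (hkilled _)
      (hqW₁ _ fun b hb => hxB b (Finset.mem_filter.mpr ⟨Finset.mem_univ b, hb⟩))))
  exact hq1 (hkill q hqY.1.1 hqY.1.2 hqV)

end CfsgLib.Conjugacy.JFive
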