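import Mathlib
import Cfsg.Prelude.Def_LocalEven
import Cfsg.Agent.Lib.Conjugacy.KInfElement
import Cfsg.Agent.Lib.Critical.Basic

/-!
If a K-infinity subgroup of `S` is not normal, an element of `S` outside `O_p(G)` has degree at most
four on the chief factors inside `O_p(G)`.
-/

set_option autoImplicit false
set_option linter.style.haveILetI false
set_option linter.unusedSectionVars false

open scoped commutatorElement

namespace CfsgLib.Conjugacy

universe u

variable {G : Type u} [Group G] [Finite G] {p : ℕ} [hp : Fact p.Prime]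

/-- A quadratic element moving a chief `p`-factor gives a quotient that is not `p`-stable. -/
theorem not_pStable_of_chief {U V : Subgroup G} [V.Normal] (hc : Cfsg.IsChiefFactor U V)
    (hUp : IsPGroup p U) {g : G}
    (hquad : ⁅⁅U, Subgroup.zpowers g⁆, Subgroup.zpowers g⁆ ≤ V)
    (hmove : ¬ ⁅U, Subgroup.zpowers g⁆ ≤ V) : ¬ Cfsg.IsNormalizerPStable p (G ⧸ V) := by
  intro hst
  haveI := hc.2.1
  set f := QuotientGroup.mk' V with hf
  have hfs : Function.Surjective f := QuotientGroup.mk'_surjective V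
  set P := U.map f with hP
  haveI hPn : P.Normal := Subgroup.Normal.map inferInstance f hfs
  have hN : Subgroup.normalizer (P : Set (G ⧸ V)) = ⊤ := Subgroup.normalizer_eq_top P
  have hker : ∀ X : Subgroup G, X ≤ V → X.map f = ⊥ := fun X h => by
    rw [Subgroup.map_eq_bot_iff, hf, QuotientGroup.ker_mk']
    exact h
  have hmem : f g ∈ Subgroup.normalizer (P : Set (G ⧸ V)) := by rw [hN]; trivial
  have hq : ⁅⁅P, Subgroup.zpowers (f g)⁆, Subgroup.zpowers (f g)⁆ = ⊥ := by
    rw [← MonoidHom.map_zpowers f g, ← Subgroup.map_commutator, ← Subgroup.map_commutator]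
    exact hker _ hquad
  have hcore := hst P (hUp.map f) (f g) hmem hq
  set C := (Subgroup.centralizer (P : Set (G ⧸ V))).subgroupOf
    (Subgroup.normalizer (P : Set (G ⧸ V))) with hC
  set R := Cfsg.pCore p (↥(Subgroup.normalizer (P : Set (G ⧸ V))) ⧸ C) with hR
  haveI : R.Normal := Fitting.pCore_normal p
  set K := (R.comap (QuotientGroup.mk' C)).map (Subgroup.normalizer (P : Set (G ⧸ V))).subtype with hK
  haveI : K.Normal := Subgroup.Normal.map inferInstance _ (by
    intro x; exact ⟨⟨x, by rw [hN]; trivial⟩, rfl⟩)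
  have hgK : f g ∈ K := ⟨⟨f g, hmem⟩, hcore, rfl⟩
  set φ : K →* MulAut ↥P := (MulAut.conjNormal (H := P)).comp K.subtype with hφ
  have hrange : IsPGroup p φ.range := by
    rintro ⟨_, ⟨x, rfl⟩⟩
    obtain ⟨y, hy, hyx⟩ := x.2
    obtain ⟨k, hk⟩ := Fitting.pCore_isPGroup p ⟨_, hy⟩
    refine ⟨k, Subtype.ext ?_⟩
    rw [Subgroup.coe_pow, Subgroup.coe_one, ← map_pow]
    refine MulEquiv.ext fun u => Subtype.ext ?_
    have hcen : y ^ p ^ k ∈ C := (QuotientGroup.eq_one_iff _).mp (by simpa using congrArg Subtype.val hk)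
    rw [hC, Subgroup.mem_subgroupOf, Subgroup.coe_pow] at hcen
    show ((MulAut.conjNormal ((x ^ p ^ k : K) : G ⧸ V) : MulAut ↥P) u : G ⧸ V) = u
    rw [MulAut.conjNormal_apply, Subgroup.coe_pow, ← hyx]
    show (y : G ⧸ V) ^ p ^ k * u * ((y : G ⧸ V) ^ p ^ k)⁻¹ = u
    rw [← hcen u u.2, mul_inv_cancel_right]
  have hP1 : P ≠ ⊥ := fun e => by
    rw [hP, Subgroup.map_eq_bot_iff, hf, QuotientGroup.ker_mk'] at e
    exact hc.1.not_ge e
  haveI : Nontrivial ↥P := (Subgroup.nontrivial_iff_ne_bot _).mpr hP1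
  have hdvd : p ∣ Nat.card ↥P := by
    obtain ⟨n, hn, hcard⟩ := (hUp.map f).nontrivial_iff_card.mp inferInstance
    exact hcard ▸ dvd_pow_self p hn.ne'
  obtain ⟨b, hb, hb1⟩ := hrange.exists_fixed_point_of_prime_dvd_card_of_fixed_point ↥P hdvd
    (a := 1) (fun r => map_one _)
  set F := P ⊓ Subgroup.centralizer (K : Set (G ⧸ V)) with hF
  have hbF : (b : G ⧸ V) ∈ F := ⟨b.2, fun x hx => by
    have h1 : φ ⟨x, hx⟩ b = b := hb ⟨_, ⟨x, hx⟩, rfl⟩
    have h2 : x * (b : G ⧸ V) * x⁻¹ = b := congrArg Subtype.val h1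
    exact mul_inv_eq_iff_eq_mul.mp h2⟩
  haveI : F.Normal := by rw [hF]; infer_instance
  have hFP : F.comap f ⊓ U = U := by
    rcases hc.2.2.2 (F.comap f ⊓ U) inferInstance (le_inf (fun v hv => by
        show f v ∈ F
        rw [show f v = 1 from (QuotientGroup.eq_one_iff v).mpr hv]; exact F.one_mem) hc.1.le)
      inf_le_right with e | e
    · exfalso
      obtain ⟨u, hu, hub⟩ := b.2
      have huV : u ∈ V := e.le ⟨show f u ∈ F by rw [hub]; exact hbF, hu⟩
      exact hb1 (Subtype.ext (hub.symm.trans ((QuotientGroup.eq_one_iff u).mpr huV)).symm)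
    · exact e
  refine hmove ?_
  rw [Subgroup.commutator_le]
  intro u hu y hy
  obtain ⟨m, rfl⟩ := Subgroup.mem_zpowers_iff.mp hy
  rw [← QuotientGroup.eq_one_iff]
  show f ⁅u, g ^ m⁆ = 1
  rw [map_commutatorElement, commutatorElement_eq_one_iff_mul_comm, map_zpow]
  exact ((inf_eq_right.mp hFP hu).2 _ (K.zpow_mem hgK m)).symm

/-- An element of small degree exists unless both K-infinity subgroups are normal. -/
theorem exists_quartic (S : Sylow p G)
    (hK : ¬ (Cfsg.inducedFunctor Cfsg.kInfLower (S : Subgroup G)).Normal ∨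
      ¬ (Cfsg.inducedFunctor Cfsg.kInfUpper (S : Subgroup G)).Normal) :
    ∃ g : G, g ∈ (S : Subgroup G) ∧ g ∉ Cfsg.pCore p G ∧
      (∀ U V : Subgroup G, Cfsg.IsChiefFactor U V → U ≤ Cfsg.pCore p G →
        Cfsg.iterCommutator U (Subgroup.zpowers g) 4 ≤ V) ∧
      ⁅⁅Cfsg.pCore p G ⊓ Subgroup.centralizer (Cfsg.pCore p G : Set G), Subgroup.zpowers g⁆,
        Subgroup.zpowers g⁆ = ⊥ ∧
      (Subgroup.centralizer (Cfsg.pCore p G : Set G) ≤ Cfsg.pCore p G →
        ∃ (N : Subgroup G) (_ : N.Normal), ¬ Cfsg.IsNormalizerPStable p (G ⧸ N)) := by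
  haveI hTn := Fitting.pCore_normal (G := G) p
  set T := Cfsg.pCore p G with hT
  have hTp : IsPGroup p T := Fitting.pCore_isPGroup p
  obtain ⟨H, hH, -, hHc, hHC⟩ := Critical.exists_isCrit hTp
  haveI := hH
  set A := H.map T.subtype with hA
  have hAT : A ≤ T := Subgroup.map_subtype_le H
  haveI : A.Normal := ConjAct.normal_of_characteristic_of_normal
  set Z := A ⊓ Subgroup.centralizer (A : Set G) with hZ
  have hA3 : ⁅T, A⁆ ≤ Z := by
    rw [Subgroup.commutator_le]
    rintro t ht _ ⟨a, ha, rfl⟩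
    have h1 := hHc (Subgroup.commutator_mem_commutator ha (Subgroup.mem_top (⟨t, ht⟩ : T)))
    rw [← commutatorElement_inv]
    refine Z.inv_mem ⟨⟨_, h1.1, by simp [commutatorElement_def]⟩, ?_⟩
    rintro _ ⟨b, hb, rfl⟩
    simpa [commutatorElement_def] using congrArg Subtype.val (h1.2 b hb)
  have hA2 : ⁅A, A⁆ ≤ Subgroup.centralizer (A : Set G) :=
    ((Subgroup.commutator_mono hAT le_rfl).trans hA3).trans inf_le_right
  have hA5 : ∀ φ : MulAut ↥T, (orderOf φ).Coprime p →
      (∀ a : ↥T, (a : G) ∈ A → φ a = a) → φ = 1 := fun φ hφ h =>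
    Critical.mulAut_eq_one hTp H hHC φ hφ fun a ha => h a (Subgroup.mem_map_of_mem _ ha)
  have hA4 : T ⊓ Subgroup.centralizer (A : Set G) = Z := by
    refine le_antisymm (fun x hx => ⟨?_, hx.2⟩) (inf_le_inf_right _ hAT)
    have h1 : (⟨x, hx.1⟩ : T) ∈ H := hHC fun y hy =>
      Subtype.ext (hx.2 y (Subgroup.mem_map_of_mem _ hy))
    exact Subgroup.mem_map_of_mem T.subtype h1
  obtain ⟨g, hgS, hgT, h3, h2, hch⟩ := exists_goodElt S A hAT hA2 hA3 hA5 hK
  have hZj : ∀ U V : Subgroup G, Cfsg.IsChiefFactor U V → U ≤ Z → PStable.itc g U 2 ≤ V :=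
    fun U V _ hU => (PStable.iterCommutator_mono hU 2).trans (le_of_eq_of_le h2 bot_le)
  have hQi : ∀ U V : Subgroup G, Cfsg.IsChiefFactor U V → U ≤ A → PStable.itc g U 3 ≤ V := by
    intro U V hc hU
    haveI := hc.2.1
    haveI := hc.2.2.1
    rcases hc.2.2.2 (U ⊓ (Z ⊔ V)) inferInstance (le_inf hc.1.le le_sup_right) inf_le_left with e | e
    · exact (le_inf (PStable.iterCommutator_le 3) (((PStable.iterCommutator_mono hU 3).trans h3).trans
        le_sup_left)).trans e.le
    · refine (PStable.iterCommutator_antitone (show 2 ≤ 3 by omega)).trans ?_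
      refine ((PStable.iterCommutator_mono (inf_eq_left.mp e) 2).trans
        (PStable.iterCommutator_sup_le V 2)).trans ?_
      rw [show Cfsg.iterCommutator Z (Subgroup.zpowers g) 2 = ⊥ from h2, bot_sup_eq]
  have hdeg := PStable.degBetween_of_centralizer (a := g) hTp hAT hZ hA3 hA4 (i := 3) (j := 2)
    (by omega) hQi hZj
  refine ⟨g, hgS, hgT, fun U V hc hU => hdeg.apply hc hU, ?_, fun hcons => ?_⟩
  · rw [eq_bot_iff, ← h2]
    refine Subgroup.commutator_mono (Subgroup.commutator_mono ?_ le_rfl) le_rfl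
    exact (inf_le_inf_left T (Subgroup.centralizer_le hAT)).trans hA4.le
  · obtain ⟨U, V, hc, hU, hquad, hmove⟩ := hch hcons
    exact ⟨V, hc.2.2.1, (haveI := hc.2.2.1; not_pStable_of_chief hc (hTp.to_le (hU.trans hAT)) hquad hmove)⟩

end CfsgLib.Conjugacy
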