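import Mathlib
import Cfsg.Prelude.Def_LocalEven
import Cfsg.Agent.Lib.ZJ.NormQuot
import Cfsg.Agent.Lib.Conjugacy.KInfQuartic
import Cfsg.Agent.Lib.Conjugacy.FusionSections

/-!
In a `p`-stable group both K-infinity subgroups control strong fusion.
-/

set_option autoImplicit false
set_option linter.style.haveILetI false
set_option linter.unusedSectionVars false

namespace CfsgLib.Conjugacy

universe u

variable {p : ℕ} [hp : Fact p.Prime]

/-- Quotients of sections are sections. -/
theorem pStable_quotient_of_sections {G : Type u} [Group G]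
    (hst : ∀ (K R : Subgroup G) [(R.subgroupOf K).Normal],
      Cfsg.IsNormalizerPStable p (↥K ⧸ R.subgroupOf K))
    {X : Type u} [Group X] (hsec : Sect G X) (N : Subgroup X) [N.Normal] :
    Cfsg.IsNormalizerPStable p (X ⧸ N) := by
  obtain ⟨K, R, hn, ⟨e⟩⟩ := exists_equiv_of_sect
    (hsec.quotient (QuotientGroup.mk' N) (QuotientGroup.mk'_surjective N))
  haveI := hn
  exact ZJ.isNormalizerPStable_of_injective e.toMonoidHom e.injective (hst K R)

theorem kInf_normal_of_pStable {G : Type u} [Group G] [Finite G]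
    (hc : Subgroup.centralizer (Cfsg.pCore p G : Set G) ≤ Cfsg.pCore p G)
    (hst : ∀ (N : Subgroup G) [N.Normal], Cfsg.IsNormalizerPStable p (G ⧸ N)) (S : Sylow p G) :
    (Cfsg.inducedFunctor Cfsg.kInfLower (S : Subgroup G)).Normal ∧
      (Cfsg.inducedFunctor Cfsg.kInfUpper (S : Subgroup G)).Normal := by
  by_contra h
  obtain ⟨g, -, -, -, -, hg⟩ := exists_quartic S (not_and_or.mp h)
  obtain ⟨N, hN, hbad⟩ := hg hc
  haveI := hN
  exact hbad (hst N)

/-- A functor normal in the constrained sections controls fusion in all sections. -/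
theorem controlsStrongFusion_kInf {G : Type u} [Group G] [Finite G]
    (hst : ∀ (K R : Subgroup G) [(R.subgroupOf K).Normal],
      Cfsg.IsNormalizerPStable p (↥K ⧸ R.subgroupOf K))
    {W : ∀ (Q : Type u) [Group Q], Subgroup Q} (hW : Cfsg.IsCharPFunctor.{u} p W)
    (hnorm : ∀ (X : Type u) [Group X] [Finite X] (T : Sylow p X),
      (Cfsg.inducedFunctor Cfsg.kInfLower (T : Subgroup X)).Normal →
        (Cfsg.inducedFunctor Cfsg.kInfUpper (T : Subgroup X)).Normal →
          (Cfsg.inducedFunctor W (T : Subgroup X)).Normal)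
    {X : Type u} [Group X] [Finite X] (hsec : Sect G X) (T : Sylow p X) :
    Cfsg.ControlsStrongFusion p (Cfsg.inducedFunctor W (T : Subgroup X)) := by
  have h𝓦 : ∀ V ∈ ({W} : Set (∀ (Q : Type u) [Group Q], Subgroup Q)),
      Cfsg.IsCharPFunctor.{u} p V := by
    rintro V rfl
    exact hW
  have hX : Controlled p {W} X := by
    refine controlled_of_local h𝓦 (local_of_quotients h𝓦 fun K R _ hc S P g hP hgP => ?_) hsec
    obtain ⟨h1, h2⟩ := kInf_normal_of_pStable hc
      (fun N _ => pStable_quotient_of_sections hst (sect_quotient K R) N) S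
    refine Ctl.step _ ⟨W, rfl, rfl⟩ ?_ hP hgP
    rw [Subgroup.normalizer_eq_top_iff.mpr (hnorm _ S h1 h2)]
    exact Subgroup.mem_top g
  refine controlsStrongFusion_of_controlled hX T (le hW _) ?_
  rintro _ ⟨V, rfl, rfl⟩
  exact le_rfl

theorem controlsStrongFusion_kInfLower {G : Type u} [Group G] [Finite G]
    (hst : ∀ (K R : Subgroup G) [(R.subgroupOf K).Normal],
      Cfsg.IsNormalizerPStable p (↥K ⧸ R.subgroupOf K))
    {X : Type u} [Group X] [Finite X] (hsec : Sect G X) (T : Sylow p X) :
    Cfsg.ControlsStrongFusion p (Cfsg.inducedFunctor.{u} Cfsg.kInfLower (T : Subgroup X)) :=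
  controlsStrongFusion_kInf hst (isCharPFunctor_kInfLower p) (fun _ _ _ _ h _ => h) hsec T

theorem controlsStrongFusion_kInfUpper {G : Type u} [Group G] [Finite G]
    (hst : ∀ (K R : Subgroup G) [(R.subgroupOf K).Normal],
      Cfsg.IsNormalizerPStable p (↥K ⧸ R.subgroupOf K))
    {X : Type u} [Group X] [Finite X] (hsec : Sect G X) (T : Sylow p X) :
    Cfsg.ControlsStrongFusion p (Cfsg.inducedFunctor.{u} Cfsg.kInfUpper (T : Subgroup X)) :=
  controlsStrongFusion_kInf hst (isCharPFunctor_kInfUpper p) (fun _ _ _ _ _ h => h) hsec T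

end CfsgLib.Conjugacy
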