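import Mathlib
import Cfsg.Prelude.Def_LocalEven
import Cfsg.Agent.Lib.Conjugacy.KInf
import Cfsg.Agent.Lib.Critical.Basic
import Cfsg.Agent.Lib.Qd.Basic
import Cfsg.Agent.Lib.SL2.Facts

/-!
In `Qd(p)` the lower K-infinity subgroup of a Sylow subgroup does not control strong fusion.
-/

set_option autoImplicit false
set_option linter.style.haveILetI false
set_option linter.unusedSectionVars false

open scoped commutatorElement MatrixGroups

namespace CfsgLib.Conjugacy

universe u

/-- In class at most two the lower K-infinity subgroup is everything. -/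
theorem kInfLower_eq_top {P : Type u} [Group P]
    (h : ⁅(⊤ : Subgroup P), (⊤ : Subgroup P)⁆ ≤ Subgroup.center P) :
    Cfsg.kInfLower P = ⊤ := by
  have hc : Subgroup.centralizer ((⊤ : Subgroup P) : Set P) = Subgroup.center P := by
    rw [Subgroup.coe_top, Subgroup.centralizer_univ]
  have hmem : ∀ Q : Subgroup P, (⊤ : Subgroup P) ∈ Cfsg.kLowerStarFamily Q := fun Q =>
    ⟨(h.trans hc.ge : (⊤ : Subgroup P) ∈ Cfsg.classTwoSubgroups P), by rw [Subgroup.normalizer_eq_top]; exact le_top, fun A _ _ _ _ _ =>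
      le_inf le_top (((Subgroup.commutator_mono le_rfl le_top).trans h).trans hc.ge)⟩
  exact top_le_iff.mp ((le_sSup (hmem _)).trans (le_iSup (Cfsg.kSeqEven P) 0))

/-- Groups of order `p ^ 3` have class at most two. -/
theorem commutator_le_center_of_card {P : Type u} [Group P] [Finite P] {p : ℕ} [hp : Fact p.Prime]
    (h : Nat.card P = p ^ 3) : ⁅(⊤ : Subgroup P), (⊤ : Subgroup P)⁆ ≤ Subgroup.center P := by
  obtain ⟨k, hk0, hk⟩ := IsPGroup.card_center_eq_prime_pow h (by norm_num)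
  have hq : Nat.card (P ⧸ Subgroup.center P) * p ^ k = p ^ 3 := by
    rw [← hk, ← h]
    exact (Subgroup.card_eq_card_quotient_mul_card_subgroup _).symm
  obtain ⟨m, hm⟩ : ∃ m, Nat.card (P ⧸ Subgroup.center P) = p ^ m := by
    obtain ⟨m, -, hm⟩ := (Nat.dvd_prime_pow hp.out).mp (Dvd.intro _ hq)
    exact ⟨m, hm⟩
  rw [hm, ← pow_add] at hq
  have hm2 : m ≤ 2 := by
    have := Nat.pow_right_injective hp.out.two_le hq
    omega
  have hcomm : ∀ a b : P ⧸ Subgroup.center P, a * b = b * a := by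
    rcases Nat.lt_or_ge m 2 with hlt | hge
    · haveI : IsCyclic (P ⧸ Subgroup.center P) := by
        rcases Nat.eq_zero_or_pos m with rfl | hpos
        · haveI := (Nat.card_eq_one_iff_unique.mp (by simpa using hm)).1
          exact isCyclic_of_subsingleton
        · exact isCyclic_of_prime_card (p := p) (by rw [hm, show m = 1 by omega, pow_one])
      exact fun a b => (inferInstance : IsMulCommutative (P ⧸ Subgroup.center P)).is_comm.comm a b
    · exact IsPGroup.commutative_of_card_eq_prime_sq (p := p) (by rw [hm, show m = 2 by omega])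
  rw [Subgroup.commutator_le]
  intro a _ b _
  rw [← QuotientGroup.eq_one_iff]
  show QuotientGroup.mk' (Subgroup.center P) ⁅a, b⁆ = 1
  rw [map_commutatorElement, commutatorElement_eq_one_iff_mul_comm]
  exact hcomm _ _

/-- `SL₂` is transitive on non-zero vectors. -/
theorem exists_mulVec_eq {F : Type*} [Field F] {v w : Fin 2 → F} (hv : v ≠ 0) (hw : w ≠ 0) :
    ∃ g : SL(2, F), g.1.mulVec v = w := by
  have key : ∀ u : Fin 2 → F, u ≠ 0 → ∃ g : SL(2, F), g.1.mulVec ![1, 0] = u := by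
    intro u hu
    by_cases h : u 0 = 0
    · have h1 : u 1 ≠ 0 := fun h1 => hu (funext fun i => by fin_cases i <;> simpa)
      refine ⟨⟨!![0, -(u 1)⁻¹; u 1, 0], by rw [Matrix.det_fin_two_of]; field_simp; ring⟩, funext fun i => ?_⟩
      fin_cases i <;> simp [Matrix.mulVec, dotProduct, Fin.sum_univ_two, h]
    · refine ⟨⟨!![u 0, 0; u 1, (u 0)⁻¹], by rw [Matrix.det_fin_two_of]; field_simp; ring⟩, funext fun i => ?_⟩
      fin_cases i <;> simp [Matrix.mulVec, dotProduct, Fin.sum_univ_two]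
  obtain ⟨a, ha⟩ := key v hv
  obtain ⟨b, hb⟩ := key w hw
  exact ⟨b * a⁻¹, by
    rw [← ha, Matrix.mulVec_mulVec, ← Matrix.SpecialLinearGroup.coe_mul, inv_mul_cancel_right, hb]⟩

theorem not_controlsStrongFusion_qd {p : ℕ} [hp : Fact p.Prime] {X : Type u} [Group X] [Finite X]
    (e : X ≃* ↥(Cfsg.qd p)) (T : Sylow p X) :
    ¬ Cfsg.ControlsStrongFusion p (Cfsg.inducedFunctor Cfsg.kInfLower (T : Subgroup X)) := by
  have hinj : ∀ {g h : SL(2, ZMod p)} {v w : Fin 2 → ZMod p},
      e.symm (Qd.el g v) = e.symm (Qd.el h w) → g = h ∧ v = w :=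
    fun he => Qd.el_inj (e.symm.injective he)
  have hcard : Nat.card X = p * ((p - 1) * (p + 1)) * p ^ 2 := by
    have hbij : Function.Bijective fun z : SL(2, ZMod p) × (Fin 2 → ZMod p) =>
        e.symm (Qd.el z.1 z.2) := by
      refine ⟨fun a b hab => Prod.ext (hinj hab).1 (hinj hab).2, fun x => ?_⟩
      obtain ⟨g, v, hgv⟩ := Qd.el_surj (e x)
      exact ⟨(g, v), by simp [hgv]⟩
    rw [← Nat.card_eq_of_bijective _ hbij, Nat.card_prod, SL2.card_SL_two', Nat.card_zmod,
      Nat.card_fun, Nat.card_zmod, Nat.card_eq_fintype_card, Fintype.card_fin]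
  have hT : Nat.card (T : Subgroup X) = p ^ 3 := by
    rw [T.card_eq_multiplicity, hcard]
    congr 1
    have h1 := hp.out.two_le
    rw [show p * ((p - 1) * (p + 1)) * p ^ 2 = p ^ 3 * ((p - 1) * (p + 1)) by ring,
      Nat.factorization_mul (pow_ne_zero _ hp.out.ne_zero)
        (Nat.mul_ne_zero (by omega) (by omega)), Finsupp.add_apply,
      hp.out.factorization_pow, Finsupp.single_eq_same, Nat.factorization_eq_zero_of_not_dvd]
    intro hd
    rcases hp.out.dvd_mul.mp hd with h | h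
    · have := Nat.le_of_dvd (by omega) h
      omega
    · exact absurd ((Nat.dvd_add_right (dvd_refl p)).mp h) hp.out.not_dvd_one
  have hU : Cfsg.inducedFunctor Cfsg.kInfLower (T : Subgroup X) = (T : Subgroup X) := by
    show (Cfsg.kInfLower (T : Subgroup X)).map (T : Subgroup X).subtype = _
    rw [kInfLower_eq_top (commutator_le_center_of_card hT), ← MonoidHom.range_eq_map,
      Subgroup.range_subtype]
  rw [hU]
  rintro ⟨T', hTT', hfus⟩
  have hTT : (T' : Subgroup X) = T := T.3 T'.2 hTT'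
  -- the translation subgroup
  let V : Subgroup X :=
    { carrier := {x | ∃ v, e.symm (Qd.el 1 v) = x}
      one_mem' := ⟨0, by rw [Qd.el_one, map_one]⟩
      mul_mem' := by
        rintro _ _ ⟨v, rfl⟩ ⟨w, rfl⟩
        exact ⟨v + w, by
          rw [← map_mul, Qd.el_mul, one_mul, Matrix.SpecialLinearGroup.coe_one, Matrix.one_mulVec]⟩
      inv_mem' := by
        rintro _ ⟨v, rfl⟩
        exact ⟨-v, by
          rw [← map_inv, Qd.el_inv, inv_one, Matrix.SpecialLinearGroup.coe_one, Matrix.one_mulVec]⟩ }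
  have hconj : ∀ g v w, e.symm (Qd.el g v) * e.symm (Qd.el 1 w) * (e.symm (Qd.el g v))⁻¹ =
      e.symm (Qd.el 1 (g.1.mulVec w)) := by
    intro g v w
    rw [← map_inv, ← map_mul, ← map_mul, Qd.el_mul, Qd.el_inv, Qd.el_mul, mul_one, mul_inv_cancel,
      Matrix.mulVec_neg, Matrix.mulVec_mulVec, ← Matrix.SpecialLinearGroup.coe_mul, mul_inv_cancel,
      Matrix.SpecialLinearGroup.coe_one, Matrix.one_mulVec]
    congr 2
    abel
  haveI hVn : V.Normal := ⟨by
    rintro _ ⟨w, rfl⟩ x
    obtain ⟨g, v, hgv⟩ := Qd.el_surj (e x)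
    exact ⟨g.1.mulVec w, by rw [← hconj g v w, hgv, e.symm_apply_apply]⟩⟩
  have hVcard : Nat.card V = p ^ 2 := by
    rw [← Nat.card_eq_of_bijective (fun v : Fin 2 → ZMod p => (⟨_, v, rfl⟩ : V))
      ⟨fun a b h => (hinj (congrArg Subtype.val h)).2, fun x => by
        obtain ⟨v, hv⟩ := x.2
        exact ⟨v, Subtype.ext hv⟩⟩, Nat.card_fun, Nat.card_zmod, Nat.card_eq_fintype_card,
      Fintype.card_fin]
  have hVT : V ≤ (T : Subgroup X) := IsPGroup.le_sylow_of_normal (IsPGroup.of_card hVcard) T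
  -- a non-trivial translation central in `T`
  haveI : Group.IsNilpotent ↥(T : Subgroup X) := T.2.isNilpotent
  have hV' : V.subgroupOf (T : Subgroup X) ≠ ⊥ := fun h => by
    have h1 := congrArg (Subgroup.map (T : Subgroup X).subtype) h
    rw [Subgroup.map_subgroupOf_eq_of_le hVT, Subgroup.map_bot] at h1
    rw [h1, Subgroup.card_bot] at hVcard
    exact (one_lt_pow₀ hp.out.one_lt two_ne_zero).ne hVcard
  obtain ⟨⟨z, hzV, hzc⟩, hz1⟩ := Subgroup.ne_bot_iff_exists_ne_one.mp
    (Critical.inf_center_ne_bot (V.subgroupOf (T : Subgroup X)) hV')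
  obtain ⟨v, hv⟩ := hzV
  have hv0 : v ≠ 0 := fun h => hz1 (Subtype.ext (Subtype.ext (by
    rw [h, Qd.el_one, map_one] at hv
    exact hv.symm)))
  -- hence all translations are central in `T`
  have hcentral : ∀ x ∈ V, ∀ t ∈ (T : Subgroup X), t * x = x * t := by
    rintro _ ⟨w, rfl⟩ t ht
    rcases eq_or_ne w 0 with rfl | hw
    · rw [Qd.el_one, map_one, mul_one, one_mul]
    obtain ⟨g, hg⟩ := exists_mulVec_eq hv0 hw
    have hzT : e.symm (Qd.el 1 v) ∈ (T' : Subgroup X) := hTT ▸ hVT ⟨v, rfl⟩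
    obtain ⟨-, h⟩ := hfus {e.symm (Qd.el 1 v)} (Set.singleton_subset_iff.mpr hzT)
    obtain ⟨x, hx, hxa⟩ := h (e.symm (Qd.el g 0)) (by
      rintro _ ⟨a, rfl, rfl⟩
      show _ * _ * _ ∈ _
      rw [hconj g 0 v]
      exact hTT ▸ hVT ⟨_, rfl⟩)
    have he := hxa _ rfl
    rw [hconj g 0 v, hg] at he
    have hxt : x⁻¹ * t * x ∈ (T : Subgroup X) := (Subgroup.mem_normalizer_iff''.mp hx t).mp ht
    have h1 := congrArg Subtype.val (Subgroup.mem_center_iff.mp hzc ⟨_, hxt⟩)
    simp only [Subgroup.coe_mul] at h1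
    rw [show ((z : X)) = e.symm (Qd.el 1 v) from hv.symm] at h1
    have h2 : t * (x * e.symm (Qd.el 1 v) * x⁻¹) = (x * e.symm (Qd.el 1 v) * x⁻¹) * t := by
      calc t * (x * e.symm (Qd.el 1 v) * x⁻¹)
          = x * ((x⁻¹ * t * x) * e.symm (Qd.el 1 v)) * x⁻¹ := by group
        _ = x * (e.symm (Qd.el 1 v) * (x⁻¹ * t * x)) * x⁻¹ := by rw [h1]
        _ = (x * e.symm (Qd.el 1 v) * x⁻¹) * t := by group
    simpa [he] using h2
  have hTV : (T : Subgroup X) ≤ V := by
    intro t ht
    obtain ⟨g, u, hgu⟩ := Qd.el_surj (e t)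
    have hg : g = 1 := by
      refine Subtype.ext (Matrix.ext fun i j => ?_)
      have h1 := hcentral _ ⟨Pi.single j 1, rfl⟩ t ht
      have h2 := hconj g u (Pi.single j 1)
      rw [hgu, e.symm_apply_apply, h1, mul_inv_cancel_right] at h2
      have h3 := congrFun (hinj h2).2 i
      rw [Matrix.mulVec_single_one] at h3
      rw [Matrix.SpecialLinearGroup.coe_one, Matrix.one_apply]
      simpa [Pi.single_apply] using h3.symm
    exact ⟨u, by rw [← hg, hgu, e.symm_apply_apply]⟩
  have := Subgroup.card_le_of_le hTV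
  rw [hT, hVcard] at this
  exact absurd ((Nat.pow_le_pow_iff_right hp.out.one_lt).mp this) (by norm_num)

end CfsgLib.Conjugacy
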