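import Mathlib
import Cfsg.Prelude.Def_LocalEven
import Cfsg.Agent.Lib.Conjugacy.TransferForms
import Cfsg.Agent.Lib.Conjugacy.TransferEngel
import Cfsg.Agent.Lib.Conjugacy.KInfQuartic

/-!
Both K-infinity subgroups control transfer for primes at least five.
-/

set_option autoImplicit false
set_option linter.style.haveILetI false
set_option linter.unusedSectionVars false

namespace CfsgLib.Conjugacy

universe u

variable {p : ℕ} [hp : Fact p.Prime]

/-- Transfer is controlled by a functor whose failure of normality produces a quartic element. -/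
theorem ok_kInf (h5 : 5 ≤ p) {W : ∀ (Q : Type u) [Group Q], Subgroup Q}
    (hW : Cfsg.IsCharPFunctor.{u} p W)
    (hor : ∀ (X : Type u) [Group X] [Finite X] (T : Sylow p X),
      ¬ (Cfsg.inducedFunctor W (T : Subgroup X)).Normal →
      ¬ (Cfsg.inducedFunctor Cfsg.kInfLower (T : Subgroup X)).Normal ∨
        ¬ (Cfsg.inducedFunctor Cfsg.kInfUpper (T : Subgroup X)).Normal)
    (G : Type u) [Group G] [Finite G] : Ok p {W} G := by
  have h𝓦 : ∀ V ∈ ({W} : Set (∀ (Q : Type u) [Group Q], Subgroup Q)),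
      Cfsg.IsCharPFunctor.{u} p V := by
    rintro V rfl
    exact hW
  refine ok_of_core (G₀ := G) h𝓦 (fun X _ _ _ T => derived_le_focalJoin h𝓦 ⟨W, rfl⟩ T.2)
    (fun X _ _ _ hIH _ T => ?_) (Sect.refl G)
  haveI := Fitting.pCore_normal (G := X) p
  by_contra hbad
  by_cases hnorm : (Cfsg.inducedFunctor W (T : Subgroup X)).Normal
  · refine hbad (le_trans ?_ (le_focalJoin (Set.mem_singleton W) _))
    rw [Subgroup.normalizer_eq_top_iff.mpr hnorm]
    exact le_inf ((Subgroup.commutator_le_left (Cfsg.pCore p X) ⊤).trans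
      (IsPGroup.le_sylow_of_normal (Fitting.pCore_isPGroup p) T))
      (Subgroup.commutator_mono le_top le_rfl)
  obtain ⟨g, hgT, hgD, hg, -, -⟩ := exists_quartic T (hor X T hnorm)
  refine no_engel h𝓦 ⟨W, rfl⟩ hIH T hbad hgT hgD fun U V hUV hUD => ?_
  haveI := hUV.2.1
  exact (PStable.iterCommutator_antitone (show 4 ≤ p - 1 by omega)).trans (hg U V hUV hUD)

theorem ok_kInfLower (h5 : 5 ≤ p) (G : Type u) [Group G] [Finite G] :
    Ok.{u} p {Cfsg.kInfLower} G :=
  ok_kInf h5 (isCharPFunctor_kInfLower p) (fun _ _ _ _ => Or.inl) G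

theorem ok_kInfUpper (h5 : 5 ≤ p) (G : Type u) [Group G] [Finite G] :
    Ok.{u} p {Cfsg.kInfUpper} G :=
  ok_kInf h5 (isCharPFunctor_kInfUpper p) (fun _ _ _ _ => Or.inr) G

/-- `S ∩ G' = S ∩ N(W(S))'`. -/
theorem inf_commutator_eq_of_ok {W : ∀ (Q : Type u) [Group Q], Subgroup Q} {G : Type u} [Group G]
    [Finite G] (h : Ok p {W} G) (S : Sylow p G) :
    (S : Subgroup G) ⊓ commutator G = (S : Subgroup G) ⊓
      ⁅Subgroup.normalizer (Cfsg.inducedFunctor W (S : Subgroup G) : Set G),
        Subgroup.normalizer (Cfsg.inducedFunctor W (S : Subgroup G) : Set G)⁆ :=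
  le_antisymm ((h S).trans (focalJoin_singleton W _).le)
    (inf_le_inf_left _ (Subgroup.commutator_mono le_top le_top))

end CfsgLib.Conjugacy
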