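import Mathlib
import Cfsg.Prelude.Def_ConjugacyFunctors
import Cfsg.Agent.Lib.Conjugacy.CentralFunctor

/-!
Local-to-global control of strong fusion and of transfer by a set of conjugacy functors.
-/

set_option autoImplicit false
set_option linter.style.haveILetI false
set_option linter.unusedSectionVars false

open scoped commutatorElement

namespace CfsgLib.Conjugacy

open CfsgLib.Transfer

variable {G : Type*} [Group G] [Finite G] {p : ℕ} [hp : Fact p.Prime]

/-- A conjugation family closed under the passage from `U` to `W (N_S(U))`, up to conjugation. -/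
structure NiceFam (S : Sylow p G) (𝓦 : Set (Subgroup G → Subgroup G)) (𝓕 : Set (Subgroup G)) : Prop where
  le : ∀ U ∈ 𝓕, U ≤ (S : Subgroup G)
  full : ∀ U ∈ 𝓕, FullyNorm p (S : Subgroup G) U
  ex : ∀ T : Subgroup G, T ≤ (S : Subgroup G) → ∃ g : G, cj g T ∈ 𝓕
  next : ∀ U ∈ 𝓕, ∀ W ∈ 𝓦, ∃ h : G,
    cj h (W ((S : Subgroup G) ⊓ Subgroup.normalizer (U : Set G))) ∈ 𝓕 ∧
    cj h ((S : Subgroup G) ⊓ Subgroup.normalizer
      ((W ((S : Subgroup G) ⊓ Subgroup.normalizer (U : Set G)) : Subgroup G) : Set G)) ≤ (S : Subgroup G)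

variable {S : Sylow p G} {𝓦 : Set (Subgroup G → Subgroup G)} {𝓕 : Set (Subgroup G)}

theorem niceFam_fullyNorm (h𝓦 : ∀ W ∈ 𝓦, Cfsg.IsConjugacyFunctor p W) :
    NiceFam S 𝓦 {U | U ≤ (S : Subgroup G) ∧ FullyNorm p (S : Subgroup G) U} := by
  have key : ∀ V : Subgroup G, V ≤ (S : Subgroup G) → ∃ h : G,
      (cj h V ≤ (S : Subgroup G) ∧ FullyNorm p (S : Subgroup G) (cj h V)) ∧
      cj h ((S : Subgroup G) ⊓ Subgroup.normalizer (V : Set G)) ≤ (S : Subgroup G) := by
    intro V hV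
    obtain ⟨R, hXR, hR⟩ := exists_sylow_inf_not_dvd_relIndex
      (inf_le_right : (S : Subgroup G) ⊓ Subgroup.normalizer (V : Set G) ≤ _) (S.2.to_le inf_le_left)
    obtain ⟨h, hh⟩ := exists_map_conj_sylow_eq R S
    have hle : cj h ((S : Subgroup G) ⊓ Subgroup.normalizer (V : Set G)) ≤ (S : Subgroup G) :=
      (cj_mono h hXR).trans hh.le
    refine ⟨h, ⟨(cj_mono h (le_inf hV Subgroup.le_normalizer)).trans hle, fun hd => hR ?_⟩, hle⟩
    have hn : cj h (Subgroup.normalizer (V : Set G)) =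
        Subgroup.normalizer ((cj h V : Subgroup G) : Set G) :=
      Subgroup.map_equiv_normalizer_eq _ (MulAut.conj h)
    have hle2 : cj h ((R : Subgroup G) ⊓ Subgroup.normalizer (V : Set G)) ≤
        (S : Subgroup G) ⊓ Subgroup.normalizer ((cj h V : Subgroup G) : Set G) :=
      le_inf ((cj_mono h inf_le_left).trans hh.le) ((cj_mono h inf_le_right).trans hn.le)
    have h2 := hd.trans (Subgroup.relIndex_dvd_of_le_left _ hle2)
    rwa [← hn, cj, cj, Subgroup.relIndex_map_map_of_injective _ _ (MulAut.conj h).injective] at h2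
  refine ⟨fun U hU => hU.1, fun U hU => hU.2, fun T hT => ?_, fun U hU W hW => ?_⟩
  · obtain ⟨h, h1, -⟩ := key T hT
    exact ⟨h, h1⟩
  · obtain ⟨h, h1, h2⟩ := key _ (((h𝓦 W hW _ (S.2.to_le inf_le_left)).1).trans inf_le_left)
    exact ⟨h, h1, h2⟩

theorem niceFam_wellPlaced {W : Subgroup G → Subgroup G} (hW : Cfsg.IsConjugacyFunctor p W) :
    NiceFam S {W} {U | Cfsg.IsWellPlaced p W (S : Subgroup G) U} := by
  refine ⟨fun U hU => hU.1, fun U hU => hU.2 0, fun T hT => exists_wellPlaced hW S hT,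
    fun U hU W' hW' => ?_⟩
  obtain rfl : W' = W := hW'
  refine ⟨1, ?_, by rw [cj_one]; exact inf_le_left⟩
  rw [cj_one]
  refine ⟨((hW _ (S.2.to_le inf_le_left)).1).trans inf_le_left, fun i => ?_⟩
  have hshift : ∀ i, Cfsg.functorTower W' (S : Subgroup G)
      (W' ((S : Subgroup G) ⊓ Subgroup.normalizer (U : Set G))) i =
        Cfsg.functorTower W' (S : Subgroup G) U (i + 1) := by
    intro i
    induction i with
    | zero => rfl
    | succ i ih =>
      show W' _ = W' _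
      rw [ih]
  rw [hshift i]
  exact hU.2 (i + 1)

variable {R : Subgroup G → G → Prop}

theorem StepRel.bot (hR : StepRel (S : Subgroup G) R) (x : G) : R ⊥ x :=
  hR.congr ⊥ 1 x (hR.refl ⊥ bot_le) fun a ha => by rw [Subgroup.mem_bot.mp ha]; group

theorem rel_of_chain (hR : StepRel (S : Subgroup G) R) (h𝓕 : ∀ U ∈ 𝓕, U ≤ (S : Subgroup G)) {k : ℕ}
    (h : ∀ U ∈ 𝓕, k ≤ Nat.card U → ∀ x ∈ Subgroup.normalizer (U : Set G), R U x) :
    ∀ (l : List (Subgroup G × G)) (P : Subgroup G), FamChain 𝓕 P l → k ≤ Nat.card P →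
      P ≤ (S : Subgroup G) → R P (l.map Prod.snd).prod⁻¹
  | [], P, _, _, hP => by simpa using hR.refl P hP
  | (U, x) :: l, P, hl, hk, hP => by
    have hU : k ≤ Nat.card U := hk.trans (Subgroup.card_le_of_le hl.2.2.1)
    have h1 : R P x⁻¹ := hR.mono U P _ (h U hl.1 hU x⁻¹ (Subgroup.inv_mem _ hl.2.1)) hl.2.2.1
    have hcard : k ≤ Nat.card ↥(cj x⁻¹ P) := by rwa [card_cj]
    have hle : cj x⁻¹ P ≤ U := (cj_mono _ hl.2.2.1).trans
      (cj_eq_of_mem_normalizer (Subgroup.inv_mem _ hl.2.1)).le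
    have h2 := rel_of_chain hR h𝓕 h l _ hl.2.2.2 hcard (hle.trans (h𝓕 U hl.1))
    simpa [mul_inv_rev] using hR.comp P _ _ h1 h2

/-- Downward induction on the order of the subgroup moved. -/
theorem rel_all (hR : StepRel (S : Subgroup G) R) (hN : NiceFam S 𝓦 𝓕)
    (hstep : ∀ k : ℕ, (∀ (P : Subgroup G) (g : G), k < Nat.card P → P ≤ (S : Subgroup G) →
        cj g P ≤ (S : Subgroup G) → R P g) →
      ∀ U ∈ 𝓕, U ≠ ⊥ → Nat.card U = k → ∀ x ∈ Subgroup.normalizer (U : Set G), R U x) :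
    ∀ (P : Subgroup G) (g : G), P ≤ (S : Subgroup G) → cj g P ≤ (S : Subgroup G) → R P g := by
  suffices ∀ (m : ℕ) (P : Subgroup G) (g : G), Nat.card (S : Subgroup G) < Nat.card P + m →
      P ≤ (S : Subgroup G) → cj g P ≤ (S : Subgroup G) → R P g from
    fun P g hP hgP => this (Nat.card (S : Subgroup G) + 1) P g (by omega) hP hgP
  intro m
  induction m with
  | zero => exact fun P g hlt hP _ => absurd hlt (by simpa using Subgroup.card_le_of_le hP)
  | succ m ih =>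
    intro P g hlt hP hgP
    obtain ⟨l, hl, hprod⟩ := fam_of_fullyNorm (𝓕 := 𝓕) S
      (fun T hT => by
        obtain ⟨t, ht⟩ := hN.ex T hT
        exact ⟨_, ht, ⟨t, rfl⟩, hN.full _ ht⟩)
      hN.le (Nat.card (S : Subgroup G) + 1) P (by omega) g⁻¹ hP (by rwa [inv_inv])
    have h := rel_of_chain hR hN.le (k := Nat.card P) (fun U hU hk x hx => ?_) l P hl le_rfl hP
    · rwa [hprod, inv_inv] at h
    by_cases hb : U = ⊥
    · subst hb; exact hR.bot x
    rcases hk.lt_or_eq with h | h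
    · exact ih U x (by omega) (hN.le U hU) ((cj_eq_of_mem_normalizer hx).le.trans (hN.le U hU))
    · exact hstep (Nat.card P) (fun P' g' hc hP' hg' => ih P' g' (by omega) hP' hg')
        U hU hb h.symm x hx

/-- The climb from `U` to `W (N_S(U))`. -/
theorem climb (h𝓦 : ∀ W ∈ 𝓦, Cfsg.IsConjugacyFunctor p W) (hN : NiceFam S 𝓦 𝓕) (k : ℕ)
    (Ψ : Subgroup G → Prop)
    (hstep : ∀ U ∈ 𝓕, U ≠ ⊥ →
      (∀ W ∈ 𝓦, (S : Subgroup G) ⊓ Subgroup.normalizer (U : Set G) = (S : Subgroup G) ∨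
        ∃ (h : G) (V R' : Subgroup G),
          V = W ((S : Subgroup G) ⊓ Subgroup.normalizer (U : Set G)) ∧
          R' = (S : Subgroup G) ⊓ Subgroup.normalizer (V : Set G) ∧ k < Nat.card R' ∧
          (S : Subgroup G) ⊓ Subgroup.normalizer (U : Set G) ≤ R' ∧
          cj h R' ≤ (S : Subgroup G) ⊓ Subgroup.normalizer ((cj h V : Subgroup G) : Set G) ∧
          cj h (Subgroup.normalizer (V : Set G)) = Subgroup.normalizer ((cj h V : Subgroup G) : Set G) ∧
          Ψ (cj h V)) →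
      Ψ U) :
    ∀ U ∈ 𝓕, U ≠ ⊥ → k ≤ Nat.card ↥((S : Subgroup G) ⊓ Subgroup.normalizer (U : Set G)) → Ψ U := by
  suffices ∀ (m : ℕ), ∀ U ∈ 𝓕, U ≠ ⊥ →
      k ≤ Nat.card ↥((S : Subgroup G) ⊓ Subgroup.normalizer (U : Set G)) →
      Nat.card (S : Subgroup G) < Nat.card ↥((S : Subgroup G) ⊓ Subgroup.normalizer (U : Set G)) + m →
      Ψ U from
    fun U hU hU1 hk => this (Nat.card (S : Subgroup G) + 1) U hU hU1 hk (by omega)
  intro m
  induction m with
  | zero => exact fun U _ _ _ hlt => absurd hlt (by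
      simpa using Subgroup.card_le_of_le (inf_le_left :
        (S : Subgroup G) ⊓ Subgroup.normalizer (U : Set G) ≤ S))
  | succ m ih =>
    intro U hU hU1 hk hlt
    refine hstep U hU hU1 fun W hW => ?_
    set M := (S : Subgroup G) ⊓ Subgroup.normalizer (U : Set G) with hM
    by_cases hMS : M = (S : Subgroup G)
    · exact Or.inl hMS
    right
    obtain ⟨h, hh𝓕, hhS⟩ := hN.next U hU W hW
    set V := W M with hV
    set R' := (S : Subgroup G) ⊓ Subgroup.normalizer (V : Set G) with hR'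
    have hMp : IsPGroup p M := S.2.to_le inf_le_left
    have hlt' : M < R' := by
      refine lt_of_lt_of_le (lt_inf_normalizer S.2 (lt_of_le_of_ne inf_le_left hMS))
        (inf_le_inf_left _ fun y hy => ?_)
      have h1 := (h𝓦 W hW M hMp).2.2 y
      rw [show M.map (MulAut.conj y).toMonoidHom = M from cj_eq_of_mem_normalizer hy] at h1
      exact Subgroup.mem_normalizer_iff_map_conj_eq.mpr h1.symm
    have hc : Nat.card M < Nat.card R' := lt_of_le_of_ne (Subgroup.card_le_of_le hlt'.le)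
      fun e => hlt'.ne (Subgroup.eq_of_le_of_card_ge hlt'.le e.ge)
    have hn : cj h (Subgroup.normalizer (V : Set G)) =
        Subgroup.normalizer ((cj h V : Subgroup G) : Set G) :=
      Subgroup.map_equiv_normalizer_eq _ (MulAut.conj h)
    have hle : cj h R' ≤ (S : Subgroup G) ⊓ Subgroup.normalizer ((cj h V : Subgroup G) : Set G) :=
      le_inf hhS ((cj_mono h inf_le_right).trans hn.le)
    have hM1 : M ≠ ⊥ := fun e =>
      hU1 (le_bot_iff.mp ((le_inf (hN.le U hU) Subgroup.le_normalizer).trans e.le))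
    have hV1 : cj h V ≠ ⊥ := fun e => (h𝓦 W hW M hMp).2.1 hM1
      ((Subgroup.map_eq_bot_iff_of_injective _ (MulAut.conj h).injective).mp e)
    have hc2 := Subgroup.card_le_of_le hle
    rw [card_cj] at hc2
    exact ⟨h, V, R', rfl, rfl, by omega, hlt'.le, hle, hn,
      ih _ hh𝓕 hV1 (by omega) (by omega)⟩

/-- Conjugating one Sylow subgroup of `N` onto another. -/
theorem exists_cj_eq_of_relIndex {N T M : Subgroup G} (hT : T ≤ N) (hTp : IsPGroup p T)
    (hTi : ¬ p ∣ T.relIndex N) (hM : M ≤ N) (hMp : IsPGroup p M) (hMi : ¬ p ∣ M.relIndex N) :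
    ∃ m ∈ N, cj m T = M := by
  obtain ⟨m, hm, hle⟩ := exists_cj_le_of_relIndex hM hMp hMi hT hTp
  obtain ⟨m', -, hle'⟩ := exists_cj_le_of_relIndex hT hTp hTi hM hMp
  refine ⟨m, hm, Subgroup.eq_of_le_of_card_ge hle ?_⟩
  have h := Subgroup.card_le_of_le hle'
  rw [card_cj] at h ⊢
  exact h

/-- Local control of strong fusion gives global control. -/
theorem ctl_local_to_global (h𝓦 : ∀ W ∈ 𝓦, Cfsg.IsConjugacyFunctor p W) (hN : NiceFam S 𝓦 𝓕)
    (hloc : ∀ U ∈ 𝓕, U ≠ ⊥ → ∃ T : Subgroup G, T ≤ Subgroup.normalizer (U : Set G) ∧ IsPGroup p T ∧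
      ¬ p ∣ T.relIndex (Subgroup.normalizer (U : Set G)) ∧
      ∀ (P : Subgroup G) (g : G), P ≤ T → g ∈ Subgroup.normalizer (U : Set G) → cj g P ≤ T →
        Ctl T {N' | ∃ W ∈ 𝓦, N' = Subgroup.normalizer (U : Set G) ⊓
          Subgroup.normalizer ((W T : Subgroup G) : Set G)} P g)
    (P : Subgroup G) (g : G) (hP : P ≤ (S : Subgroup G)) (hgP : cj g P ≤ (S : Subgroup G)) :
    Ctl (S : Subgroup G)
      {N' | ∃ W ∈ 𝓦, N' = Subgroup.normalizer ((W (S : Subgroup G) : Subgroup G) : Set G)} P g := by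
  set Ns : Set (Subgroup G) :=
    {N' | ∃ W ∈ 𝓦, N' = Subgroup.normalizer ((W (S : Subgroup G) : Subgroup G) : Set G)} with hNs
  refine rel_all (stepRel_ctl _ Ns) hN (fun k IH U hU hU1 hk x hx => ?_) P g hP hgP
  refine climb h𝓦 hN k (fun U => ∀ Q n, n ∈ Subgroup.normalizer (U : Set G) →
      Q ≤ (S : Subgroup G) ⊓ Subgroup.normalizer (U : Set G) →
      cj n Q ≤ (S : Subgroup G) ⊓ Subgroup.normalizer (U : Set G) →
      Ctl (S : Subgroup G) Ns Q n) (fun U hU hU1 hup Q n hn hQ hnQ => ?_) U hU hU1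
    (hk ▸ Subgroup.card_le_of_le (le_inf (hN.le U hU) Subgroup.le_normalizer)) U x hx
    (le_inf (hN.le U hU) Subgroup.le_normalizer)
    ((cj_eq_of_mem_normalizer hx).le.trans (le_inf (hN.le U hU) Subgroup.le_normalizer))
  set N := Subgroup.normalizer (U : Set G) with hNdef
  set M := (S : Subgroup G) ⊓ N with hM
  obtain ⟨T, hTN, hTp, hTi, hctl⟩ := hloc U hU hU1
  obtain ⟨m, hm, hmM⟩ := exists_cj_eq_of_relIndex hTN hTp hTi (inf_le_right : M ≤ N)
    (S.2.to_le inf_le_left) (hN.full U hU)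
  have hback : cj m⁻¹ M = T := by
    have e := congrArg (cj m⁻¹) hmM
    rw [cj_cj, inv_mul_cancel, cj_one] at e
    exact e.symm
  have h0 := hctl (cj m⁻¹ Q) (m⁻¹ * n * m) ((cj_mono _ hQ).trans hback.le)
    (N.mul_mem (N.mul_mem (N.inv_mem hm) hn) hm) (by
      rw [cj_cj, show m⁻¹ * n * m * m⁻¹ = m⁻¹ * n by group, ← cj_cj]
      exact (cj_mono _ hnQ).trans hback.le)
  have h1 := h0.map (S' := M) (Ns' := {N' | ∃ W ∈ 𝓦, N' = N ⊓
      Subgroup.normalizer ((W M : Subgroup G) : Set G)}) (MulAut.conj m).toMonoidHom hmM.le (by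
    rintro _ ⟨W, hW, rfl⟩
    exact ⟨_, ⟨W, hW, rfl⟩,
      (cj_normalizer_inf (h𝓦 W hW) hTp hm).1.trans (le_of_eq (by rw [hmM]))⟩)
  rw [show (cj m⁻¹ Q).map (MulAut.conj m).toMonoidHom = Q by
      show cj m (cj m⁻¹ Q) = Q
      rw [cj_cj, mul_inv_cancel, cj_one],
    show (MulAut.conj m).toMonoidHom (m⁻¹ * n * m) = n by simp [mul_assoc]] at h1
  refine h1.bind ?_ inf_le_left
  rintro _ ⟨W, hW, rfl⟩ Q' n' hn' hQ' hnQ'
  rcases hup W hW with e | ⟨h, V, R', rfl, rfl, hk', hMR, hle, hnorm, hrec⟩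
  · exact .step _ ⟨W, hW, rfl⟩ (e ▸ hn'.2) (hQ'.trans inf_le_left) (hnQ'.trans inf_le_left)
  · have hh : Ctl (S : Subgroup G) Ns ((S : Subgroup G) ⊓
        Subgroup.normalizer ((W M : Subgroup G) : Set G)) h :=
      IH _ h hk' inf_le_left (hle.trans inf_le_left)
    have h2 : Ctl (S : Subgroup G) Ns (cj h Q') (h * n' * h⁻¹) := by
      refine hrec _ _ (hnorm ▸ conj_mem_cj hn'.2) ((cj_mono h (hQ'.trans hMR)).trans hle) ?_
      rw [cj_cj, inv_mul_cancel_right, ← cj_cj]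
      exact (cj_mono h (hnQ'.trans hMR)).trans hle
    have h3 := (hh.mono (hnQ'.trans hMR)).symm
    have h4 := (hh.mono (hQ'.trans hMR)).comp h2
    rw [inv_mul_cancel_right] at h4
    rw [cj_cj] at h3
    have h5 := h4.comp h3
    rwa [inv_mul_cancel_left] at h5

/-- Local control of transfer gives global control. -/
theorem transfer_local_to_global (h𝓦 : ∀ W ∈ 𝓦, Cfsg.IsConjugacyFunctor p W) (hN : NiceFam S 𝓦 𝓕)
    (hloc : ∀ U ∈ 𝓕, U ≠ ⊥ → ∃ T : Subgroup G, T ≤ Subgroup.normalizer (U : Set G) ∧ IsPGroup p T ∧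
      ¬ p ∣ T.relIndex (Subgroup.normalizer (U : Set G)) ∧
      T ⊓ ⁅Subgroup.normalizer (U : Set G), Subgroup.normalizer (U : Set G)⁆ ≤
        ⨆ W ∈ 𝓦, T ⊓ ⁅Subgroup.normalizer (U : Set G) ⊓ Subgroup.normalizer ((W T : Subgroup G) : Set G),
          Subgroup.normalizer (U : Set G) ⊓ Subgroup.normalizer ((W T : Subgroup G) : Set G)⁆) :
    (S : Subgroup G) ⊓ commutator G =
      ⨆ W ∈ 𝓦, (S : Subgroup G) ⊓ ⁅Subgroup.normalizer ((W (S : Subgroup G) : Subgroup G) : Set G),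
        Subgroup.normalizer ((W (S : Subgroup G) : Subgroup G) : Set G)⁆ := by
  set F := ⨆ W ∈ 𝓦, (S : Subgroup G) ⊓ ⁅Subgroup.normalizer ((W (S : Subgroup G) : Subgroup G) : Set G),
    Subgroup.normalizer ((W (S : Subgroup G) : Subgroup G) : Set G)⁆ with hF
  refine le_antisymm ?_ (iSup₂_le fun W _ => inf_le_inf_left _ (Subgroup.commutator_mono le_top le_top))
  have hfoc : ∀ (P : Subgroup G) (g : G), P ≤ (S : Subgroup G) → cj g P ≤ (S : Subgroup G) →
      Focal F P g := by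
    refine rel_all (stepRel_focal _ F) hN fun k IH U hU hU1 hk x hx a ha => ?_
    refine climb h𝓦 hN k (fun U => (S : Subgroup G) ⊓ Subgroup.normalizer (U : Set G) ⊓
        ⁅Subgroup.normalizer (U : Set G), Subgroup.normalizer (U : Set G)⁆ ≤ F)
      (fun U hU hU1 hup => ?_) U hU hU1
      (hk ▸ Subgroup.card_le_of_le (le_inf (hN.le U hU) Subgroup.le_normalizer)) ⟨?_, ?_⟩
    · set N := Subgroup.normalizer (U : Set G) with hNdef
      set M := (S : Subgroup G) ⊓ N with hM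
      obtain ⟨T, hTN, hTp, hTi, hle⟩ := hloc U hU hU1
      obtain ⟨m, hm, hmM⟩ := exists_cj_eq_of_relIndex hTN hTp hTi (inf_le_right : M ≤ N)
        (S.2.to_le inf_le_left) (hN.full U hU)
      have hmN : cj m N = N := cj_eq_of_mem_normalizer (Subgroup.le_normalizer hm)
      have h1 : M ⊓ ⁅N, N⁆ ≤ cj m (T ⊓ ⁅N, N⁆) := by
        rw [cj, Subgroup.map_inf _ _ _ (MulAut.conj m).injective, Subgroup.map_commutator]
        exact inf_le_inf hmM.ge (Subgroup.commutator_mono hmN.ge hmN.ge)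
      refine h1.trans ((cj_mono m hle).trans ?_)
      rw [cj, Subgroup.map_le_iff_le_comap]
      refine iSup₂_le fun W hW => ?_
      rw [← Subgroup.map_le_iff_le_comap, Subgroup.map_inf _ _ _ (MulAut.conj m).injective,
        Subgroup.map_commutator]
      have h2 := (cj_normalizer_inf (U := U) (h𝓦 W hW) hTp hm).1
      rw [show cj m T = M from hmM] at h2
      refine (inf_le_inf (le_of_eq hmM) (Subgroup.commutator_mono (h2.trans inf_le_right)
        (h2.trans inf_le_right))).trans ?_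
      rcases hup W hW with e | ⟨h, V, R', rfl, rfl, hk', hMR, hle', hnorm, hrec⟩
      · rw [e]
        exact le_iSup₂_of_le W hW (inf_le_inf_right _ inf_le_left)
      · intro z hz
        obtain ⟨hzM, hzN⟩ := Subgroup.mem_inf.mp hz
        have h4 : h * z * h⁻¹ ∈ F := by
          refine hrec ⟨hle' (conj_mem_cj (hMR hzM)), ?_⟩
          have := Subgroup.mem_map_of_mem (MulAut.conj h).toMonoidHom hzN
          rw [Subgroup.map_commutator] at this
          exact (Subgroup.commutator_mono hnorm.le hnorm.le) this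
        have h5 := IH _ h hk' inf_le_left (hle'.trans inf_le_left) z (hMR hzM)
        have h6 := F.mul_mem h4 (F.inv_mem h5)
        rwa [mul_inv_rev, inv_inv, mul_inv_cancel_left] at h6
    · exact Subgroup.mul_mem _ (Subgroup.inv_mem _ ⟨hN.le U hU ha, Subgroup.le_normalizer ha⟩)
        ⟨hN.le U hU ((Subgroup.mem_normalizer_iff.mp hx a).mp ha),
          Subgroup.le_normalizer ((Subgroup.mem_normalizer_iff.mp hx a).mp ha)⟩
    · rw [show a⁻¹ * (x * a * x⁻¹) = ⁅a⁻¹, x⁆ by simp [commutatorElement_def, mul_assoc]]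
      exact Subgroup.commutator_mem_commutator (Subgroup.le_normalizer (U.inv_mem ha)) hx
  rw [inf_comm, Subgroup.commutator_inf_eq_focalSubgroup S, Subgroup.focalSubgroup_def,
    Subgroup.closure_le]
  rintro z ⟨hzS, x, hxS, u, rfl⟩
  have e : ⁅x, u⁆ = x⁻¹⁻¹ * (u * x⁻¹ * u⁻¹) := by rw [commutatorElement_def]; group
  have hux : u * x⁻¹ * u⁻¹ ∈ (S : Subgroup G) := by
    have h1 := (S : Subgroup G).mul_mem ((S : Subgroup G).inv_mem hxS) hzS
    rwa [show x⁻¹ * ⁅x, u⁆ = u * x⁻¹ * u⁻¹ by rw [commutatorElement_def]; group] at h1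
  rw [SetLike.mem_coe, e]
  exact hfoc (Subgroup.zpowers x⁻¹) u (Subgroup.zpowers_le.mpr ((S : Subgroup G).inv_mem hxS))
    (by rw [cj, MonoidHom.map_zpowers, Subgroup.zpowers_le]; exact hux) x⁻¹ (Subgroup.mem_zpowers _)

/-- From the definition to `Ctl`. -/
theorem ctl_of_family_in {N : Subgroup G} (h : Cfsg.FamilyControlsStrongFusionIn p 𝓦 N) :
    ∃ T : Subgroup G, T ≤ N ∧ IsPGroup p T ∧ ¬ p ∣ T.relIndex N ∧
      ∀ (P : Subgroup G) (g : G), P ≤ T → g ∈ N → cj g P ≤ T →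
        Ctl T {N' | ∃ W ∈ 𝓦, N' = N ⊓ Subgroup.normalizer ((W T : Subgroup G) : Set G)} P g := by
  obtain ⟨T, hT, hTp, hTi, hc⟩ := h
  refine ⟨T, hT, hTp, hTi, fun P g hP hg hgP => ?_⟩
  obtain ⟨n, c, c0, cs, ci, cl⟩ := hc (P : Set G) g hg hP (by
    rintro _ ⟨a, ha, rfl⟩; exact hgP (conj_mem_cj ha))
  set c' : ℕ → G := fun i => if hi : i < n + 1 then c ⟨i, hi⟩ else 1 with hc'
  have h1 : Ctl T {N' | ∃ W ∈ 𝓦, N' = N ⊓ Subgroup.normalizer ((W T : Subgroup G) : Set G)} P (c' n) := by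
    refine Ctl.of_chain n c' ?_ (fun i hi => ?_) fun i hi => ?_
    · simp only [hc', Nat.zero_lt_succ, dite_true]; exact c0
    · obtain ⟨W, hW, hm⟩ := cs ⟨i, hi⟩
      refine ⟨_, ⟨W, hW, rfl⟩, ?_⟩
      simp only [hc', show i < n + 1 by omega, show i + 1 < n + 1 by omega, dite_true]
      exact hm
    · rintro _ ⟨a, ha, rfl⟩
      simp only [hc', show i < n + 1 by omega, dite_true]
      exact ci _ ⟨a, ha, rfl⟩
  refine h1.congr fun a ha => ?_
  simp only [hc', show n < n + 1 by omega, dite_true]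
  exact cl a ha

end CfsgLib.Conjugacy
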